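import Mathlib.RepresentationTheory.Character
import Mathlib.Analysis.Complex.Basic
import Mathlib.GroupTheory.Index
import Mathlib.Tactic.FieldSimp
import Cfsg.Prelude.Def_Characters

/-!
# Induced functions: basic computations

Values of `Cfsg.indFun`, projection formula, Frobenius reciprocity, and the special case of
a normal subgroup and an invariant function.
-/

set_option autoImplicit false

open scoped ComplexConjugate
open Cfsg

namespace Cfsg.Agent.CharactersDeep.NormalInd

variable {G : Type*} [Group G]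

theorem extendByZero_coe (H : Subgroup G) (θ : H → ℂ) (h : H) :
    extendByZero H θ (h : G) = θ h :=
  Subtype.val_injective.extend_apply θ 0 h

theorem extendByZero_of_mem (H : Subgroup G) (θ : H → ℂ) {g : G} (h : g ∈ H) :
    extendByZero H θ g = θ ⟨g, h⟩ :=
  extendByZero_coe H θ ⟨g, h⟩

theorem extendByZero_of_not_mem (H : Subgroup G) (θ : H → ℂ) {g : G} (h : g ∉ H) :
    extendByZero H θ g = 0 := by
  apply Function.extend_apply'
  rintro ⟨a, rfl⟩
  exact h a.2

theorem extendByZero_mul (H : Subgroup G) (θ : H → ℂ) (χ : G → ℂ) (g : G) :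
    extendByZero H (fun h => θ h * χ h) g = extendByZero H θ g * χ g := by
  by_cases h : g ∈ H
  · rw [extendByZero_of_mem H _ h, extendByZero_of_mem H _ h]
  · rw [extendByZero_of_not_mem H _ h, extendByZero_of_not_mem H _ h, zero_mul]

variable [Fintype G]

theorem indFun_apply (H : Subgroup G) (θ : H → ℂ) (g : G) :
    indFun H θ g = (Nat.card H : ℂ)⁻¹ * ∑ x : G, extendByZero H θ (x⁻¹ * g * x) := rfl

theorem indFun_isClassFunction (H : Subgroup G) (θ : H → ℂ) : IsClassFunction G (indFun H θ) := by
  intro g h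
  rw [indFun_apply, indFun_apply]
  congr 1
  refine Fintype.sum_equiv (Equiv.mulLeft h⁻¹) _ _ (fun x => ?_)
  simp only [Equiv.coe_mulLeft]
  congr 1
  group

/-- Projection formula. -/
theorem indFun_mul (H : Subgroup G) (θ : H → ℂ) (χ : G → ℂ) (hχ : IsClassFunction G χ) :
    indFun H θ * χ = indFun H (fun h => θ h * χ h) := by
  funext g
  rw [Pi.mul_apply, indFun_apply, indFun_apply, mul_assoc, Finset.sum_mul]
  congr 1
  refine Finset.sum_congr rfl (fun x _ => ?_)
  rw [extendByZero_mul]
  congr 1
  have := hχ g x⁻¹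
  rw [inv_inv] at this
  exact this.symm

theorem sum_extendByZero (H : Subgroup G) [Fintype H] (θ : H → ℂ) :
    ∑ g : G, extendByZero H θ g = ∑ h : H, θ h := by
  classical
  rw [← Finset.sum_subset (Finset.subset_univ ((Finset.univ : Finset H).map
    ⟨Subtype.val, Subtype.val_injective⟩))]
  · rw [Finset.sum_map]
    exact Finset.sum_congr rfl (fun h _ => extendByZero_coe H θ h)
  · intro g _ hg
    apply extendByZero_of_not_mem
    intro h
    apply hg
    rw [Finset.mem_map]
    exact ⟨⟨g, h⟩, Finset.mem_univ _, rfl⟩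

/-- Frobenius reciprocity. -/
theorem classInner_indFun (H : Subgroup G) [Fintype H] (θ : H → ℂ) (χ : G → ℂ)
    (hχ : IsClassFunction G χ) :
    classInner (indFun H θ) χ = classInner θ (fun h : H => χ h) := by
  have hG : (Nat.card G : ℂ) ≠ 0 := Nat.cast_ne_zero.2 Nat.card_pos.ne'
  show (Nat.card G : ℂ)⁻¹ * ∑ g : G, indFun H θ g * conj (χ g) =
    (Nat.card H : ℂ)⁻¹ * ∑ h : H, θ h * conj (χ h)
  have key : ∀ x : G, ∑ g : G, extendByZero H θ (x⁻¹ * g * x) * conj (χ g) =
      ∑ h : H, θ h * conj (χ h) := by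
    intro x
    rw [← sum_extendByZero H (fun h => θ h * conj (χ h))]
    refine Fintype.sum_equiv (MulAut.conj x⁻¹).toEquiv _ _ (fun g => ?_)
    have h1 : (MulAut.conj x⁻¹).toEquiv g = x⁻¹ * g * x := by
      simp
    rw [h1, extendByZero_mul H θ (fun g => conj (χ g))]
    have := hχ g x⁻¹
    rw [inv_inv] at this
    simp only [this]
  have h2 : ∑ g : G, indFun H θ g * conj (χ g) =
      (Nat.card H : ℂ)⁻¹ * ((Nat.card G : ℂ) * ∑ h : H, θ h * conj (χ h)) := by
    have h3 : ∀ g : G, indFun H θ g * conj (χ g) = (Nat.card H : ℂ)⁻¹ *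
        ∑ x : G, extendByZero H θ (x⁻¹ * g * x) * conj (χ g) := by
      intro g
      rw [indFun_apply, mul_assoc, Finset.sum_mul]
    rw [Finset.sum_congr rfl (fun g _ => h3 g), ← Finset.mul_sum]
    congr 1
    rw [Finset.sum_comm]
    rw [Finset.sum_congr rfl (fun x _ => key x)]
    rw [Finset.sum_const, nsmul_eq_mul, Finset.card_univ, Nat.card_eq_fintype_card]
  rw [h2]
  field_simp

/-- The degree of an induced function. -/
theorem indFun_one (H : Subgroup G) (θ : H → ℂ) : indFun H θ 1 = H.index * θ 1 := by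
  have hH : (Nat.card H : ℂ) ≠ 0 := Nat.cast_ne_zero.2 Nat.card_pos.ne'
  rw [indFun_apply]
  have h : ∀ x : G, extendByZero H θ (x⁻¹ * 1 * x) = θ 1 := by
    intro x
    rw [mul_one, inv_mul_cancel]
    exact extendByZero_coe H θ 1
  rw [Finset.sum_congr rfl (fun x _ => h x), Finset.sum_const, nsmul_eq_mul, Finset.card_univ,
    ← Nat.card_eq_fintype_card, ← Subgroup.card_mul_index H]
  push_cast
  field_simp

section normal

variable (N : Subgroup G) [hN : N.Normal]

omit [Fintype G] in
theorem extendByZero_conj_of_not_mem (θ : N → ℂ) {g : G} (hg : g ∉ N) (x : G) :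
    extendByZero N θ (x⁻¹ * g * x) = 0 := by
  apply extendByZero_of_not_mem
  intro h
  apply hg
  have := hN.conj_mem _ h x
  simpa [mul_assoc] using this

/-- A function induced from a normal subgroup vanishes off that subgroup. -/
theorem indFun_of_not_mem (θ : N → ℂ) {g : G} (hg : g ∉ N) : indFun N θ g = 0 := by
  rw [indFun_apply, Finset.sum_eq_zero (fun x _ => extendByZero_conj_of_not_mem N θ hg x), mul_zero]

theorem indFun_coe (θ : N → ℂ) (n : N) :
    indFun N θ (n : G) =
      (Nat.card N : ℂ)⁻¹ * ∑ x : G, θ ⟨x * n * x⁻¹, hN.conj_mem (n : G) n.2 x⟩ := by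
  rw [indFun_apply]
  congr 1
  refine Fintype.sum_equiv (Equiv.inv G) _ _ (fun x => ?_)
  simp only [Equiv.inv_apply]
  have h := hN.conj_mem (n : G) n.2 x⁻¹
  rw [inv_inv] at h
  rw [extendByZero_of_mem N θ h]
  congr 2
  simp

/-- The function induced from an invariant function on a normal subgroup restricts to
`[G : N]` times the function. -/
theorem indFun_of_invariant (θ : N → ℂ)
    (hθ : ∀ (g : G) (n : N), θ ⟨g * n * g⁻¹, hN.conj_mem (n : G) n.2 g⟩ = θ n) (n : N) :
    indFun N θ (n : G) = N.index * θ n := by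
  have hH : (Nat.card N : ℂ) ≠ 0 := Nat.cast_ne_zero.2 Nat.card_pos.ne'
  rw [indFun_coe, Finset.sum_congr rfl (fun x _ => hθ x n), Finset.sum_const, nsmul_eq_mul,
    Finset.card_univ, ← Nat.card_eq_fintype_card, ← Subgroup.card_mul_index N]
  push_cast
  field_simp

/-- Norm of the function induced from an invariant function on a normal subgroup. -/
theorem classInner_indFun_of_invariant [Fintype N] (θ η : N → ℂ)
    (hη : ∀ (g : G) (n : N), η ⟨g * n * g⁻¹, hN.conj_mem (n : G) n.2 g⟩ = η n) :
    classInner (indFun N θ) (indFun N η) = N.index * classInner θ η := by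
  rw [classInner_indFun N θ _ (indFun_isClassFunction N η)]
  show (Nat.card N : ℂ)⁻¹ * ∑ n : N, θ n * conj (indFun N η n) =
    N.index * ((Nat.card N : ℂ)⁻¹ * ∑ n : N, θ n * conj (η n))
  rw [mul_left_comm]
  congr 1
  rw [Finset.mul_sum]
  refine Finset.sum_congr rfl (fun n _ => ?_)
  rw [indFun_of_invariant N η hη, map_mul, Complex.conj_natCast]
  ring

end normal

end Cfsg.Agent.CharactersDeep.NormalInd
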