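import Mathlib
import Cfsg.Prelude.Def_Characters
import Cfsg.Agent.Characters.Core
import Cfsg.Agent.Characters.Values
import Cfsg.Agent.S0155
import Cfsg.Agent.CharactersDeep.PiPart
import Cfsg.Agent.S0164

/-!
Hall subgroups controlling the fusion of their elements: the extension `θ ↦ θ ∘ r` of class
functions of `H` to `G` through `π`-parts, which maps irreducible characters to irreducible
characters (Brauer, Suzuki).
-/

set_option autoImplicit false

open scoped ComplexConjugate
open Cfsg Cfsg.Agent.Characters.Core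

namespace Cfsg.Agent.CharactersDeep.HallFusion

universe u

variable {G : Type u} [Group G]

/-- `r g` is an element of `H` conjugate in `G` to `g ^ e`, well defined up to conjugation in `H` -/
structure IsRetraction (H : Subgroup G) (e : ℕ) (r : G → H) : Prop where
  isConj : ∀ (g x : G) (h : H), x * g ^ e * x⁻¹ = h → IsConj (r g) h
  exists_conj : ∀ g : G, ∃ x : G, x * g ^ e * x⁻¹ = r g

/-- existence of the retraction -/
theorem exists_retraction (H : Subgroup G) (e : ℕ)
    (hfus : ∀ x ∈ H, ∀ y ∈ H, IsConj x y → ∃ h ∈ H, h * x * h⁻¹ = y)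
    (hex : ∀ g : G, ∃ x : G, x * g ^ e * x⁻¹ ∈ H) : ∃ r : G → H, IsRetraction H e r := by
  choose x hx using hex
  refine ⟨fun g => ⟨x g * g ^ e * (x g)⁻¹, hx g⟩, ?_, fun g => ⟨x g, rfl⟩⟩
  intro g y h hy
  have h1 : IsConj (x g * g ^ e * (x g)⁻¹) (h : G) := by
    rw [isConj_iff]
    refine ⟨y * (x g)⁻¹, ?_⟩
    rw [← hy]
    group
  obtain ⟨k, hk, hk'⟩ := hfus _ (hx g) _ h.2 h1
  rw [isConj_iff]
  exact ⟨⟨k, hk⟩, Subtype.ext hk'⟩

variable {H : Subgroup G} {e : ℕ} {r : G → H}

theorem apply_eq_of_isConj {θ : H → ℂ} (hθ : IsClassFunction H θ) {a b : H} (h : IsConj a b) :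
    θ a = θ b := by
  obtain ⟨c, rfl⟩ := isConj_iff.1 h
  exact (hθ a c).symm

/-- the value of the extended function -/
theorem extend_apply (hr : IsRetraction H e r) {θ : H → ℂ} (hθ : IsClassFunction H θ) (g x : G)
    (h : H) (hx : x * g ^ e * x⁻¹ = h) : θ (r g) = θ h :=
  apply_eq_of_isConj hθ (hr.isConj g x h hx)

theorem extend_isClassFunction (hr : IsRetraction H e r) {θ : H → ℂ} (hθ : IsClassFunction H θ) :
    IsClassFunction G (fun g => θ (r g)) := by
  intro g y
  obtain ⟨x, hx⟩ := hr.exists_conj g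
  refine extend_apply hr hθ (y * g * y⁻¹) (x * y⁻¹) (r g) ?_
  rw [conj_pow, ← hx]
  group

theorem extend_coe (hr : IsRetraction H e r) (hself : ∀ h : H, h ^ e = h) {θ : H → ℂ}
    (hθ : IsClassFunction H θ) (h : H) : θ (r h) = θ h := by
  refine extend_apply hr hθ h 1 h ?_
  rw [← Subgroup.coe_pow, hself h]
  group

/-- the number of `g` with `r g` conjugate to `h₀` is positive -/
theorem r_coe_isConj (hr : IsRetraction H e r) (hself : ∀ h : H, h ^ e = h) (h : H) :
    IsConj (r h) h := by
  refine hr.isConj h 1 h ?_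
  rw [← Subgroup.coe_pow, hself h]
  group

section inner

variable [Fintype G] [Fintype H]

/-- The linear functional `ψ ↦ (ψ ∘ r, 1_G)` is the inner product with a generalized character `f`. -/
theorem exists_repr (hgen : ∀ θ : H → ℂ, IsIrrCharacter H θ →
      IsGeneralizedCharacter G (fun g => θ (r g))) :
    ∃ f : H → ℂ, (∀ h, IsIntegral ℤ (f h)) ∧ IsClassFunction H f ∧
      ∀ ψ : H → ℂ, IsClassFunction H ψ → classInner (fun g => ψ (r g)) (1 : G → ℂ) =
        classInner ψ f := by
  classical
  have : Finite (IrrCharacter H) := finite_irr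
  let _ : Fintype (IrrCharacter H) := Fintype.ofFinite _
  have hint : ∀ χ : IrrCharacter H, ∃ a : ℤ,
      classInner (fun g => (χ : H → ℂ) (r g)) (1 : G → ℂ) = a := by
    intro χ
    obtain ⟨α, β, hα, hβ, hαβ⟩ := hgen χ χ.2
    obtain ⟨m, hm⟩ := classInner_isNat hα (isCharacter_one (G := G))
    obtain ⟨n, hn⟩ := classInner_isNat hβ (isCharacter_one (G := G))
    refine ⟨(m : ℤ) - n, ?_⟩
    rw [hαβ, classInner_sub_left, hm, hn]
    push_cast
    ring
  choose a ha using hint
  refine ⟨∑ χ : IrrCharacter H, (a χ : ℂ) • (χ : H → ℂ), ?_, ?_, ?_⟩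
  · intro h
    rw [Finset.sum_apply]
    apply IsIntegral.sum
    intro χ _
    rw [Pi.smul_apply, smul_eq_mul]
    apply IsIntegral.mul
    · exact isIntegral_algebraMap (R := ℤ) (A := ℂ) (x := a χ)
    · obtain ⟨n, ρ, hρ, hχ⟩ := χ.2
      rw [← hχ]
      exact Cfsg.Agent.Characters.Values.character_isIntegral ρ h
  · intro g h
    rw [Finset.sum_apply, Finset.sum_apply]
    refine Finset.sum_congr rfl fun χ _ => ?_
    rw [Pi.smul_apply, Pi.smul_apply, isIrr_isClassFunction χ.2 g h]
  · intro ψ hψ
    have h1 := classFunction_eq_sum hψ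
    have h2 : (fun g => ψ (r g)) =
        ∑ χ : IrrCharacter H, classInner ψ (χ : H → ℂ) • (fun g => (χ : H → ℂ) (r g)) := by
      funext g
      conv_lhs => rw [h1]
      rw [Finset.sum_apply, Finset.sum_apply]
      rfl
    rw [h2, classInner_sum_left, classInner_sum_right]
    refine Finset.sum_congr rfl fun χ _ => ?_
    rw [classInner_smul_left, classInner_smul_right, ha χ, map_intCast]
    ring

/-- The multiplicities are all equal to one: average of a class function over `G` through `r`. -/
theorem classInner_extend_one (hr : IsRetraction H e r) (hself : ∀ h : H, h ^ e = h)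
    (hgen : ∀ θ : H → ℂ, IsIrrCharacter H θ →
      IsGeneralizedCharacter G (fun g => θ (r g))) {ψ : H → ℂ} (hψ : IsClassFunction H ψ) :
    classInner (fun g => ψ (r g)) (1 : G → ℂ) = classInner ψ (1 : H → ℂ) := by
  classical
  obtain ⟨f, hfint, hfcl, hf⟩ := exists_repr hgen
  -- values of `f`
  have hGpos : (0 : ℝ) < Nat.card G := by exact_mod_cast Nat.card_pos
  have hHpos : (0 : ℝ) < Nat.card H := by exact_mod_cast Nat.card_pos
  have hval : ∀ h₀ : H, ∃ q : ℚ, 0 < q ∧ f h₀ = (q : ℂ) := by
    intro h₀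
    have hcl : IsClassFunction H (fun h : H => if IsConj h h₀ then (1 : ℂ) else 0) := by
      intro g h
      have h1 : IsConj (h * g * h⁻¹) h₀ ↔ IsConj g h₀ := by
        have h2 : IsConj g (h * g * h⁻¹) := isConj_iff.2 ⟨h, rfl⟩
        exact ⟨fun h3 => h2.trans h3, fun h3 => h2.symm.trans h3⟩
      simp only [h1]
    have h1 := hf _ hcl
    set N : ℕ := (Finset.univ.filter fun g : G => IsConj (r g) h₀).card with hN
    set M : ℕ := (Finset.univ.filter fun h : H => IsConj h h₀).card with hM
    have hNpos : 0 < N := by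
      rw [hN, Finset.card_pos]
      refine ⟨(h₀ : G), ?_⟩
      rw [Finset.mem_filter]
      exact ⟨Finset.mem_univ _, r_coe_isConj hr hself h₀⟩
    have hMpos : 0 < M := by
      rw [hM, Finset.card_pos]
      refine ⟨h₀, ?_⟩
      rw [Finset.mem_filter]
      exact ⟨Finset.mem_univ _, IsConj.refl _⟩
    have hL : classInner (fun g => if IsConj (r g) h₀ then (1 : ℂ) else 0) (1 : G → ℂ) =
        (Nat.card G : ℂ)⁻¹ * N := by
      rw [classInner_def]
      congr 1
      simp only [Pi.one_apply, map_one, mul_one]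
      rw [Finset.sum_boole]
    have hR : classInner (fun h : H => if IsConj h h₀ then (1 : ℂ) else 0) f =
        (Nat.card H : ℂ)⁻¹ * (M * conj (f h₀)) := by
      rw [classInner_def]
      congr 1
      rw [hM, ← nsmul_eq_mul, ← Finset.sum_const, Finset.sum_filter]
      refine Finset.sum_congr rfl fun h _ => ?_
      by_cases h2 : IsConj h h₀
      · simp only [if_pos h2, one_mul]
        rw [apply_eq_of_isConj hfcl h2]
      · simp only [if_neg h2, zero_mul]
    rw [hL, hR] at h1
    have hGne : (Nat.card G : ℂ) ≠ 0 := by exact_mod_cast Nat.card_pos.ne'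
    have hHne : (Nat.card H : ℂ) ≠ 0 := by exact_mod_cast Nat.card_pos.ne'
    have hMne : (M : ℂ) ≠ 0 := by exact_mod_cast hMpos.ne'
    have h2 : conj (f h₀) = ((Nat.card H * N : ℚ) / (Nat.card G * M) : ℚ) := by
      push_cast
      field_simp
      field_simp at h1
      linear_combination -h1
    refine ⟨(Nat.card H * N : ℚ) / (Nat.card G * M), ?_, ?_⟩
    · have : (0 : ℚ) < Nat.card H := by exact_mod_cast Nat.card_pos
      have : (0 : ℚ) < Nat.card G := by exact_mod_cast Nat.card_pos
      have : (0 : ℚ) < N := by exact_mod_cast hNpos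
      have : (0 : ℚ) < M := by exact_mod_cast hMpos
      positivity
    · have h3 := congrArg conj h2
      rw [Complex.conj_conj] at h3
      rw [h3, map_ratCast]
  -- they are positive integers
  have hval' : ∀ h₀ : H, ∃ k : ℤ, 1 ≤ k ∧ f h₀ = (k : ℂ) := by
    intro h₀
    obtain ⟨q, hq, hfq⟩ := hval h₀
    have h1 : IsIntegral ℤ ((algebraMap ℚ ℂ) q) := by
      have := hfint h₀
      rw [hfq] at this
      exact this
    rw [isIntegral_algebraMap_iff (algebraMap ℚ ℂ).injective] at h1
    obtain ⟨k, hk⟩ := IsIntegrallyClosed.isIntegral_iff.1 h1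
    refine ⟨k, ?_, ?_⟩
    · have : (0 : ℚ) < (k : ℚ) := by
        have h2 : ((algebraMap ℤ ℚ) k) = (k : ℚ) := rfl
        rw [← h2, hk]; exact hq
      exact_mod_cast this
    · rw [hfq, ← hk]
      simp
  choose k hk1 hfk using hval'
  -- the average is one
  have hone : IsClassFunction H (1 : H → ℂ) := fun _ _ => rfl
  have h1 := hf 1 hone
  have h2 : classInner (fun g => (1 : H → ℂ) (r g)) (1 : G → ℂ) = 1 :=
    classInner_irr_self (isIrr_one (G := G))
  rw [h2] at h1
  have h3 : (∑ h : H, (k h : ℂ)) = Nat.card H := by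
    rw [classInner_def] at h1
    have hHne : (Nat.card H : ℂ) ≠ 0 := by exact_mod_cast Nat.card_pos.ne'
    rw [eq_comm, inv_mul_eq_iff_eq_mul₀ hHne, mul_one] at h1
    rw [← h1]
    refine Finset.sum_congr rfl fun h _ => ?_
    rw [hfk h, Pi.one_apply, one_mul, map_intCast]
  have h4 : (∑ h : H, (k h - 1)) = 0 := by
    have h5 : (∑ h : H, k h) = (Nat.card H : ℤ) := by exact_mod_cast h3
    rw [Finset.sum_sub_distrib, h5, Finset.sum_const, Finset.card_univ,
      ← Nat.card_eq_fintype_card]
    simp
  have h5 : ∀ h : H, k h = 1 := by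
    intro h
    have h6 := (Finset.sum_eq_zero_iff_of_nonneg (fun h _ => sub_nonneg.2 (hk1 h))).1 h4 h
      (Finset.mem_univ _)
    omega
  have h6 : f = 1 := by
    funext h
    rw [hfk h, h5 h]
    simp
  rw [hf ψ hψ, h6]

/-- extension through `r` preserves inner products of class functions -/
theorem classInner_extend (hr : IsRetraction H e r) (hself : ∀ h : H, h ^ e = h)
    (hgen : ∀ θ : H → ℂ, IsIrrCharacter H θ →
      IsGeneralizedCharacter G (fun g => θ (r g))) {φ ψ : H → ℂ} (hφ : IsClassFunction H φ)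
    (hψ : IsClassFunction H ψ) :
    classInner (fun g => φ (r g)) (fun g => ψ (r g)) = classInner φ ψ := by
  have hcl : IsClassFunction H (fun h => φ h * conj (ψ h)) := by
    intro g h
    show φ _ * conj (ψ _) = _
    rw [hφ, hψ]
  have h1 := classInner_extend_one hr hself hgen hcl
  rw [classInner_def] at h1 ⊢
  rw [classInner_def] at h1 ⊢
  simpa using h1

/-- irreducible characters of `H` extend to irreducible characters of `G` -/
theorem isIrr_extend (hr : IsRetraction H e r) (hself : ∀ h : H, h ^ e = h)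
    (hgen : ∀ θ : H → ℂ, IsIrrCharacter H θ →
      IsGeneralizedCharacter G (fun g => θ (r g))) {χ : H → ℂ} (hχ : IsIrrCharacter H χ) :
    IsIrrCharacter G (fun g => χ (r g)) := by
  have hcl := isIrr_isClassFunction hχ
  have h1 : classInner (fun g => χ (r g)) (fun g => χ (r g)) = 1 := by
    rw [classInner_extend hr hself hgen hcl hcl, classInner_irr_self hχ]
  rcases isIrr_of_generalized (hgen χ hχ) h1 with h2 | h2
  · exact h2
  · exfalso
    obtain ⟨n, hn, hn'⟩ := isIrr_apply_one h2
    obtain ⟨m, hm, hm'⟩ := isIrr_apply_one hχ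
    have h3 := extend_coe hr hself hcl 1
    rw [Subgroup.coe_one, hm'] at h3
    rw [Pi.neg_apply, h3] at hn'
    have h4 : ((n : ℤ) + m : ℂ) = 0 := by
      push_cast
      rw [← hn']
      ring
    have h5 : (n : ℤ) + m = 0 := by exact_mod_cast h4
    omega

/-- characters of `H` extend to characters of `G` -/
theorem isCharacter_extend (hr : IsRetraction H e r) (hself : ∀ h : H, h ^ e = h)
    (hgen : ∀ θ : H → ℂ, IsIrrCharacter H θ →
      IsGeneralizedCharacter G (fun g => θ (r g))) {χ : H → ℂ} (hχ : IsCharacter H χ) :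
    IsCharacter G (fun g => χ (r g)) := by
  classical
  have : Finite (IrrCharacter H) := finite_irr
  let _ : Fintype (IrrCharacter H) := Fintype.ofFinite _
  obtain ⟨m, hm⟩ := isCharacter_iff.1 hχ
  have h2 : (fun g => χ (r g)) =
      ∑ ψ : IrrCharacter H, m ψ • (fun g => (ψ : H → ℂ) (r g)) := by
    funext g
    conv_lhs => rw [hm]
    rw [Finset.sum_apply, Finset.sum_apply]
    rfl
  rw [h2]
  apply isCharacter_sum
  intro ψ _
  exact isCharacter_nsmul _ (isIrr_isCharacter (isIrr_extend hr hself hgen ψ.2))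

/-- the number of elements with trivial `π`-part -/
theorem card_kernel (hr : IsRetraction H e r) (hself : ∀ h : H, h ^ e = h)
    (hgen : ∀ θ : H → ℂ, IsIrrCharacter H θ →
      IsGeneralizedCharacter G (fun g => θ (r g))) :
    Nat.card {g : G // r g = 1} * Nat.card H = Nat.card G := by
  classical
  have hcl : IsClassFunction H (fun h : H => if h = 1 then (1 : ℂ) else 0) := by
    intro g h
    have h1 : h * g * h⁻¹ = 1 ↔ g = 1 := conj_eq_one_iff
    simp only [h1]
  have h1 := classInner_extend_one hr hself hgen hcl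
  rw [classInner_def, classInner_def] at h1
  simp only [Pi.one_apply, map_one, mul_one, Finset.sum_boole] at h1
  have h2 : (Finset.univ.filter fun h : H => h = 1).card = 1 := by
    rw [Finset.card_eq_one]
    exact ⟨1, by ext x; simp⟩
  rw [h2] at h1
  have h3 : Nat.card {g : G // r g = 1} = (Finset.univ.filter fun g : G => r g = 1).card := by
    rw [Nat.card_eq_fintype_card, Fintype.card_subtype]
  rw [h3]
  have hGne : (Nat.card G : ℂ) ≠ 0 := by exact_mod_cast Nat.card_pos.ne'
  have hHne : (Nat.card H : ℂ) ≠ 0 := by exact_mod_cast Nat.card_pos.ne'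
  have h4 : (((Finset.univ.filter fun g : G => r g = 1).card : ℕ) : ℂ) * Nat.card H =
      Nat.card G := by
    field_simp at h1
    push_cast at h1
    linear_combination h1
  exact_mod_cast h4

/-- the elements with trivial `π`-part are the kernel of a representation of `G` -/
theorem exists_kernel (hr : IsRetraction H e r) (hself : ∀ h : H, h ^ e = h)
    (hgen : ∀ θ : H → ℂ, IsIrrCharacter H θ →
      IsGeneralizedCharacter G (fun g => θ (r g))) :
    ∃ K : Subgroup G, K.Normal ∧ ∀ g : G, g ∈ K ↔ r g = 1 := by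
  classical
  have hreg : IsCharacter H (Representation.leftRegular ℂ H).character :=
    isCharacter_of_rep (Representation.leftRegular ℂ H)
  have hregval : ∀ h : H, (Representation.leftRegular ℂ H).character h =
      if h = 1 then (Nat.card H : ℂ) else 0 := fun h => Cfsg.Agent.S0155.result h
  obtain ⟨n, ρ, hρ⟩ := isCharacter_extend hr hself hgen hreg
  have hρ' : ∀ g : G, ρ.character g = if r g = 1 then (Nat.card H : ℂ) else 0 := by
    intro g
    rw [hρ]
    exact hregval (r g)
  have hr1 : r 1 = 1 := by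
    have h1 := r_coe_isConj hr hself 1
    rw [Subgroup.coe_one] at h1
    exact isConj_one_left.1 h1
  have hn : (Module.finrank ℂ (Fin n → ℂ) : ℂ) = Nat.card H := by
    rw [← Representation.char_one ρ, hρ' 1, if_pos hr1]
  refine ⟨ρ.ker, inferInstance, ?_⟩
  intro g
  rw [MonoidHom.mem_ker]
  have h1 := Cfsg.Agent.Characters.Values.character_eq_finrank_iff ρ g
  have h2 : ρ g = 1 ↔ ρ g = LinearMap.id := Iff.rfl
  rw [h2, ← h1, hn, hρ' g]
  have hHne : (Nat.card H : ℂ) ≠ 0 := by exact_mod_cast Nat.card_pos.ne'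
  constructor
  · intro h3
    by_contra h4
    rw [if_neg h4] at h3
    exact hHne h3.symm
  · intro h3
    rw [if_pos h3]

end inner

end Cfsg.Agent.CharactersDeep.HallFusion
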