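import Mathlib
import Cfsg.Prelude.Def_Blocks
import Cfsg.Agent.CharactersDeep.TracePow

set_option autoImplicit false

/-!
# Congruences modulo a maximal ideal of the algebraic integers

* `memLocalIdeal_coe_iff`: for an algebraic integer, membership in the local ideal at a prime ideal `M`
  is membership in `M`.
* `memLocalIdeal_character_sub`: if `a` is the `p`-part of `x` then
  `χ(x) ≡ χ(a⁻¹ x)` modulo `M`.
-/

namespace Cfsg.Agent.CharactersDeep.ModCongr

open Module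

theorem memLocalIdeal_coe_iff {M : Ideal Cfsg.AlgInt} (hM : M.IsPrime) (a : Cfsg.AlgInt) :
    Cfsg.MemLocalIdeal M (a : ℂ) ↔ a ∈ M := by
  constructor
  · rintro ⟨c, b, hc, hb, h⟩
    have hb0 : (b : ℂ) ≠ 0 := by
      intro h0
      apply hb
      have : b = 0 := Subtype.ext h0
      rw [this]; exact M.zero_mem
    have h1 : a * b = c := by
      apply Subtype.ext
      show (a : ℂ) * b = c
      rw [← h, div_mul_cancel₀ _ hb0]
    have := hM.mem_or_mem (h1 ▸ hc : a * b ∈ M)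
    tauto
  · intro ha
    exact ⟨a, 1, ha, fun h => hM.ne_top (M.eq_top_of_isUnit_mem h isUnit_one), by simp⟩

theorem natCast_mem_iff {p : ℕ} {M : Ideal Cfsg.AlgInt} (hM : Cfsg.IsPModular p M) (n : ℕ) :
    (n : Cfsg.AlgInt) ∈ M ↔ p ∣ n := by
  obtain ⟨hp, hmax, hpM⟩ := hM
  constructor
  · intro hn
    by_contra hnd
    have hcop : Nat.Coprime p n := (Nat.Prime.coprime_iff_not_dvd hp).2 hnd
    have h1 : (1 : ℤ) = p * Nat.gcdA p n + n * Nat.gcdB p n := by
      have := Nat.gcd_eq_gcd_ab p n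
      rwa [Nat.Coprime.gcd_eq_one hcop, Nat.cast_one] at this
    have h2 : (1 : Cfsg.AlgInt) = p * (Nat.gcdA p n : ℤ) + n * (Nat.gcdB p n : ℤ) := by
      have := congrArg (Int.cast : ℤ → Cfsg.AlgInt) h1
      push_cast at this
      exact this
    apply hmax.ne_top
    rw [Ideal.eq_top_iff_one, h2]
    exact M.add_mem (M.mul_mem_right _ hpM) (M.mul_mem_right _ hn)
  · rintro ⟨c, rfl⟩
    push_cast
    exact M.mul_mem_right _ hpM

theorem quotient_charP {p : ℕ} {M : Ideal Cfsg.AlgInt} (hM : Cfsg.IsPModular p M) :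
    CharP (Cfsg.AlgInt ⧸ M) p := by
  have : Nontrivial (Cfsg.AlgInt ⧸ M) := Ideal.Quotient.nontrivial_iff.2 hM.2.1.ne_top
  refine (CharP.charP_iff_prime_eq_zero hM.1).2 ?_
  have h : Ideal.Quotient.mk M (p : Cfsg.AlgInt) = 0 := Ideal.Quotient.eq_zero_iff_mem.2 hM.2.2
  rwa [map_natCast] at h

/-- Frobenius congruence for traces: `trace (f) ^ q ≡ trace (f ^ q)`, `q = p ^ k`. -/
theorem mk_trace_pow {p : ℕ} {M : Ideal Cfsg.AlgInt} (hM : Cfsg.IsPModular p M)
    {V : Type*} [AddCommGroup V] [Module ℂ V] [FiniteDimensional ℂ V]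
    (f : End ℂ V) (n : ℕ) (hn : n ≠ 0) (hf : f ^ n = 1) (k : ℕ) (t t' : Cfsg.AlgInt)
    (ht : (t : ℂ) = LinearMap.trace ℂ V f) (ht' : (t' : ℂ) = LinearMap.trace ℂ V (f ^ p ^ k)) :
    (Ideal.Quotient.mk M t) ^ p ^ k = Ideal.Quotient.mk M t' := by
  classical
  have : Fact p.Prime := ⟨hM.1⟩
  have := quotient_charP hM
  obtain ⟨s, m, hs, htr⟩ := TracePow.exists_eigen_decomp f n hn hf
  have hint : ∀ z ∈ s, IsIntegral ℤ z := fun z hz => by
    refine IsIntegral.of_pow (Nat.pos_of_ne_zero hn) ?_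
    rw [hs z hz]
    exact isIntegral_one
  let ζ : s → Cfsg.AlgInt := fun z => ⟨z, hint z z.2⟩
  have h1 : t = ∑ z : s, (m z : Cfsg.AlgInt) * ζ z := by
    apply Subtype.ext
    rw [ht, ← pow_one f, htr 1, ← Finset.sum_coe_sort]
    push_cast
    simp [ζ]
  have h2 : t' = ∑ z : s, (m z : Cfsg.AlgInt) * ζ z ^ p ^ k := by
    apply Subtype.ext
    rw [ht', htr, ← Finset.sum_coe_sort]
    push_cast
    simp [ζ]
  rw [← iterateFrobenius_def p k, h1, h2, map_sum, map_sum, map_sum]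
  refine Finset.sum_congr rfl fun z _ => ?_
  simp only [map_mul, map_natCast, map_pow, iterateFrobenius_def]

/-- If two commuting operators `f`, `g` of finite order satisfy `f ^ q = g ^ q` for a power `q` of `p`,
then their traces are congruent modulo `M`. -/
theorem trace_sub_mem {p : ℕ} {M : Ideal Cfsg.AlgInt} (hM : Cfsg.IsPModular p M)
    {V : Type*} [AddCommGroup V] [Module ℂ V] [FiniteDimensional ℂ V]
    (f g : End ℂ V) (n : ℕ) (hn : n ≠ 0) (hf : f ^ n = 1) (hg : g ^ n = 1) (k : ℕ)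
    (hfg : f ^ p ^ k = g ^ p ^ k) (t u : Cfsg.AlgInt)
    (ht : (t : ℂ) = LinearMap.trace ℂ V f) (hu : (u : ℂ) = LinearMap.trace ℂ V g) :
    t - u ∈ M := by
  have : Fact p.Prime := ⟨hM.1⟩
  have := quotient_charP hM
  have hprime : M.IsPrime := hM.2.1.isPrime
  have hint : IsIntegral ℤ (LinearMap.trace ℂ V (f ^ p ^ k)) := by
    refine TracePow.isIntegral_trace_of_pow_succ_eq _ n hn ?_
    rw [pow_succ, ← pow_mul, mul_comm, pow_mul, hf, one_pow, one_mul]
  let w : Cfsg.AlgInt := ⟨_, hint⟩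
  have h1 := mk_trace_pow hM f n hn hf k t w ht rfl
  have h2 := mk_trace_pow hM g n hn hg k u w hu (by rw [← hfg])
  have h3 : Ideal.Quotient.mk M t = Ideal.Quotient.mk M u := by
    apply iterateFrobenius_inj (Cfsg.AlgInt ⧸ M) p k
    rw [iterateFrobenius_def, iterateFrobenius_def, h1, h2]
  exact Ideal.Quotient.eq.1 h3

/-- Character values are algebraic integers. -/
theorem isIntegral_irr {G : Type*} [Group G] [Finite G] {χ : G → ℂ}
    (hχ : Cfsg.IsIrrCharacter G χ) (x : G) : IsIntegral ℤ (χ x) := by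
  obtain ⟨m, ρ, -, rfl⟩ := hχ
  refine TracePow.isIntegral_trace_of_pow_succ_eq _ (orderOf x) (orderOf_pos x).ne' ?_
  rw [pow_succ, ← map_pow, pow_orderOf_eq_one, map_one, one_mul]

/-- `χ(x) ≡ χ(a⁻¹ x)` modulo `M`, where `a` is the `p`-part of `x`. -/
theorem memLocalIdeal_character_sub {p : ℕ} {M : Ideal Cfsg.AlgInt} (hM : Cfsg.IsPModular p M)
    {G : Type*} [Group G] [Finite G] {χ : G → ℂ} (hχ : Cfsg.IsIrrCharacter G χ) (x a : G)
    (ha : Cfsg.IsPPart p x a) : Cfsg.MemLocalIdeal M (χ x - χ (a⁻¹ * x)) := by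
  have hx := isIntegral_irr hχ x
  have hr := isIntegral_irr hχ (a⁻¹ * x)
  obtain ⟨m, ρ, -, rfl⟩ := hχ
  obtain ⟨r, rfl, hcomm, ⟨k, hk⟩, -⟩ := ha
  have h := trace_sub_mem hM (ρ (a * r)) (ρ (a⁻¹ * (a * r))) (Nat.card G) Nat.card_pos.ne'
    (by rw [← map_pow, pow_card_eq_one', map_one]) (by rw [← map_pow, pow_card_eq_one', map_one])
    k ?_ ⟨_, hx⟩ ⟨_, hr⟩ rfl rfl
  · exact (memLocalIdeal_coe_iff hM.2.1.isPrime _).2 h
  · rw [← map_pow, ← map_pow, inv_mul_cancel_left, hcomm.mul_pow, ← hk, pow_orderOf_eq_one, one_mul]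

end Cfsg.Agent.CharactersDeep.ModCongr
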