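import Mathlib
import Cfsg.Prelude.Def_Characters
import Cfsg.Prelude.Def_Blocks
import Cfsg.Agent.CharactersDeep.AChar
import Cfsg.Agent.CharactersDeep.Descent

/-!
# The local form of Brauer's induction theorem
-/

set_option autoImplicit false

open Cfsg
open scoped ComplexConjugate

namespace Cfsg.Agent.CharactersDeep.BrauerLocal

universe u

open Cfsg.Agent.Characters Cfsg.Agent.CharactersDeep.AChar Cfsg.Agent.CharactersDeep.IndFun
  Cfsg.Agent.CharactersDeep.Descent

/-! ### Arithmetic of elements -/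

/-- The `p`-regular part of an element, as a power. -/
theorem exists_regular_part {G : Type u} [Group G] [Finite G] {p : ℕ} (hp : p.Prime) (g : G) :
    ∃ j k : ℕ, Nat.Coprime (orderOf (g ^ j)) p ∧ (g ^ j) ^ (p ^ k) = g ^ (p ^ k) := by
  have hn : orderOf g ≠ 0 := (orderOf_pos g).ne'
  set k := (orderOf g).factorization p with hk
  set r := orderOf g / p ^ k with hr
  have hmul : p ^ k * r = orderOf g := Nat.ordProj_mul_ordCompl_eq_self _ _
  have hcop : Nat.Coprime p r := Nat.coprime_ordCompl hp hn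
  obtain ⟨j, hj1, hj2⟩ := Nat.chineseRemainder (Nat.Coprime.pow_left k hcop) 0 1
  refine ⟨j, k, ?_, ?_⟩
  · have h1 : (g ^ j) ^ r = 1 := by
      rw [← pow_mul, ← orderOf_dvd_iff_pow_eq_one, ← hmul]
      exact Nat.mul_dvd_mul_right ((Nat.modEq_zero_iff_dvd).1 hj1) r
    exact (Nat.Coprime.coprime_dvd_right (orderOf_dvd_of_pow_eq_one h1) hcop).symm
  · rw [← pow_mul, pow_eq_pow_iff_modEq, ← hmul, mul_comm j]
    have := Nat.ModEq.mul_left' (p ^ k) hj2
    simpa using this

theorem orderOf_conj {G : Type u} [Group G] (a x : G) : orderOf (a * x * a⁻¹) = orderOf x := by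
  rw [← MulAut.conj_apply]
  exact MulEquiv.orderOf_eq (MulAut.conj a) x

theorem orderOf_conj' {G : Type u} [Group G] (a x : G) : orderOf (a⁻¹ * x * a) = orderOf x := by
  have := orderOf_conj a⁻¹ x
  rwa [inv_inv] at this

/-! ### A prime of the ring of algebraic integers above `p` -/

theorem exists_maximal (p : ℕ) (hp : p.Prime) :
    ∃ M : Ideal AlgInt, M.IsMaximal ∧ (p : AlgInt) ∈ M := by
  have h1 : Ideal.span {(p : AlgInt)} ≠ ⊤ := by
    intro h
    rw [Ideal.span_singleton_eq_top] at h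
    obtain ⟨a, ha⟩ := h.exists_right_inv
    have ha' : (p : ℂ) * (a : ℂ) = 1 := by
      have := congrArg (Subtype.val) ha
      simpa using this
    have hp0 : (p : ℂ) ≠ 0 := by exact_mod_cast hp.ne_zero
    have haq : (a : ℂ) = ((1 / p : ℚ) : ℂ) := by
      push_cast
      field_simp
      linear_combination ha'
    obtain ⟨n, hn⟩ := exists_int_of_rat (q := 1 / p) (haq ▸ a.2)
    have hp0' : (p : ℚ) ≠ 0 := by exact_mod_cast hp.ne_zero
    have h2 : (p : ℚ) * n = 1 := by rw [← hn]; field_simp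
    have h3 : (p : ℤ) * n = 1 := by exact_mod_cast h2
    have h4 : (p : ℤ) ∣ 1 := ⟨n, h3.symm⟩
    exact hp.one_lt.ne' (Nat.dvd_one.1 (by exact_mod_cast h4))
  obtain ⟨M, hM, hle⟩ := Ideal.exists_le_maximal _ h1
  exact ⟨M, hM, hle (Ideal.subset_span rfl)⟩

theorem not_mem_of_coprime {p : ℕ} {M : Ideal AlgInt} (hM : M.IsPrime) (hpM : (p : AlgInt) ∈ M)
    {n : ℤ} (hn : IsCoprime n p) : (n : AlgInt) ∉ M := by
  intro h
  obtain ⟨a, b, hab⟩ := hn
  apply hM.ne_top
  rw [Ideal.eq_top_iff_one]
  have : (1 : AlgInt) = (a : AlgInt) * (n : AlgInt) + (b : AlgInt) * (p : AlgInt) := by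
    exact_mod_cast hab.symm
  rw [this]
  exact Ideal.add_mem _ (Ideal.mul_mem_left _ _ h) (Ideal.mul_mem_left _ _ hpM)

/-! ### Congruences -/

/-- Irreducible characters of a commutative group are multiplicative. -/
theorem irr_mul {C : Type u} [Group C] [IsMulCommutative C] {χ : C → ℂ} (h : IsIrrCharacter C χ)
    (a b : C) : χ (a * b) = χ a * χ b := by
  obtain ⟨n, ρ, hρ, rfl⟩ := h
  have hn : Module.finrank ℂ (Fin n → ℂ) = 1 :=
    Representation.IsIrreducible.finrank_eq_one_of_isMulCommutative ρ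
  have hn1 : n = 1 := by simpa using hn
  subst hn1
  unfold Representation.character
  rw [map_mul]
  rw [LinearMap.trace_eq_matrix_trace ℂ (Pi.basisFun ℂ (Fin 1)),
    LinearMap.trace_eq_matrix_trace ℂ (Pi.basisFun ℂ (Fin 1)),
    LinearMap.trace_eq_matrix_trace ℂ (Pi.basisFun ℂ (Fin 1)), LinearMap.toMatrix_mul]
  simp [Matrix.trace_fin_one, Matrix.mul_apply]

theorem irr_pow {C : Type u} [Group C] [IsMulCommutative C] {χ : C → ℂ} (h : IsIrrCharacter C χ)
    (a : C) {n : ℕ} (hn : n ≠ 0) : χ (a ^ n) = χ a ^ n := by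
  induction n with
  | zero => exact absurd rfl hn
  | succ n ih =>
    by_cases h0 : n = 0
    · subst h0; simp
    · rw [pow_succ, pow_succ, irr_mul h, ih h0]

theorem frob_congr {p : ℕ} (hp : p.Prime) {M : Ideal AlgInt} (hM : M.IsPrime)
    (hpM : (p : AlgInt) ∈ M) {a b : AlgInt} {k : ℕ} (h : a ^ (p ^ k) = b ^ (p ^ k)) :
    a - b ∈ M := by
  have : Fact p.Prime := ⟨hp⟩
  have : Nontrivial (AlgInt ⧸ M) := Ideal.Quotient.nontrivial_iff.2 hM.ne_top
  have hchar : CharP (AlgInt ⧸ M) p := by
    rw [CharP.charP_iff_prime_eq_zero hp]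
    have : (Ideal.Quotient.mk M) (p : AlgInt) = 0 := Ideal.Quotient.eq_zero_iff_mem.2 hpM
    simpa using this
  have h1 : (Ideal.Quotient.mk M) (a - b) ^ (p ^ k) = 0 := by
    rw [map_sub, sub_pow_char_pow, ← map_pow, ← map_pow, h, sub_self]
  rw [← map_pow, Ideal.Quotient.eq_zero_iff_mem] at h1
  exact hM.mem_of_pow_mem _ h1

/-- Values of a combination of characters at elements with the same `p^k`-th power are congruent
modulo every prime ideal over `p`. -/
theorem congr_of_mem_achar {G : Type u} [Group G] [Finite G] {p : ℕ} (hp : p.Prime)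
    {M : Ideal AlgInt} (hM : M.IsPrime) (hpM : (p : AlgInt) ∈ M) {f : G → ℂ} (hf : f ∈ achar G)
    (g : G) {j k : ℕ} (h : (g ^ j) ^ (p ^ k) = g ^ (p ^ k)) :
    ∃ m ∈ M, (m : ℂ) = f g - f (g ^ j) := by
  classical
  induction hf using Submodule.span_induction with
  | mem χ hχ =>
    let C := Subgroup.zpowers g
    have hC : IsCharacter C (fun c : C => χ c) := Core.isCharacter_comp C.subtype hχ
    have : Finite (IrrCharacter C) := Core.finite_irr
    have : Fintype (IrrCharacter C) := Fintype.ofFinite _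
    obtain ⟨m, hm⟩ := Core.isCharacter_iff.1 hC
    let x : C := ⟨g, Subgroup.mem_zpowers g⟩
    have hx : (x ^ j) ^ (p ^ k) = x ^ (p ^ k) := by
      apply Subtype.ext
      simpa [x] using h
    have hψ : ∀ ψ : IrrCharacter C, ∃ m ∈ M, (m : ℂ) = (ψ : C → ℂ) x - (ψ : C → ℂ) (x ^ j) := by
      intro ψ
      have hint := fun c => isIntegral_isCharacter (Core.isIrr_isCharacter ψ.2) c
      refine ⟨⟨(ψ : C → ℂ) x, hint x⟩ - ⟨(ψ : C → ℂ) (x ^ j), hint _⟩, ?_, rfl⟩
      apply frob_congr hp hM hpM (k := k)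
      apply Subtype.ext
      change ((ψ : C → ℂ) x) ^ (p ^ k) = ((ψ : C → ℂ) (x ^ j)) ^ (p ^ k)
      rw [← irr_pow ψ.2 _ (pow_ne_zero _ hp.ne_zero), ← irr_pow ψ.2 _ (pow_ne_zero _ hp.ne_zero),
        hx]
    choose e heM he using hψ
    refine ⟨∑ ψ, m ψ • e ψ, Ideal.sum_mem _ fun ψ _ => nsmul_mem (heM ψ) _, ?_⟩
    have h1 : χ g = ∑ ψ : IrrCharacter C, (m ψ : ℂ) * (ψ : C → ℂ) x := by
      have := congrFun hm x
      simpa [x, Finset.sum_apply, Pi.smul_apply, nsmul_eq_mul] using this
    have h2 : χ (g ^ j) = ∑ ψ : IrrCharacter C, (m ψ : ℂ) * (ψ : C → ℂ) (x ^ j) := by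
      have := congrFun hm (x ^ j)
      simpa [x, Finset.sum_apply, Pi.smul_apply, nsmul_eq_mul] using this
    rw [h1, h2, ← Finset.sum_sub_distrib]
    push_cast
    refine Finset.sum_congr rfl fun ψ _ => ?_
    rw [nsmul_eq_mul, he ψ]
    ring
  | zero => exact ⟨0, M.zero_mem, by simp⟩
  | add y z _ _ hy hz =>
    obtain ⟨a, ha, ha'⟩ := hy
    obtain ⟨b, hb, hb'⟩ := hz
    refine ⟨a + b, M.add_mem ha hb, ?_⟩
    simp only [Pi.add_apply]
    push_cast
    rw [ha', hb']
    ring
  | smul c y _ hy =>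
    obtain ⟨a, ha, ha'⟩ := hy
    refine ⟨c * a, M.mul_mem_left _ ha, ?_⟩
    rw [algInt_smul_apply, algInt_smul_apply]
    push_cast
    rw [ha']
    ring

/-! ### The ideal of induced functions -/

section ideal

variable {G : Type u} [Group G] [Fintype G]

/-- The functions induced from characters of `p`-elementary subgroups. -/
def elemInd (p : ℕ) (G : Type u) [Group G] [Fintype G] : Set (G → ℂ) :=
  {f : G → ℂ | ∃ (E : Subgroup G) (φ : E → ℂ), IsElementary p E ∧ IsCharacter E φ ∧
    f = indFun E φ}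

theorem mem_elemInd_iff {p : ℕ} {f : G → ℂ} : f ∈ elemInd p G ↔
    ∃ (E : Subgroup G) (φ : E → ℂ), IsElementary p E ∧ IsCharacter E φ ∧ f = indFun E φ :=
  Iff.rfl

theorem isCharacter_of_mem_elemInd {p : ℕ} {f : G → ℂ} (hf : f ∈ elemInd p G) :
    IsCharacter G f := by
  obtain ⟨E, φ, -, hφ, rfl⟩ := hf
  exact isCharacter_indFun E hφ

theorem span_elemInd_le {p : ℕ} : Submodule.span AlgInt (elemInd p G) ≤ achar G :=
  Submodule.span_mono fun _ hf => isCharacter_of_mem_elemInd hf

theorem indFun_mem {p : ℕ} (E : Subgroup G) (hE : IsElementary p E) {f : E → ℂ}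
    (hf : f ∈ achar E) : indFun E f ∈ Submodule.span AlgInt (elemInd p G) := by
  induction hf using Submodule.span_induction with
  | mem x hx => exact Submodule.subset_span ⟨E, x, hE, hx, rfl⟩
  | zero => rw [indFun_zero]; exact Submodule.zero_mem _
  | add y z _ _ hy hz => rw [indFun_add]; exact Submodule.add_mem _ hy hz
  | smul a y _ hy =>
    rw [algInt_smul_eq, indFun_smul, ← algInt_smul_eq]
    exact Submodule.smul_mem _ _ hy

theorem mul_mem_span {p : ℕ} {f f' : G → ℂ} (hf : f ∈ Submodule.span AlgInt (elemInd p G))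
    (hf' : f' ∈ achar G) : f * f' ∈ Submodule.span AlgInt (elemInd p G) := by
  induction hf using Submodule.span_induction with
  | mem x hx =>
    obtain ⟨E, φ, hE, hφ, rfl⟩ := hx
    rw [indFun_mul E φ f' (isClassFunction_of_mem_achar hf')]
    exact indFun_mem E hE (mul_mem_achar (mem_achar_of_isCharacter hφ) (restrict_mem_achar E hf'))
  | zero => rw [zero_mul]; exact Submodule.zero_mem _
  | add y z _ _ hy hz => rw [add_mul]; exact Submodule.add_mem _ hy hz
  | smul a y _ hy => rw [smul_mul_assoc]; exact Submodule.smul_mem _ _ hy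

/-- If `f` lies in the ideal, then the constant function with value the product of the values of
`f` lies in the ideal. -/
theorem const_prod_mem {p : ℕ} {f : G → ℂ} (hf : f ∈ Submodule.span AlgInt (elemInd p G)) :
    (fun _ : G => ∏ g : G, -f g) ∈ Submodule.span AlgInt (elemInd p G) := by
  classical
  have hfa : f ∈ achar G := span_elemInd_le hf
  have hint : ∀ g, IsIntegral ℤ (f g) := isIntegral_of_mem_achar hfa
  have key : ∀ s : Finset G, (fun x : G => ∏ g ∈ s, (f x - f g)) ∈ achar G ∧
      (fun x : G => ∏ g ∈ s, (f x - f g)) - (fun _ : G => ∏ g ∈ s, -f g) ∈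
        Submodule.span AlgInt (elemInd p G) := by
    intro s
    induction s using Finset.induction_on with
    | empty =>
      refine ⟨?_, ?_⟩
      · simpa using const_mem_achar (G := G) (c := 1) isIntegral_one
      · simp
    | insert a s ha ih =>
      obtain ⟨ih1, ih2⟩ := ih
      refine ⟨?_, ?_⟩
      · have : (fun x : G => ∏ g ∈ insert a s, (f x - f g)) =
            (f - fun _ => f a) * (fun x : G => ∏ g ∈ s, (f x - f g)) := by
          funext x
          rw [Finset.prod_insert ha]
          rfl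
        rw [this]
        exact mul_mem_achar (Submodule.sub_mem _ hfa (const_mem_achar (hint a))) ih1
      · have : (fun x : G => ∏ g ∈ insert a s, (f x - f g)) -
            (fun _ : G => ∏ g ∈ insert a s, -f g) =
            f * (fun x : G => ∏ g ∈ s, (f x - f g)) + (⟨-f a, (hint a).neg⟩ : AlgInt) •
              ((fun x : G => ∏ g ∈ s, (f x - f g)) - (fun _ : G => ∏ g ∈ s, -f g)) := by
          funext x
          simp only [Pi.sub_apply, Pi.add_apply, Pi.mul_apply, algInt_smul_apply]
          rw [Finset.prod_insert ha, Finset.prod_insert ha]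
          ring
        rw [this]
        exact Submodule.add_mem _ (mul_mem_span hf ih1) (Submodule.smul_mem _ _ ih2)
  have h := (key Finset.univ).2
  have h0 : (fun x : G => ∏ g : G, (f x - f g)) = 0 := by
    funext x
    exact Finset.prod_eq_zero (Finset.mem_univ x) (sub_self _)
  rw [h0, zero_sub] at h
  exact (Submodule.neg_mem_iff _).1 h

end ideal

/-! ### The main construction -/

section construction

variable {G : Type u} [Group G] [Fintype G]

/-- For a `p`-regular element `x` there is an element of the ideal with rational values,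
vanishing at the `p`-regular elements not conjugate to `x`, and equal at `x` to a natural number
prime to `p`. -/
theorem exists_local {p : ℕ} (hp : p.Prime) (x : G) (hx : Nat.Coprime (orderOf x) p) :
    ∃ f ∈ Submodule.span AlgInt (elemInd p G), (∀ g, ∃ q : ℚ, f g = q) ∧
      (∃ t : ℕ, Nat.Coprime t p ∧ ∀ s : G, IsConj x s → f s = t) ∧
      (∀ s : G, Nat.Coprime (orderOf s) p → ¬ IsConj x s → f s = 0) := by
  classical
  have : Fact p.Prime := ⟨hp⟩
  let Q : Subgroup G := Subgroup.centralizer {x}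
  obtain ⟨P⟩ : Nonempty (Sylow p Q) := inferInstance
  let P' : Subgroup G := (P : Subgroup Q).map Q.subtype
  have hP'Q : P' ≤ Q := Subgroup.map_subtype_le _
  have hPp : IsPGroup p P' := P.2.map _
  have hcardP' : Nat.card P' = Nat.card (P : Subgroup Q) :=
    Subgroup.card_map_of_injective Q.subtype_injective
  let C : Subgroup G := Subgroup.zpowers x
  have hCcard : Nat.card C = orderOf x := Nat.card_zpowers x
  have hcomm : ∀ (c : C) (y : P'), Commute (C.subtype c) (P'.subtype y) := by
    intro c y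
    obtain ⟨c, hc⟩ := c
    obtain ⟨k, rfl⟩ := hc
    have h1 : x * y = y * x := (Subgroup.mem_centralizer_singleton_iff.1 (hP'Q y.2)).symm
    exact Commute.zpow_left h1 k
  let φ : C × P' →* G := MonoidHom.noncommCoprod C.subtype P'.subtype hcomm
  have hφ : Function.Injective φ := by
    rw [MonoidHom.noncommCoprod_injective]
    refine ⟨C.subtype_injective, P'.subtype_injective, ?_⟩
    rw [Subgroup.range_subtype, Subgroup.range_subtype]
    obtain ⟨n, hn⟩ := IsPGroup.iff_card.1 hPp
    exact Subgroup.disjoint_of_coprime_natCard (by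
      rw [hCcard, hn]
      exact Nat.Coprime.pow_right n hx)
  let E : Subgroup G := φ.range
  let e : C × P' ≃* E := MonoidHom.ofInjective hφ
  have he : ∀ w : E, ((e.symm w).1 : G) * ((e.symm w).2 : G) = (w : G) := by
    intro w
    have h1 : (e (e.symm w) : G) = w := by rw [e.apply_symm_apply]
    have h2 : (e (e.symm w) : G) = φ (e.symm w) := MonoidHom.ofInjective_apply hφ
    rw [h2, MonoidHom.noncommCoprod_apply] at h1
    exact h1
  have hCQ : ∀ c : C, (c : G) ∈ Q := by
    intro c
    have : x ∈ Q := Subgroup.mem_centralizer_singleton_iff.2 rfl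
    exact (Subgroup.zpowers_le.2 this) c.2
  let x₀ : C := ⟨x, Subgroup.mem_zpowers x⟩
  have hxE : x ∈ E := ⟨(x₀, 1), by
    change φ (x₀, 1) = x
    rw [MonoidHom.noncommCoprod_apply]
    simp [x₀]⟩
  obtain ⟨n, hn⟩ := IsPGroup.iff_card.1 hPp
  have hcardE : Nat.card E = Nat.card C * Nat.card P' := by
    rw [← Nat.card_congr e.toEquiv, Nat.card_prod]
  have hE : IsElementary p E := by
    refine ⟨⟨x, hxE⟩, ?_, ?_, n, ?_⟩
    · rw [Subgroup.mem_center_iff]
      intro w
      apply Subtype.ext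
      have hw : (w : G) ∈ Q := by
        rw [← he w]
        exact Q.mul_mem (hCQ _) (hP'Q (e.symm w).2.2)
      exact Subgroup.mem_centralizer_singleton_iff.1 hw
    · rw [Subgroup.orderOf_mk]
      exact hx
    · have h1 := Subgroup.card_mul_index (Subgroup.zpowers (⟨x, hxE⟩ : E))
      rw [Nat.card_zpowers, Subgroup.orderOf_mk, hcardE, hCcard, hn] at h1
      exact Nat.eq_of_mul_eq_mul_left (orderOf_pos x) h1
  let f₀ : C → ℂ := fun c => if c = x₀ then (Nat.card C : ℂ) else 0
  have hf₀ : f₀ ∈ achar C := single_mem_achar x₀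
  let f₁ : E → ℂ := f₀ ∘ ((MonoidHom.fst C P').comp e.symm.toMonoidHom)
  have hf₁ : f₁ ∈ achar E := comp_mem_achar _ hf₀
  have hf₁' : ∀ w : E, f₁ w = if (e.symm w).1 = x₀ then (Nat.card C : ℂ) else 0 := fun w => rfl
  have hreg : ∀ y : G, Nat.Coprime (orderOf y) p →
      extendByZero E f₁ y = if y = x then (Nat.card C : ℂ) else 0 := by
    intro y hy
    by_cases hyE : y ∈ E
    · rw [extendByZero_mem E f₁ hyE, hf₁']
      have h1 := he ⟨y, hyE⟩
      have h2 : orderOf (e.symm ⟨y, hyE⟩).2 ∣ orderOf y := by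
        have := orderOf_map_dvd ((MonoidHom.snd C P').comp e.symm.toMonoidHom) (⟨y, hyE⟩ : E)
        rw [Subgroup.orderOf_mk y hyE] at this
        exact this
      have h3 : orderOf (e.symm ⟨y, hyE⟩).2 ∣ p ^ n := by
        rw [← hn]
        exact orderOf_dvd_natCard _
      have h4 : (e.symm ⟨y, hyE⟩).2 = 1 := by
        rw [← orderOf_eq_one_iff]
        exact Nat.eq_one_of_dvd_coprimes (hy.pow_right n) h2 h3
      rw [h4] at h1
      have h5 : ((e.symm ⟨y, hyE⟩).1 : G) = y := by simpa using h1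
      have h6 : (e.symm ⟨y, hyE⟩).1 = x₀ ↔ y = x := by
        rw [← Subtype.coe_inj, h5]
      simp only [h6]
    · rw [extendByZero_notMem E f₁ hyE, if_neg]
      rintro rfl
      exact hyE hxE
  have hCpos : (Nat.card C : ℂ) ≠ 0 := by exact_mod_cast Nat.card_pos.ne'
  have hPpos : (Nat.card P' : ℂ) ≠ 0 := by exact_mod_cast Nat.card_pos.ne'
  refine ⟨indFun E f₁, indFun_mem E hE hf₁, ?_, ?_, ?_⟩
  · intro g
    have h1 : ∀ y : G, ∃ n : ℕ, extendByZero E f₁ y = n := by
      intro y
      by_cases hyE : y ∈ E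
      · rw [extendByZero_mem E f₁ hyE, hf₁']
        split_ifs
        · exact ⟨Nat.card C, rfl⟩
        · exact ⟨0, by simp⟩
      · exact ⟨0, by rw [extendByZero_notMem E f₁ hyE]; simp⟩
    choose m hm using h1
    refine ⟨(Nat.card E : ℚ)⁻¹ * ∑ z : G, (m (z⁻¹ * g * z) : ℚ), ?_⟩
    rw [indFun_def]
    simp_rw [hm]
    push_cast
    rfl
  · refine ⟨(P : Subgroup Q).index, ?_, ?_⟩
    · exact ((Nat.Prime.coprime_iff_not_dvd hp).2 P.not_dvd_index).symm
    · intro s hs
      obtain ⟨a, ha⟩ := isConj_iff.1 hs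
      have hsreg : ∀ z : G, Nat.Coprime (orderOf (z⁻¹ * s * z)) p := by
        intro z
        rw [orderOf_conj' z s, ← ha, orderOf_conj a x]
        exact hx
      rw [indFun_def]
      simp_rw [hreg _ (hsreg _)]
      have h2 : ∑ z : G, (if z⁻¹ * s * z = x then (Nat.card C : ℂ) else 0) =
          (Nat.card Q : ℂ) * Nat.card C := by
        rw [← Equiv.sum_comp (Equiv.mulLeft a)]
        simp only [Equiv.coe_mulLeft]
        have h3 : ∀ q : G, ((a * q)⁻¹ * s * (a * q) = x) ↔ q ∈ Q := by
          intro q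
          rw [← ha, Subgroup.mem_centralizer_singleton_iff]
          have : (a * q)⁻¹ * (a * x * a⁻¹) * (a * q) = q⁻¹ * (x * q) := by group
          rw [this, inv_mul_eq_iff_eq_mul]
          exact eq_comm
        simp_rw [h3]
        rw [← Finset.sum_filter, Finset.sum_const, nsmul_eq_mul]
        congr 2
        rw [← Fintype.card_subtype, Nat.card_eq_fintype_card]
      rw [h2, hcardE]
      have h4 : (Nat.card Q : ℂ) = Nat.card P' * (P : Subgroup Q).index := by
        rw [hcardP']
        exact_mod_cast (Subgroup.card_mul_index (P : Subgroup Q)).symm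
      rw [h4]
      push_cast
      field_simp
  · intro s hs hns
    rw [indFun_def]
    have hsreg : ∀ z : G, Nat.Coprime (orderOf (z⁻¹ * s * z)) p := by
      intro z
      rw [orderOf_conj' z s]
      exact hs
    simp_rw [hreg _ (hsreg _)]
    rw [Finset.sum_eq_zero, mul_zero]
    intro z _
    rw [if_neg]
    intro h
    apply hns
    rw [isConj_iff]
    exact ⟨z, by rw [← h]; group⟩

/-- There is an element of the ideal all of whose values are integers prime to `p`. -/
theorem exists_unit_function {p : ℕ} (hp : p.Prime) :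
    ∃ f ∈ Submodule.span AlgInt (elemInd p G), ∀ g, ∃ n : ℤ, f g = n ∧ IsCoprime n (p : ℤ) := by
  classical
  have hloc : ∀ c : ConjClasses G, ∃ (f : G → ℂ) (t : ℕ),
      f ∈ Submodule.span AlgInt (elemInd p G) ∧ (∀ g, ∃ q : ℚ, f g = q) ∧ Nat.Coprime t p ∧
      (∀ s : G, Nat.Coprime (orderOf s) p → IsConj (Quotient.out c) s → f s = t) ∧
      (∀ s : G, Nat.Coprime (orderOf s) p → ¬ IsConj (Quotient.out c) s → f s = 0) := by
    intro c
    by_cases hc : Nat.Coprime (orderOf (Quotient.out c)) p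
    · obtain ⟨f, hf, hq, ⟨t, ht, ht'⟩, h0⟩ := exists_local hp (Quotient.out c) hc
      exact ⟨f, t, hf, hq, ht, fun s _ => ht' s, h0⟩
    · refine ⟨0, 1, Submodule.zero_mem _, fun g => ⟨0, by simp⟩, by simp, ?_, fun _ _ _ => rfl⟩
      intro s hs hs'
      exfalso
      apply hc
      obtain ⟨a, ha⟩ := isConj_iff.1 hs'
      rw [← orderOf_conj a, ha]
      exact hs
  choose F t hF hq ht ht' h0 using hloc
  have hmem : (∑ c : ConjClasses G, F c) ∈ Submodule.span AlgInt (elemInd p G) :=
    Submodule.sum_mem _ fun c _ => hF c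
  have hreg : ∀ s : G, Nat.Coprime (orderOf s) p →
      (∑ c : ConjClasses G, F c) s = t (ConjClasses.mk s) := by
    intro s hs
    rw [Finset.sum_apply, Finset.sum_eq_single (ConjClasses.mk s)]
    · apply ht' _ _ hs
      rw [← ConjClasses.mk_eq_mk_iff_isConj]
      exact Quotient.out_eq _
    · intro c _ hc
      apply h0 _ _ hs
      intro h
      apply hc
      rw [← ConjClasses.mk_eq_mk_iff_isConj] at h
      rw [← h]
      exact (Quotient.out_eq _).symm
    · intro h
      exact absurd (Finset.mem_univ _) h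
  have hint : ∀ g, ∃ n : ℤ, (∑ c : ConjClasses G, F c) g = n := by
    intro g
    choose q hq' using fun c => hq c g
    have h1 : (∑ c : ConjClasses G, F c) g = ((∑ c : ConjClasses G, q c : ℚ) : ℂ) := by
      rw [Finset.sum_apply]
      push_cast
      exact Finset.sum_congr rfl fun c _ => hq' c
    have h2 := isIntegral_of_mem_achar (span_elemInd_le hmem) g
    rw [h1] at h2
    obtain ⟨n, hn⟩ := exists_int_of_rat h2
    exact ⟨n, by rw [h1, hn]; simp⟩
  refine ⟨_, hmem, fun g => ?_⟩
  obtain ⟨n, hn⟩ := hint g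
  refine ⟨n, hn, ?_⟩
  obtain ⟨M, hM, hpM⟩ := exists_maximal p hp
  obtain ⟨j, k, hjk, hjk'⟩ := exists_regular_part hp g
  obtain ⟨m, hmM, hm⟩ := congr_of_mem_achar hp hM.isPrime hpM (span_elemInd_le hmem) g hjk'
  rw [hn, hreg _ hjk] at hm
  by_contra hcop
  have hdvd : (p : ℤ) ∣ n := by
    by_contra h
    exact hcop (((Nat.prime_iff_prime_int.1 hp).coprime_iff_not_dvd).2 h).symm
  obtain ⟨d, rfl⟩ := hdvd
  have h3 : IsCoprime ((t (ConjClasses.mk (g ^ j)) : ℕ) : ℤ) (p : ℤ) :=
    Nat.isCoprime_iff_coprime.2 (ht _)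
  apply not_mem_of_coprime hM.isPrime hpM h3
  have h4 : (((t (ConjClasses.mk (g ^ j)) : ℕ) : ℤ) : AlgInt) = (p : AlgInt) * (d : AlgInt) - m := by
    apply Subtype.ext
    push_cast
    rw [hm]
    push_cast
    ring
  rw [h4]
  exact Ideal.sub_mem _ (Ideal.mul_mem_right _ _ hpM) hmM

omit [Fintype G] in
theorem isGeneralizedCharacter_const (m : ℤ) : IsGeneralizedCharacter G (fun _ => (m : ℂ)) := by
  refine ⟨m.toNat • 1, (-m).toNat • 1, Core.isCharacter_nsmul _ Core.isCharacter_one,
    Core.isCharacter_nsmul _ Core.isCharacter_one, ?_⟩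
  funext g
  simp only [Pi.sub_apply, nsmul_eq_mul, mul_one, Pi.natCast_apply]
  have h : ((m.toNat : ℤ) : ℂ) - (((-m).toNat : ℤ) : ℂ) = (m : ℂ) := by
    rw [← Int.cast_sub, Int.toNat_sub_toNat_neg]
  exact_mod_cast h.symm

/-- The local form of Brauer's induction theorem. -/
theorem brauer_local (p : ℕ) (hp : p.Prime) :
    ∃ m : ℤ, ¬ (p : ℤ) ∣ m ∧ (fun _ : G => (m : ℂ)) ∈ Submodule.span ℤ (elemInd p G) := by
  classical
  obtain ⟨f, hf, hn⟩ := exists_unit_function (G := G) hp
  choose n hn hcop using hn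
  refine ⟨∏ g : G, -n g, ?_, ?_⟩
  · have h1 : IsCoprime (∏ g : G, -n g) (p : ℤ) := IsCoprime.prod_left fun g _ => (hcop g).neg_left
    exact ((Nat.prime_iff_prime_int.1 hp).coprime_iff_not_dvd).1 h1.symm
  · apply mem_span_int
    · intro s hs
      exact ⟨s, 0, isCharacter_of_mem_elemInd hs, Core.isCharacter_zero, by simp⟩
    · have h2 := const_prod_mem hf
      convert h2 using 2
      push_cast
      exact Finset.prod_congr rfl fun g _ => by rw [hn]
    · exact isGeneralizedCharacter_const _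

/-- Brauer's induction theorem for the principal character. -/
theorem brauer_global : (1 : G → ℂ) ∈ Submodule.span ℤ
    {f : G → ℂ | ∃ (E : Subgroup G) (p : ℕ) (φ : E → ℂ), p.Prime ∧ IsElementary p E ∧
      IsCharacter E φ ∧ f = indFun E φ} := by
  classical
  set S : Set (G → ℂ) := {f : G → ℂ | ∃ (E : Subgroup G) (p : ℕ) (φ : E → ℂ), p.Prime ∧
    IsElementary p E ∧ IsCharacter E φ ∧ f = indFun E φ} with hS
  have hsub : ∀ p : ℕ, p.Prime → Submodule.span ℤ (elemInd p G) ≤ Submodule.span ℤ S := by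
    intro p hp
    apply Submodule.span_mono
    rintro f ⟨E, φ, hE, hφ, rfl⟩
    exact ⟨E, p, φ, hp, hE, hφ, rfl⟩
  -- the additive group of integers `m` with `m • 1` in the span
  let I : Ideal ℤ := (Submodule.span ℤ S).comap (LinearMap.toSpanSingleton ℤ (G → ℂ) 1)
  have hI : ∀ m : ℤ, m ∈ I ↔ (fun _ : G => (m : ℂ)) ∈ Submodule.span ℤ S := by
    intro m
    have : (LinearMap.toSpanSingleton ℤ (G → ℂ) 1) m = fun _ : G => (m : ℂ) := by
      funext g
      simp [LinearMap.toSpanSingleton_apply]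
    rw [← this]
    rfl
  obtain ⟨d, hd⟩ : ∃ d, I = Ideal.span {d} := ⟨_, (Ideal.span_singleton_generator _).symm⟩
  have hunit : d.natAbs = 1 := by
    by_contra hne
    obtain ⟨p, hp, hpd⟩ := Nat.exists_prime_and_dvd hne
    obtain ⟨m, hm, hm'⟩ := brauer_local (G := G) p hp
    have h1 : m ∈ I := (hI m).2 (hsub p hp hm')
    rw [hd, Ideal.mem_span_singleton] at h1
    exact hm ((Int.natCast_dvd.2 hpd).trans h1)
  have h1 : (1 : ℤ) ∈ I := by
    rw [hd, Ideal.mem_span_singleton]
    exact (Int.isUnit_iff_natAbs_eq.2 hunit).dvd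
  have h2 := (hI 1).1 h1
  have h3 : (fun _ : G => ((1 : ℤ) : ℂ)) = 1 := by
    funext g
    simp
  rwa [h3] at h2

/-- Brauer's characterisation with algebraic-integer coefficients. -/
theorem mem_achar_of_elementary {f : G → ℂ} (hf : IsClassFunction G f)
    (h : ∀ (E : Subgroup G) (p : ℕ), p.Prime → IsElementary p E → (fun e : E => f e) ∈ achar E) :
    f ∈ achar G := by
  have key : ∀ u ∈ Submodule.span ℤ
    {f : G → ℂ | ∃ (E : Subgroup G) (p : ℕ) (φ : E → ℂ), p.Prime ∧ IsElementary p E ∧
      IsCharacter E φ ∧ f = indFun E φ}, u * f ∈ achar G := by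
    intro u hu
    induction hu using Submodule.span_induction with
    | mem x hx =>
      obtain ⟨E, p, φ, hp, hE, hφ, rfl⟩ := hx
      rw [indFun_mul E φ f hf]
      exact indFun_mem_achar E (mul_mem_achar (mem_achar_of_isCharacter hφ) (h E p hp hE))
    | zero => rw [zero_mul]; exact Submodule.zero_mem _
    | add y z _ _ hy hz => rw [add_mul]; exact Submodule.add_mem _ hy hz
    | smul a y _ hy => rw [smul_mul_assoc]; exact zsmul_mem hy a
  have := key 1 brauer_global
  rwa [one_mul] at this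

end construction

end Cfsg.Agent.CharactersDeep.BrauerLocal
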