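import Mathlib.GroupTheory.Nilpotent
import Mathlib.GroupTheory.Sylow
import Mathlib.GroupTheory.Solvable

/-!
# Finite groups all of whose Sylow subgroups are abelian

The property passes to subgroups and quotients; a nilpotent such group is abelian; in a
solvable such group there is, for every homomorphism with non-commutative image, a term of
the derived series with commutative, non-central image.
-/

set_option autoImplicit false

namespace Cfsg.Agent.CharactersDeep.AbelianSylow

/-- All Sylow subgroups of `G` are abelian. -/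
def AbSyl (G : Type*) [Group G] : Prop :=
  ∀ (p : ℕ) [Fact p.Prime] (P : Sylow p G), ∀ a ∈ P, ∀ b ∈ P, a * b = b * a

theorem AbSyl.of_injective {G H : Type*} [Group G] [Group H] (h : AbSyl G) (f : H →* G)
    (hf : Function.Injective f) : AbSyl H := by
  intro p _ P a ha b hb
  obtain ⟨Q, hQ⟩ := (P.2.map f).exists_le_sylow
  apply hf
  rw [map_mul, map_mul]
  exact h p Q (f a) (hQ (Subgroup.mem_map_of_mem f ha)) (f b) (hQ (Subgroup.mem_map_of_mem f hb))

theorem AbSyl.of_surjective {G H : Type*} [Group G] [Group H] [Finite G] (h : AbSyl G)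
    (f : G →* H) (hf : Function.Surjective f) : AbSyl H := by
  intro p _ P a ha b hb
  obtain ⟨Q, rfl⟩ := Sylow.mapSurjective_surjective hf p P
  obtain ⟨x, hx, rfl⟩ := ha
  obtain ⟨y, hy, rfl⟩ := hb
  rw [← map_mul, ← map_mul]
  exact congrArg f (h p Q x hx y hy)

/-- A finite nilpotent group with abelian Sylow subgroups is abelian. -/
theorem AbSyl.comm_of_isNilpotent {G : Type*} [Group G] [Finite G] [Group.IsNilpotent G]
    (h : AbSyl G) (a b : G) : a * b = b * a := by
  obtain ⟨e⟩ : Nonempty ((∀ p : (Nat.card G).primeFactors, ∀ P : Sylow p G,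
      (↑P : Subgroup G)) ≃* G) :=
    (Group.isNilpotent_of_finite_tfae (G := G)).out 0 4 rfl rfl |>.mp inferInstance
  obtain ⟨x, rfl⟩ := e.surjective a
  obtain ⟨y, rfl⟩ := e.surjective b
  rw [← map_mul, ← map_mul]
  congr 1
  funext p P
  have : Fact (p : ℕ).Prime := ⟨Nat.prime_of_mem_primeFactors p.2⟩
  exact Subtype.ext (h (p : ℕ) P (x p P) (x p P).2 (y p P) (y p P).2)

/-- A finite group with abelian Sylow subgroups whose image under a homomorphism (to a monoid)
has "class at most two" has commutative image. -/
theorem AbSyl.comm_map {A M : Type*} [Group A] [Finite A] [Monoid M] (h : AbSyl A) (f : A →* M)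
    (hf : ∀ c ∈ commutator A, ∀ a : A, f c * f a = f a * f c) (a b : A) :
    f a * f b = f b * f a := by
  let Q := A ⧸ f.ker
  let π : A →* Q := QuotientGroup.mk' f.ker
  have hπ : Function.Surjective π := QuotientGroup.mk'_surjective _
  have hQ : AbSyl Q := h.of_surjective π hπ
  have hcomm : commutator Q ≤ Subgroup.center Q := by
    have h1 : commutator Q = (commutator A).map π := by
      rw [commutator_def, commutator_def, Subgroup.map_commutator,
        Subgroup.map_top_of_surjective π hπ]
    rw [h1]
    rintro _ ⟨c, hc, rfl⟩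
    rw [Subgroup.mem_center_iff]
    intro q
    obtain ⟨a, rfl⟩ := hπ q
    have h2 : (c * a)⁻¹ * (a * c) ∈ f.ker := by
      rw [MonoidHom.mem_ker, map_mul, map_mul, ← hf c hc a, ← map_mul, ← map_mul,
        inv_mul_cancel, map_one]
    have h3 : π (c * a) = π (a * c) := (QuotientGroup.eq (s := f.ker)).mpr h2
    rw [← map_mul, ← map_mul]
    exact h3.symm
  have : Group.IsNilpotent Q := by
    have : Group.IsNilpotent (Q ⧸ Subgroup.center Q) := by
      have hc : ∀ x y : Q ⧸ Subgroup.center Q, x * y = y * x := by
        intro x y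
        obtain ⟨x, rfl⟩ := QuotientGroup.mk_surjective x
        obtain ⟨y, rfl⟩ := QuotientGroup.mk_surjective y
        rw [← QuotientGroup.mk_mul, ← QuotientGroup.mk_mul, QuotientGroup.eq]
        have h4 := hcomm (Subgroup.commutator_mem_commutator (Subgroup.mem_top (y⁻¹ : Q))
          (Subgroup.mem_top (x⁻¹ : Q)))
        have h5 : (x * y)⁻¹ * (y * x) = y⁻¹ * x⁻¹ * (y⁻¹)⁻¹ * (x⁻¹)⁻¹ := by
          group
        rw [h5]
        exact h4
      let _ : CommGroup (Q ⧸ Subgroup.center Q) := { mul_comm := hc }
      infer_instance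
    exact Subgroup.isNilpotent_of_ker_le_center (QuotientGroup.mk' (Subgroup.center Q))
      (by rw [QuotientGroup.ker_mk'])
  have h6 : π a * π b = π b * π a := hQ.comm_of_isNilpotent (π a) (π b)
  rw [← map_mul, ← map_mul] at h6
  have h7 : (a * b)⁻¹ * (b * a) ∈ f.ker := (QuotientGroup.eq (s := f.ker)).mp h6
  have h8 : f (b * a) = f (a * b) := by
    have : b * a = (a * b) * ((a * b)⁻¹ * (b * a)) := by group
    rw [this, map_mul, MonoidHom.mem_ker.mp h7, mul_one]
  rw [← map_mul, ← map_mul, h8]

/-- In a finite solvable group with abelian Sylow subgroups, a homomorphism with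
non-commutative image has, on some term of the derived series, commutative but not central
image. -/
theorem AbSyl.exists_derivedSeries {N M : Type*} [Group N] [Finite N] [Group.IsSolvable N]
    [Monoid M] (h : AbSyl N) (f : N →* M) (hf : ¬ ∀ a b : N, f a * f b = f b * f a) :
    ∃ i : ℕ, (∀ a ∈ derivedSeries N i, ∀ b ∈ derivedSeries N i, f a * f b = f b * f a) ∧
      ¬ ∀ a ∈ derivedSeries N i, ∀ b : N, f a * f b = f b * f a := by
  classical
  have hex : ∃ i : ℕ, ∀ a ∈ derivedSeries N i, ∀ b : N, f a * f b = f b * f a := by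
    obtain ⟨n, hn⟩ := (Group.isSolvable_def N).mp inferInstance
    refine ⟨n, fun a ha b => ?_⟩
    rw [hn, Subgroup.mem_bot] at ha
    rw [ha, map_one, one_mul, mul_one]
  obtain ⟨j, hj, hmin⟩ : ∃ j, (∀ a ∈ derivedSeries N j, ∀ b : N, f a * f b = f b * f a) ∧
      ∀ k < j, ¬ ∀ a ∈ derivedSeries N k, ∀ b : N, f a * f b = f b * f a :=
    ⟨Nat.find hex, Nat.find_spec hex, fun k hk => Nat.find_min hex hk⟩
  cases j with
  | zero =>
    exfalso
    apply hf
    intro a b
    exact hj a (by rw [derivedSeries_zero]; exact Subgroup.mem_top a) b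
  | succ i =>
    refine ⟨i, ?_, hmin i (Nat.lt_succ_self i)⟩
    have hA : AbSyl (derivedSeries N i) :=
      h.of_injective (derivedSeries N i).subtype (Subgroup.subtype_injective _)
    have key := hA.comm_map (f.comp (derivedSeries N i).subtype) (by
      intro c hc a
      have hc' : (c : N) ∈ derivedSeries N (i + 1) := by
        rw [derivedSeries_succ]
        have h1 : (commutator (derivedSeries N i)).map (derivedSeries N i).subtype =
            ⁅derivedSeries N i, derivedSeries N i⁆ := by
          rw [commutator_def, Subgroup.map_commutator, ← MonoidHom.range_eq_map,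
            Subgroup.range_subtype]
        rw [← h1]
        exact ⟨c, hc, rfl⟩
      exact hj (c : N) hc' (a : N))
    intro a ha b hb
    exact key ⟨a, ha⟩ ⟨b, hb⟩

end Cfsg.Agent.CharactersDeep.AbelianSylow
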