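import Mathlib
import Cfsg.Prelude.Def_Characters

/-!
# Definitions for Berger's theorem

Stable subspaces, homogeneous restriction to a normal subgroup.
-/

set_option autoImplicit false

namespace Cfsg.Agent.CharactersDeep.BergerDefs

open Cfsg Representation Module

variable {G V : Type*} [Group G] [AddCommGroup V] [Module ℂ V]

/-- `W` is stable under the subgroup `H`. -/
def Stable (ρ : Representation ℂ G V) (H : Subgroup G) (W : Submodule ℂ V) : Prop :=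
  ∀ h ∈ H, ∀ w ∈ W, ρ h w ∈ W

/-- The restriction of `ρ` to `N` is homogeneous: between any two nonzero stable subspaces there
is a nonzero map (given as the restriction of an equivariant endomorphism of the whole space). -/
def Homog (ρ : Representation ℂ G V) (N : Subgroup G) : Prop :=
  ∀ V₁ V₂ : Submodule ℂ V, V₁ ≠ ⊥ → V₂ ≠ ⊥ → Stable ρ N V₁ → Stable ρ N V₂ →
    ∃ T : V →ₗ[ℂ] V, (∀ n ∈ N, T * ρ n = ρ n * T) ∧ (∀ v ∈ V₁, T v ∈ V₂) ∧ ∃ v ∈ V₁, T v ≠ 0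

theorem stable_def (ρ : Representation ℂ G V) (H : Subgroup G) (W : Submodule ℂ V) :
    Stable ρ H W ↔ ∀ h ∈ H, ∀ w ∈ W, ρ h w ∈ W := Iff.rfl

theorem homog_def (ρ : Representation ℂ G V) (N : Subgroup G) :
    Homog ρ N ↔ ∀ V₁ V₂ : Submodule ℂ V, V₁ ≠ ⊥ → V₂ ≠ ⊥ → Stable ρ N V₁ → Stable ρ N V₂ →
      ∃ T : V →ₗ[ℂ] V, (∀ n ∈ N, T * ρ n = ρ n * T) ∧ (∀ v ∈ V₁, T v ∈ V₂) ∧
        ∃ v ∈ V₁, T v ≠ 0 := Iff.rfl

end Cfsg.Agent.CharactersDeep.BergerDefs
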