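import Mathlib
import Cfsg.Prelude.Def_Characters
import Cfsg.Agent.CharactersDeep.BergerDefs

/-!
# Joint eigenspaces of a commuting family permuted by an irreducible representation

If `R c` is a commuting family of operators permuted up to conjugation by the irreducible
representation `ρ`, then either all `R c` are scalar or `ρ` is imprimitive.
-/

set_option autoImplicit false

namespace Cfsg.Agent.CharactersDeep.BergerCA

open Cfsg Representation Module
open Cfsg.Agent.CharactersDeep.BergerDefs

/-- dimensions of independent subspaces add up to at most the whole dimension -/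
theorem sum_finrank_le {V ι : Type*} [Fintype ι] [AddCommGroup V] [Module ℂ V]
    [FiniteDimensional ℂ V] (p : ι → Submodule ℂ V) (h : iSupIndep p) :
    ∑ i, finrank ℂ (p i) ≤ finrank ℂ V := by
  classical
  have h1 := h.dfinsupp_lsum_injective
  have h2 := LinearMap.finrank_le_finrank_of_injective h1
  have h3 : finrank ℂ (Π₀ i, p i) = ∑ i, finrank ℂ (p i) :=
    Module.finrank_directSum (R := ℂ) (fun i => (p i : Type _))
  rw [h3] at h2
  exact h2

/-- a commuting family has a nonzero joint eigenspace -/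
theorem exists_joint {V : Type*} [AddCommGroup V] [Module ℂ V] [FiniteDimensional ℂ V]
    [Nontrivial V] {C : Type*} (R : C → Module.End ℂ V)
    (hcomm : ∀ c d, R c * R d = R d * R c) :
    ∃ χ : C → ℂ, (⨅ c, (R c).eigenspace (χ c)) ≠ ⊥ := by
  classical
  -- a nonzero submodule stable under all `R c`, of minimal dimension
  let P : ℕ → Prop := fun n => ∃ W : Submodule ℂ V, W ≠ ⊥ ∧ (∀ c, ∀ w ∈ W, R c w ∈ W) ∧
    finrank ℂ W = n
  have hP : ∃ n, P n := ⟨_, ⊤, top_ne_bot, fun c w _ => Submodule.mem_top, rfl⟩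
  obtain ⟨W, hW0, hWs, hWn⟩ := Nat.find_spec hP
  have hmin : ∀ W' : Submodule ℂ V, W' ≠ ⊥ → (∀ c, ∀ w ∈ W', R c w ∈ W') → W' ≤ W → W' = W := by
    intro W' h0 hs hle
    have h1 : Nat.find hP ≤ finrank ℂ W' := Nat.find_min' hP ⟨W', h0, hs, rfl⟩
    exact Submodule.eq_of_le_of_finrank_le hle (by rw [hWn]; exact h1)
  have key : ∀ c, ∃ z : ℂ, W ≤ (R c).eigenspace z := by
    intro c
    have : Nontrivial W := Submodule.nontrivial_iff_ne_bot.mpr hW0
    obtain ⟨z, hz⟩ := Module.End.exists_eigenvalue ((R c).restrict (hWs c))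
    obtain ⟨w, hw⟩ := hz.exists_hasEigenvector
    refine ⟨z, ?_⟩
    have h1 : W ⊓ (R c).eigenspace z = W := by
      apply hmin _ _ _ inf_le_left
      · intro h
        apply hw.2
        have h2 : (w : V) ∈ W ⊓ (R c).eigenspace z := by
          refine ⟨w.2, ?_⟩
          rw [SetLike.mem_coe, Module.End.mem_eigenspace_iff]
          have h3 := hw.apply_eq_smul
          have h4 := congrArg (Subtype.val) h3
          simpa using h4
        rw [h, Submodule.mem_bot] at h2
        exact Subtype.ext h2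
      · rintro d v ⟨hv1, hv2⟩
        refine ⟨hWs d v hv1, ?_⟩
        rw [SetLike.mem_coe, Module.End.mem_eigenspace_iff] at hv2 ⊢
        have h3 : R c (R d v) = R d (R c v) := by
          have := congrArg (fun f : Module.End ℂ V => f v) (hcomm c d)
          simpa [Module.End.mul_apply] using this
        rw [h3, hv2, map_smul]
    intro v hv
    rw [← h1] at hv
    exact hv.2
  choose χ hχ using key
  refine ⟨χ, fun h => hW0 ?_⟩
  rw [eq_bot_iff, ← h]
  exact le_iInf hχ

theorem indep_joint {V : Type*} [AddCommGroup V] [Module ℂ V] [FiniteDimensional ℂ V]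
    {C : Type*} (R : C → Module.End ℂ V) (hcomm : ∀ c d, R c * R d = R d * R c) :
    iSupIndep fun χ : C → ℂ => ⨅ c, (R c).eigenspace (χ c) := by
  have h1 := Module.End.independent_iInf_maxGenEigenspace_of_forall_mapsTo R (by
    intro i j φ
    exact Module.End.mapsTo_maxGenEigenspace_of_comm (hcomm j i) φ)
  refine h1.mono fun χ => iInf_mono fun c => ?_
  exact (R c).genEigenspace (χ c) |>.mono le_top

variable {G V : Type*} [Group G] [Finite G] [AddCommGroup V] [Module ℂ V]
  [FiniteDimensional ℂ V]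

theorem scalar_or_imprimitive (ρ : Representation ℂ G V) (hρ : ρ.IsIrreducible) {C : Type*}
    (R : C → V →ₗ[ℂ] V) (hcomm : ∀ c d, R c * R d = R d * R c)
    (hconj : ∀ (g : G) (c : C), ∃ d : C, ρ g * R c = R d * ρ g) :
    (∀ c, ∃ z : ℂ, R c = z • (1 : V →ₗ[ℂ] V)) ∨
      ∃ (J : Subgroup G) (W : Submodule ℂ V), J ≠ ⊤ ∧ W ≠ ⊥ ∧ Stable ρ J W ∧
        J.index * finrank ℂ W ≤ finrank ℂ V := by
  classical
  -- the representation is nonzero and irreducible
  have hirr := hρ
  have hnt : Nontrivial V := by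
    by_contra h2
    rw [not_nontrivial_iff_subsingleton] at h2
    have h1 : (⊥ : Subrepresentation ρ) ≠ ⊤ := bot_ne_top
    exact h1 (Subrepresentation.toSubmodule_injective (Subsingleton.elim _ _))
  obtain ⟨χ, hχ⟩ := exists_joint R hcomm
  set E : (C → ℂ) → Submodule ℂ V := fun ψ => ⨅ c, Module.End.eigenspace (R c) (ψ c) with hE
  have memE : ∀ (ψ : C → ℂ) (v : V), v ∈ E ψ ↔ ∀ c, R c v = ψ c • v := by
    intro ψ v
    rw [hE]
    simp only [Submodule.mem_iInf, Module.End.mem_eigenspace_iff]
  have hind : iSupIndep E := indep_joint R hcomm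
  -- the action on characters
  have hex : ∀ (g : G) (d : C), ∃ c : C, R d * ρ g = ρ g * R c := by
    intro g d
    obtain ⟨c, hc⟩ := hconj g⁻¹ d
    refine ⟨c, ?_⟩
    have h1 : ρ g * (ρ g⁻¹ * R d) * ρ g = ρ g * (R c * ρ g⁻¹) * ρ g := by rw [hc]
    have h2 : ρ g * ρ g⁻¹ = 1 := by rw [← map_mul, mul_inv_cancel, map_one]
    have h3 : ρ g⁻¹ * ρ g = 1 := by rw [← map_mul, inv_mul_cancel, map_one]
    calc R d * ρ g = ρ g * (ρ g⁻¹ * R d) * ρ g := by rw [← mul_assoc, h2, one_mul]
      _ = ρ g * (R c * ρ g⁻¹) * ρ g := h1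
      _ = ρ g * R c := by rw [mul_assoc, mul_assoc (R c), h3, mul_one]
  choose κ hκ using hex
  -- translate of a character
  let tr : G → (C → ℂ) → (C → ℂ) := fun g ψ d => ψ (κ g d)
  have htr : ∀ (g : G) (ψ : C → ℂ) (v : V), v ∈ E ψ → ρ g v ∈ E (tr g ψ) := by
    intro g ψ v hv
    rw [memE] at hv ⊢
    intro d
    have h1 := congrArg (fun f : Module.End ℂ V => f v) (hκ g d)
    simp only [Module.End.mul_apply] at h1
    rw [h1, hv, map_smul]
  have hEne : ∀ (ψ ψ' : C → ℂ) (v : V), v ≠ 0 → v ∈ E ψ → v ∈ E ψ' → ψ = ψ' := by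
    intro ψ ψ' v hv h1 h2
    funext c
    have h3 := (memE ψ v).mp h1 c
    have h4 := (memE ψ' v).mp h2 c
    exact smul_left_injective ℂ hv (h3.symm.trans h4)
  obtain ⟨v0, hv0, hv0ne⟩ := Submodule.exists_mem_ne_zero_of_ne_bot hχ
  have hinv : ∀ (g : G) (v : V), ρ g⁻¹ (ρ g v) = v := by
    intro g v
    rw [← Module.End.mul_apply, ← map_mul, inv_mul_cancel, map_one, Module.End.one_apply]
  have hinv' : ∀ (g : G) (v : V), ρ g (ρ g⁻¹ v) = v := by
    intro g v
    rw [← Module.End.mul_apply, ← map_mul, mul_inv_cancel, map_one, Module.End.one_apply]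
  have hne0 : ∀ (g : G) (v : V), v ≠ 0 → ρ g v ≠ 0 := by
    intro g v hv h
    apply hv
    rw [← hinv g v, h, map_zero]
  -- back translation
  have hback : ∀ (g : G) (v : V), v ∈ E (tr g χ) → ρ g⁻¹ v ∈ E χ := by
    intro g v hv
    have h1 := htr g⁻¹ (tr g χ) v hv
    have h2 := htr g⁻¹ (tr g χ) (ρ g v0) (htr g χ v0 hv0)
    rw [hinv] at h2
    have h3 : tr g⁻¹ (tr g χ) = χ := hEne _ _ v0 hv0ne h2 hv0
    rwa [h3] at h1
  -- the stabiliser of the joint eigenspace
  let J : Subgroup G :=
    { carrier := {g | tr g χ = χ}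
      one_mem' := by
        show tr 1 χ = χ
        have h := htr 1 χ v0 hv0
        rw [map_one, Module.End.one_apply] at h
        exact hEne _ _ v0 hv0ne h hv0
      mul_mem' := by
        intro a b ha hb
        change tr a χ = χ at ha
        change tr b χ = χ at hb
        show tr (a * b) χ = χ
        have h1 := htr (a * b) χ v0 hv0
        have h2 := htr b χ v0 hv0
        rw [hb] at h2
        have h3 := htr a χ _ h2
        rw [ha, ← Module.End.mul_apply, ← map_mul] at h3
        exact hEne _ _ _ (hne0 _ _ hv0ne) h1 h3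
      inv_mem' := by
        intro a ha
        change tr a χ = χ at ha
        show tr a⁻¹ χ = χ
        have h1 := htr a⁻¹ χ v0 hv0
        have h2 := hback a v0 (by rw [ha]; exact hv0)
        exact hEne _ _ _ (hne0 _ _ hv0ne) h1 h2 }
  have hJ : ∀ g : G, g ∈ J ↔ tr g χ = χ := fun g => Iff.rfl
  by_cases hJtop : J = ⊤
  · left
    have hst : ∀ g : G, ∀ v ∈ E χ, ρ g v ∈ E χ := by
      intro g v hv
      have h1 : g ∈ J := by rw [hJtop]; exact Subgroup.mem_top g
      have h2 := htr g χ v hv
      rwa [(hJ g).mp h1] at h2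
    let U : Subrepresentation ρ := ⟨E χ, fun g v hv => hst g v hv⟩
    have htop : E χ = ⊤ := by
      rcases eq_bot_or_eq_top U with h1 | h1
      · exact absurd (congrArg Subrepresentation.toSubmodule h1) hχ
      · exact congrArg Subrepresentation.toSubmodule h1
    intro c
    refine ⟨χ c, LinearMap.ext fun v => ?_⟩
    have h1 : v ∈ E χ := by rw [htop]; exact Submodule.mem_top
    rw [LinearMap.smul_apply, Module.End.one_apply]
    exact (memE χ v).mp h1 c
  · right
    refine ⟨J, E χ, hJtop, hχ, ?_, ?_⟩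
    · intro g hg v hv
      have h2 := htr g χ v hv
      rwa [(hJ g).mp hg] at h2
    · -- the translates by coset representatives
      have : Fintype (G ⧸ J) := Fintype.ofFinite _
      have hinj : Function.Injective (fun q : G ⧸ J => tr q.out χ) := by
        intro q₁ q₂ h
        change tr q₁.out χ = tr q₂.out χ at h
        rw [← q₁.out_eq', ← q₂.out_eq', QuotientGroup.eq, hJ]
        have h1 := htr q₂.out χ v0 hv0
        rw [← h] at h1
        have h2 := hback q₁.out _ h1
        have h3 := htr (q₁.out⁻¹ * q₂.out) χ v0 hv0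
        rw [map_mul, Module.End.mul_apply] at h3
        exact hEne _ _ _ (hne0 _ _ (hne0 _ _ hv0ne)) h3 h2
      have h1 : iSupIndep (fun q : G ⧸ J => E (tr q.out χ)) := hind.comp hinj
      have h2 := sum_finrank_le _ h1
      have h3 : ∀ g : G, finrank ℂ (E χ) ≤ finrank ℂ (E (tr g χ)) := by
        intro g
        have hmap : ∀ v ∈ E χ, (ρ g : V →ₗ[ℂ] V) v ∈ E (tr g χ) := fun v hv => htr g χ v hv
        apply LinearMap.finrank_le_finrank_of_injective (f := (ρ g : V →ₗ[ℂ] V).restrict hmap)
        intro x y hxy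
        have h4 : ρ g (x : V) = ρ g (y : V) := congrArg Subtype.val hxy
        have h5 := congrArg (ρ g⁻¹) h4
        rw [hinv, hinv] at h5
        exact Subtype.ext h5
      calc J.index * finrank ℂ (E χ) = ∑ _q : G ⧸ J, finrank ℂ (E χ) := by
            rw [Finset.sum_const, Finset.card_univ, smul_eq_mul, Subgroup.index,
              Nat.card_eq_fintype_card]
        _ ≤ ∑ q : G ⧸ J, finrank ℂ (E (tr q.out χ)) := Finset.sum_le_sum fun q _ => h3 _
        _ ≤ finrank ℂ V := h2

end Cfsg.Agent.CharactersDeep.BergerCA
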