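import Mathlib
import Cfsg.Agent.Lib.SolvableNormalP

/-!
# Maximal subgroups of finite solvable groups (for Berger's theorem, S0889)

`exists_setup`: structure of a finite solvable group around a maximal subgroup `H` with normal
core `L`: the minimal normal subgroup `M / L` of `G / L` is an abelian `p`-group complementing
`H / L`, no nontrivial `H`-invariant subgroup of `H / L` centralises it, and if `H ≠ L` there is
an `H`-invariant abelian `q`-subgroup of `H / L` with `q ≠ p`.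
-/

set_option autoImplicit false

namespace Cfsg.Agent.CharactersDeep.BergerGroup

open Subgroup

/-- The core-free case. -/
theorem exists_setup_coreFree {Q : Type*} [Group Q] [Finite Q] [Group.IsSolvable Q]
    (K : Subgroup Q) (hK : IsCoatom K) (hcore : K.normalCore = ⊥) :
    ∃ (p : ℕ) (M : Subgroup Q), p.Prime ∧ M.Normal ∧ M ≠ ⊥ ∧
      (∀ x ∈ M, ∀ y ∈ M, x * y = y * x) ∧ IsPGroup p M ∧ Nat.card M = K.index ∧
      (∀ g : Q, ∃ m ∈ M, ∃ h ∈ K, g = m * h) ∧
      (∀ U : Subgroup Q, U ≤ K → (∀ h ∈ K, ∀ u ∈ U, h * u * h⁻¹ ∈ U) →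
        (∀ m ∈ M, ∀ u ∈ U, m * u = u * m) → U = ⊥) ∧
      (K ≠ ⊥ → ∃ (q : ℕ) (U : Subgroup Q), q.Prime ∧ q ≠ p ∧ U ≠ ⊥ ∧ U ≤ K ∧
        (∀ h ∈ K, ∀ u ∈ U, h * u * h⁻¹ ∈ U) ∧ (∀ x ∈ U, ∀ y ∈ U, x * y = y * x) ∧
        IsPGroup q U) := by
  classical
  have hnt : Nontrivial Q := by
    by_contra h
    rw [not_nontrivial_iff_subsingleton] at h
    apply hK.1
    rw [eq_top_iff]
    intro x _
    have : x = 1 := Subsingleton.elim _ _
    rw [this]
    exact K.one_mem
  obtain ⟨p, N, hp, hN, hNp, hNc, hNb⟩ :=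
    Cfsg.Agent.Lib.SolvableNormalP.exists_normal_pSubgroup Q
  have hfin : {M : Subgroup Q | M.Normal ∧ M ≠ ⊥ ∧ M ≤ N}.Finite := Set.toFinite _
  obtain ⟨M, ⟨hMn, hMb, hMN⟩, hMmin⟩ := hfin.exists_minimal ⟨N, hN, hNb, le_rfl⟩
  have hcomm : ∀ x ∈ M, ∀ y ∈ M, x * y = y * x := fun x hx y hy =>
    congrArg (fun z : N => (z : Q)) (hNc.is_comm.comm ⟨x, hMN hx⟩ ⟨y, hMN hy⟩)
  have hMp : IsPGroup p M := hNp.to_le hMN
  have hcoreN : ∀ N' : Subgroup Q, N'.Normal → N' ≤ K → N' = ⊥ := fun N' hN' hle => by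
    rw [eq_bot_iff, ← hcore]
    exact (normal_le_normalCore).mpr hle
  have hMK : ¬ M ≤ K := fun h => hMb (hcoreN M hMn h)
  have htop : M ⊔ K = ⊤ := by
    have : K < M ⊔ K := by
      refine lt_of_le_of_ne le_sup_right fun h => hMK ?_
      rw [h]; exact le_sup_left
    exact hK.2 _ this
  have hdec : ∀ g : Q, ∃ m ∈ M, ∃ h ∈ K, g = m * h := by
    intro g
    have hg : g ∈ M ⊔ K := by rw [htop]; exact mem_top g
    rw [Subgroup.mem_sup_of_normal_left] at hg
    obtain ⟨m, hm, h, hh, hmh⟩ := hg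
    exact ⟨m, hm, h, hh, hmh.symm⟩
  -- a subgroup normalised by `K` and centralised by `M` is normal
  have hnorm : ∀ U : Subgroup Q, (∀ h ∈ K, ∀ u ∈ U, h * u * h⁻¹ ∈ U) →
      (∀ m ∈ M, ∀ u ∈ U, m * u = u * m) → U.Normal := by
    intro U hU hUM
    constructor
    intro u hu g
    obtain ⟨m, hm, h, hh, rfl⟩ := hdec g
    have h1 := hU h hh u hu
    have h2 := hUM m hm _ h1
    have h3 : m * h * u * (m * h)⁻¹ = h * u * h⁻¹ := by
      calc m * h * u * (m * h)⁻¹ = (m * (h * u * h⁻¹)) * m⁻¹ := by group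
        _ = ((h * u * h⁻¹) * m) * m⁻¹ := by rw [h2]
        _ = h * u * h⁻¹ := by group
    rw [h3]; exact h1
  have hdisj : M ⊓ K = ⊥ := by
    apply hcoreN _ _ inf_le_right
    apply hnorm
    · intro h hh u hu
      exact ⟨hMn.conj_mem _ hu.1 _, K.mul_mem (K.mul_mem hh hu.2) (K.inv_mem hh)⟩
    · intro m hm u hu
      exact hcomm m hm u hu.1
  have hcompl : IsComplement' M K := by
    apply isComplement'_of_disjoint_and_mul_eq_univ (disjoint_iff.mpr hdisj)
    ext g
    simp only [Set.mem_univ, iff_true]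
    obtain ⟨m, hm, h, hh, rfl⟩ := hdec g
    exact Set.mul_mem_mul hm hh
  have hfour : ∀ U : Subgroup Q, U ≤ K → (∀ h ∈ K, ∀ u ∈ U, h * u * h⁻¹ ∈ U) →
        (∀ m ∈ M, ∀ u ∈ U, m * u = u * m) → U = ⊥ := fun U hUK hU hUM =>
    hcoreN U (hnorm U hU hUM) hUK
  have hcard : Nat.card M = K.index := by
    have h1 := hcompl.card_mul_card
    have h2 := K.index_mul_card
    rw [← h2] at h1
    exact Nat.eq_of_mul_eq_mul_right Nat.card_pos h1
  refine ⟨p, M, hp, hMn, hMb, hcomm, hMp, hcard, hdec, hfour, ?_⟩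
  intro hKb
  have hKnt : Nontrivial K := (Subgroup.nontrivial_iff_ne_bot K).mpr hKb
  obtain ⟨q, U', hq, hU', hU'p, hU'c, hU'b⟩ :=
    Cfsg.Agent.Lib.SolvableNormalP.exists_normal_pSubgroup K
  refine ⟨q, U'.map K.subtype, hq, ?_, ?_, Subgroup.map_subtype_le U', ?_, ?_, hU'p.map _⟩
  rotate_left
  · rw [Ne, Subgroup.map_eq_bot_iff_of_injective _ K.subtype_injective]
    exact hU'b
  · rintro h hh _ ⟨u, hu, rfl⟩
    exact ⟨⟨h, hh⟩ * u * ⟨h, hh⟩⁻¹, hU'.conj_mem _ hu _, rfl⟩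
  · rintro _ ⟨x, hx, rfl⟩ _ ⟨y, hy, rfl⟩
    exact congrArg (fun z : U' => ((z : K) : Q)) (hU'c.is_comm.comm ⟨x, hx⟩ ⟨y, hy⟩)
  · rintro rfl
    set U : Subgroup Q := U'.map K.subtype with hUdef
    have hUK : U ≤ K := Subgroup.map_subtype_le U'
    have hUp : IsPGroup q U := hU'p.map _
    have hUinv : ∀ h ∈ K, ∀ u ∈ U, h * u * h⁻¹ ∈ U := by
      rintro h hh _ ⟨u, hu, rfl⟩
      exact ⟨⟨h, hh⟩ * u * ⟨h, hh⟩⁻¹, hU'.conj_mem _ hu _, rfl⟩
    have hUb : U ≠ ⊥ := by
      rw [Ne, Subgroup.map_eq_bot_iff_of_injective _ K.subtype_injective]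
      exact hU'b
    have : Fact q.Prime := ⟨hq⟩
    -- fixed points of `U` on `M`
    letI : MulAction U M :=
      MulAction.compHom M ((MulAut.conjNormal (H := M)).comp U.subtype : U →* MulAut M)
    have hsmul : ∀ (u : U) (m : M), ((u • m : M) : Q) = u * m * (u : Q)⁻¹ := by
      intro u m
      rfl
    have hdvd : q ∣ Nat.card M := by
      have hMnt : Nontrivial M := (Subgroup.nontrivial_iff_ne_bot M).mpr hMb
      obtain ⟨n, hn0, hn⟩ := (hMp.nontrivial_iff_card).mp hMnt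
      rw [hn]
      exact dvd_pow_self q (by omega)
    have h1fix : (1 : M) ∈ MulAction.fixedPoints U M := by
      intro u
      apply Subtype.ext
      rw [hsmul]
      simp
    obtain ⟨b, hb, hb1⟩ := hUp.exists_fixed_point_of_prime_dvd_card_of_fixed_point M hdvd h1fix
    have hbU : ∀ u ∈ U, u * (b : Q) = b * u := by
      intro u hu
      have h1 := congrArg (fun z : M => (z : Q)) (hb ⟨u, hu⟩)
      simp only [hsmul] at h1
      exact mul_inv_eq_iff_eq_mul.mp h1
    have hC : M ⊓ centralizer (U : Set Q) = M := by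
      have hCn : (M ⊓ centralizer (U : Set Q)).Normal := by
        apply hnorm
        · intro h hh c hc
          refine ⟨hMn.conj_mem _ hc.1 _, ?_⟩
          refine mem_centralizer_iff.mpr ?_
          intro u hu
          have h1 : h⁻¹ * u * h ∈ U := by
            have := hUinv h⁻¹ (K.inv_mem hh) u hu
            simpa using this
          have h2 := (mem_centralizer_iff.mp hc.2) _ h1
          calc u * (h * c * h⁻¹) = h * ((h⁻¹ * u * h) * c) * h⁻¹ := by group
            _ = h * (c * (h⁻¹ * u * h)) * h⁻¹ := by rw [h2]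
            _ = h * c * h⁻¹ * u := by group
        · intro m hm u hu
          exact hcomm m hm u hu.1
      have hCb : (M ⊓ centralizer (U : Set Q)) ≠ ⊥ := by
        intro h
        have hbm : (b : Q) ∈ M ⊓ centralizer (U : Set Q) :=
          ⟨b.2, mem_centralizer_iff.mpr fun u hu => hbU u hu⟩
        rw [h, mem_bot] at hbm
        exact hb1 (Subtype.ext hbm.symm)
      exact le_antisymm inf_le_left (hMmin ⟨hCn, hCb, inf_le_left.trans hMN⟩ inf_le_left)
    apply hUb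
    apply hfour U hUK hUinv
    intro m hm u hu
    have : m ∈ M ⊓ centralizer (U : Set Q) := by rw [hC]; exact hm
    exact ((mem_centralizer_iff.mp this.2) u hu).symm

/-- The setup, with the quotient by the core given as a surjective homomorphism. -/
theorem exists_setup_of_surjective {G Q : Type*} [Group G] [Finite G] [Group Q] [Finite Q]
    [Group.IsSolvable Q] (H : Subgroup G) (hH : IsCoatom H) (π : G →* Q)
    (hπ : Function.Surjective π) (hker0 : π.ker = H.normalCore) :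
    ∃ (p : ℕ) (M : Subgroup G), p.Prime ∧ M.Normal ∧ H.normalCore < M ∧
      (∀ x ∈ M, ∀ y ∈ M, x * y * x⁻¹ * y⁻¹ ∈ H.normalCore) ∧
      (∃ k, H.normalCore.relIndex M = p ^ k) ∧ H.normalCore.relIndex M = H.index ∧
      (∀ g : G, ∃ m ∈ M, ∃ h ∈ H, g = m * h) ∧
      (∀ U : Subgroup G, U ≤ H → (∀ h ∈ H, ∀ u ∈ U, h * u * h⁻¹ ∈ U) → H.normalCore ≤ U →
        (∀ m ∈ M, ∀ u ∈ U, m * u * m⁻¹ * u⁻¹ ∈ H.normalCore) → U = H.normalCore) ∧
      (H ≠ H.normalCore → ∃ (q : ℕ) (U : Subgroup G), q.Prime ∧ q ≠ p ∧ H.normalCore < U ∧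
        U ≤ H ∧ (∀ h ∈ H, ∀ u ∈ U, h * u * h⁻¹ ∈ U) ∧
        (∀ x ∈ U, ∀ y ∈ U, x * y * x⁻¹ * y⁻¹ ∈ H.normalCore) ∧
        ∃ k, H.normalCore.relIndex U = q ^ k) := by
  classical
  generalize hL : H.normalCore = L at hker0 ⊢
  have hLn : L.Normal := hL ▸ H.normalCore_normal
  have hLH : L ≤ H := hL ▸ H.normalCore_le
  have hker : π.ker = L := hker0
  have hπ1 : ∀ x : G, π x = 1 ↔ x ∈ L := fun x => by
    rw [← MonoidHom.mem_ker, hker]
  have hcm : ∀ A : Subgroup G, L ≤ A → (A.map π).comap π = A := by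
    intro A hA
    rw [Subgroup.comap_map_eq, hker]
    exact sup_eq_left.mpr hA
  have hmc : ∀ A : Subgroup (Q), (A.comap π).map π = A := fun A =>
    Subgroup.map_comap_eq_self_of_surjective hπ A
  have hLle : ∀ A : Subgroup (Q), L ≤ A.comap π := by
    intro A x hx
    rw [mem_comap, (hπ1 x).mpr hx]
    exact A.one_mem
  have hbotc : (⊥ : Subgroup (Q)).comap π = L := by
    rw [← hker]; rfl
  set K := H.map π with hKdef
  have hKc : K.comap π = H := hcm H hLH
  have hKmem : ∀ x : G, π x ∈ K ↔ x ∈ H := fun x => by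
    rw [← mem_comap, hKc]
  have hKco : IsCoatom K := by
    constructor
    · intro h
      apply hH.1
      rw [← hKc, h, Subgroup.comap_top]
    · intro J hJ
      have h1 : H < J.comap π := by
        rw [← hKc]
        exact (Subgroup.comap_lt_comap_of_surjective hπ).mpr hJ
      have h2 := hH.2 _ h1
      rw [← hmc J, h2]
      exact Subgroup.map_top_of_surjective π hπ
  have hKcore : K.normalCore = ⊥ := by
    have h1 : (K.normalCore.comap π) ≤ L := by
      have : (K.normalCore.comap π).Normal := inferInstance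
      rw [← hL]
      apply (normal_le_normalCore).mpr
      calc K.normalCore.comap π ≤ K.comap π := Subgroup.comap_mono K.normalCore_le
        _ = H := hKc
    rw [eq_bot_iff, ← hmc K.normalCore]
    calc (K.normalCore.comap π).map π ≤ L.map π := Subgroup.map_mono h1
      _ ≤ ⊥ := by
        rintro _ ⟨x, hx, rfl⟩
        exact (hπ1 x).mpr hx
  have hrel : ∀ A : Subgroup (Q), L.relIndex (A.comap π) = Nat.card A := by
    intro A
    conv_lhs => rw [← hbotc]
    rw [Subgroup.relIndex_comap, hmc, Subgroup.relIndex_bot_left]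
  have hlt : ∀ A : Subgroup (Q), A ≠ ⊥ → L < A.comap π := by
    intro A hA
    rw [← hbotc]
    exact (Subgroup.comap_lt_comap_of_surjective hπ).mpr (bot_lt_iff_ne_bot.mpr hA)
  obtain ⟨p, M', hp, hM'n, hM'b, hM'c, hM'p, hM'card, hM'dec, hM'four, hM'last⟩ :=
    exists_setup_coreFree K hKco hKcore
  have : Fact p.Prime := ⟨hp⟩
  have hcommL : ∀ x y : G, π x * π y = π y * π x → x * y * x⁻¹ * y⁻¹ ∈ L := by
    intro x y h
    rw [← hπ1]
    simp only [map_mul, map_inv]
    rw [h]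
    group
  refine ⟨p, M'.comap π, hp, inferInstance, hlt M' hM'b, ?_, ?_, ?_, ?_, ?_, ?_⟩
  · intro x hx y hy
    exact hcommL x y (hM'c _ hx _ hy)
  · rw [hrel]
    exact (IsPGroup.iff_card).mp hM'p
  · rw [hrel, hM'card, ← hKc]
    exact (Subgroup.index_comap_of_surjective K hπ).symm
  · intro g
    obtain ⟨m', hm', h', hh', hg⟩ := hM'dec (π g)
    obtain ⟨m, rfl⟩ := hπ m'
    refine ⟨m, hm', m⁻¹ * g, ?_, by group⟩
    rw [← hKmem, map_mul, map_inv, hg]
    simpa using hh'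
  · intro U hUH hU hLU hUM
    have h1 : U.map π = ⊥ := by
      apply hM'four
      · exact Subgroup.map_mono hUH
      · rintro h' hh' _ ⟨u, hu, rfl⟩
        obtain ⟨h, hh, rfl⟩ := hh'
        exact ⟨h * u * h⁻¹, hU h hh u hu, by simp⟩
      · rintro m' hm' _ ⟨u, hu, rfl⟩
        obtain ⟨m, rfl⟩ := hπ m'
        have h2 := (hπ1 _).mpr (hUM m hm' u hu)
        simp only [map_mul, map_inv] at h2
        have h3 : π m * π u * (π m)⁻¹ = π u := mul_inv_eq_one.mp h2
        exact mul_inv_eq_iff_eq_mul.mp h3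
    rw [← hcm U hLU, h1, hbotc]
  · intro hHL
    have hKb : K ≠ ⊥ := by
      intro h
      apply hHL
      rw [← hKc, h, hbotc]
    obtain ⟨q, U', hq, hqp, hU'b, hU'K, hU'inv, hU'c, hU'p⟩ := hM'last hKb
    have : Fact q.Prime := ⟨hq⟩
    refine ⟨q, U'.comap π, hq, hqp, hlt U' hU'b, ?_, ?_, ?_, ?_⟩
    · rw [← hKc]
      exact Subgroup.comap_mono hU'K
    · intro h hh u hu
      have h1 := hU'inv (π h) ((hKmem h).mpr hh) (π u) hu
      simpa using h1
    · intro x hx y hy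
      exact hcommL x y (hU'c _ hx _ hy)
    · rw [hrel]
      exact (IsPGroup.iff_card).mp hU'p

/-- The setup around a maximal subgroup `H` of a finite solvable group. -/
theorem exists_setup {G : Type*} [Group G] [Finite G] [Group.IsSolvable G]
    (H : Subgroup G) (hH : IsCoatom H) :
    ∃ (p : ℕ) (M : Subgroup G), p.Prime ∧ M.Normal ∧ H.normalCore < M ∧
      (∀ x ∈ M, ∀ y ∈ M, x * y * x⁻¹ * y⁻¹ ∈ H.normalCore) ∧
      (∃ k, H.normalCore.relIndex M = p ^ k) ∧ H.normalCore.relIndex M = H.index ∧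
      (∀ g : G, ∃ m ∈ M, ∃ h ∈ H, g = m * h) ∧
      (∀ U : Subgroup G, U ≤ H → (∀ h ∈ H, ∀ u ∈ U, h * u * h⁻¹ ∈ U) → H.normalCore ≤ U →
        (∀ m ∈ M, ∀ u ∈ U, m * u * m⁻¹ * u⁻¹ ∈ H.normalCore) → U = H.normalCore) ∧
      (H ≠ H.normalCore → ∃ (q : ℕ) (U : Subgroup G), q.Prime ∧ q ≠ p ∧ H.normalCore < U ∧
        U ≤ H ∧ (∀ h ∈ H, ∀ u ∈ U, h * u * h⁻¹ ∈ U) ∧
        (∀ x ∈ U, ∀ y ∈ U, x * y * x⁻¹ * y⁻¹ ∈ H.normalCore) ∧
        ∃ k, H.normalCore.relIndex U = q ^ k) :=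
  exists_setup_of_surjective H hH (QuotientGroup.mk' H.normalCore)
    (QuotientGroup.mk'_surjective _) (QuotientGroup.ker_mk' _)

end Cfsg.Agent.CharactersDeep.BergerGroup
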