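import Mathlib
import Cfsg.Prelude.Def_Characters
import Cfsg.Agent.Characters.Core
import Cfsg.Agent.OddOrderCharacters.IndRes
import Cfsg.Agent.CharactersDeep.BergerDefs

/-!
# Two character-theoretic inputs for Berger's theorem

* an irreducible representation whose character is induced from `K` contains a nonzero `K`-stable
  subspace `W` with `[G:K] * dim W ≤ dim V`;
* a representation whose character restricts to a multiple of an irreducible character of `N` is
  homogeneous on `N`.
-/

set_option autoImplicit false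

namespace Cfsg.Agent.CharactersDeep.BergerInd

open Cfsg Representation Module
open Cfsg.Agent.Characters.Core Cfsg.Agent.CharactersDeep.BergerDefs

theorem exists_stable_of_indFun {G : Type*} [Group G] [Fintype G] {n : ℕ}
    (ρ : Representation ℂ G (Fin n → ℂ)) (hρ : ρ.IsIrreducible) (K : Subgroup G) (ψ : K → ℂ)
    (hψ : IsCharacter K ψ) (h : indFun K ψ = ρ.character) :
    ∃ W : Submodule ℂ (Fin n → ℂ), W ≠ ⊥ ∧ Stable ρ K W ∧
      K.index * finrank ℂ W ≤ finrank ℂ (Fin n → ℂ) := by
  classical
  have := Fintype.ofFinite K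
  obtain ⟨m, σ, hσ⟩ := hψ
  let ρK : Representation ℂ K (Fin n → ℂ) := ρ.comp K.subtype
  have hres : (fun k : K => ρ.character k) = ρK.character := rfl
  have hirr : IsIrrCharacter G ρ.character := ⟨n, ρ, hρ, rfl⟩
  -- Frobenius reciprocity
  have h1 : classInner ρK.character σ.character = 1 := by
    have h2 := OddOrderCharacters.IndRes.classInner_indFun_right K ψ
      (isIrr_isClassFunction hirr)
    rw [h, classInner_irr_self hirr] at h2
    rw [hσ]
    exact h2.symm
  rw [classInner_character] at h1
  have h3 : finrank ℂ (IntertwiningMap σ ρK) = 1 := by exact_mod_cast h1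
  obtain ⟨f, hf⟩ : ∃ f : IntertwiningMap σ ρK, f ≠ 0 := by
    have : Nontrivial (IntertwiningMap σ ρK) :=
      Module.nontrivial_of_finrank_pos (R := ℂ) (by rw [h3]; exact one_pos)
    exact exists_ne 0
  refine ⟨(rangeSub f).toSubmodule, ?_, ?_, ?_⟩
  · intro hbot
    apply hf
    apply IntertwiningMap.ext
    exact LinearMap.range_eq_bot.1 hbot
  · intro k hk w hw
    exact (rangeSub f).apply_mem_toSubmodule ⟨k, hk⟩ hw
  · have h4 : finrank ℂ (rangeSub f).toSubmodule ≤ m := by
      have := LinearMap.finrank_range_le f.toLinearMap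
      rw [finrank_fin_fun] at this
      exact this
    have h5 : K.index * m = n := by
      have h6 := OddOrderCharacters.IndRes.indFun_apply_one K ψ
      rw [h, char_one, ← hσ, char_one, finrank_fin_fun, finrank_fin_fun] at h6
      exact_mod_cast h6.symm
    rw [finrank_fin_fun]
    calc K.index * finrank ℂ (rangeSub f).toSubmodule ≤ K.index * m :=
          Nat.mul_le_mul_left _ h4
      _ = n := h5

section Homog

variable {G V : Type*} [Group G] [Finite G] [AddCommGroup V] [Module ℂ V] [FiniteDimensional ℂ V]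

/-- A subrepresentation of a representation affording a multiple of an irreducible character
affords a multiple of it. -/
theorem sub_character (ρ : Representation ℂ G V) {θ : G → ℂ} (hθ : IsIrrCharacter G θ) (e : ℕ)
    (h : ρ.character = (e : ℂ) • θ) (U : Subrepresentation ρ) :
    ∃ a : ℕ, U.toRepresentation.character = (a : ℂ) • θ := by
  classical
  have := Fintype.ofFinite G
  have := finite_irr (G := G)
  have := Fintype.ofFinite (IrrCharacter G)
  obtain ⟨U', hU'⟩ := exists_isCompl_sub U
  have h1 := character_eq_add_of_isCompl U U' hU'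
  have hU := isCharacter_of_rep U.toRepresentation
  have hU2 := isCharacter_of_rep U'.toRepresentation
  obtain ⟨a, ha⟩ := classInner_isNat hU (isIrr_isCharacter hθ)
  refine ⟨a, ?_⟩
  rw [classFunction_eq_sum (isCharacter_isClassFunction hU), Finset.sum_eq_single ⟨θ, hθ⟩]
  · rw [ha]
  · intro η _ hη
    have hne : (η : G → ℂ) ≠ θ := fun h => hη (Subtype.ext h)
    obtain ⟨b, hb⟩ := classInner_isNat hU (isIrr_isCharacter η.2)
    obtain ⟨c, hc⟩ := classInner_isNat hU2 (isIrr_isCharacter η.2)
    have h2 : classInner ρ.character (η : G → ℂ) = (b + c : ℂ) := by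
      rw [h1, classInner_add_left, hb, hc]
    rw [h, classInner_smul_left, classInner_irr_ne hθ η.2 hne.symm, mul_zero] at h2
    have h3 : b + c = 0 := by exact_mod_cast h2.symm
    have h4 : b = 0 := by omega
    rw [hb, h4, Nat.cast_zero, zero_smul]
  · intro h
    exact absurd (Finset.mem_univ _) h

theorem homog_of_character (ρ : Representation ℂ G V) (N : Subgroup G) {θ : N → ℂ}
    (hθ : IsIrrCharacter N θ) (e : ℕ) (h : (fun n : N => ρ.character n) = (e : ℂ) • θ) :
    Homog ρ N := by
  classical
  intro V₁ V₂ hV₁ hV₂ hS₁ hS₂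
  have := Fintype.ofFinite G
  have := Fintype.ofFinite N
  let ρN : Representation ℂ N V := ρ.comp N.subtype
  have hres : ρN.character = (e : ℂ) • θ := h
  let U₁ : Subrepresentation ρN := ⟨V₁, fun n v hv => hS₁ n n.2 v hv⟩
  let U₂ : Subrepresentation ρN := ⟨V₂, fun n v hv => hS₂ n n.2 v hv⟩
  obtain ⟨a, ha⟩ := sub_character ρN hθ e hres U₁
  obtain ⟨b, hb⟩ := sub_character ρN hθ e hres U₂
  have hne : ∀ (U : Subrepresentation ρN) (c : ℕ), U.toSubmodule ≠ ⊥ →
      U.toRepresentation.character = (c : ℂ) • θ → (c : ℂ) ≠ 0 := by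
    intro U c hU hc h0
    rw [h0, zero_smul] at hc
    have h1 := congrFun hc 1
    rw [char_one, Pi.zero_apply] at h1
    have h2 : finrank ℂ U.toSubmodule = 0 := by exact_mod_cast h1
    exact hU (Submodule.finrank_eq_zero.1 h2)
  have ha0 := hne U₁ a hV₁ ha
  have hb0 := hne U₂ b hV₂ hb
  have h1 : classInner U₂.toRepresentation.character U₁.toRepresentation.character ≠ 0 := by
    rw [ha, hb, classInner_smul_left, classInner_smul_right, classInner_irr_self hθ, mul_one]
    exact mul_ne_zero hb0 (by rwa [Complex.conj_natCast])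
  rw [classInner_character] at h1
  obtain ⟨f, hf⟩ : ∃ f : IntertwiningMap U₁.toRepresentation U₂.toRepresentation, f ≠ 0 := by
    have : Nontrivial (IntertwiningMap U₁.toRepresentation U₂.toRepresentation) :=
      Module.nontrivial_of_finrank_pos (R := ℂ) (Nat.pos_of_ne_zero (by exact_mod_cast h1))
    exact exists_ne 0
  obtain ⟨U', hU'⟩ := exists_isCompl_sub U₁
  let π : V →ₗ[ℂ] V₁ := V₁.projectionOnto U'.toSubmodule hU'
  have hπ : ∀ (n : N) (v : V), π (ρ n v) = U₁.toRepresentation n (π v) := by
    intro n v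
    obtain ⟨u, u', rfl⟩ : ∃ u : V₁, ∃ u' : U'.toSubmodule, (u : V) + u' = v := by
      obtain ⟨x, hx, y, hy, hxy⟩ := Submodule.mem_sup.1
        (show v ∈ V₁ ⊔ U'.toSubmodule by rw [hU'.sup_eq_top]; trivial)
      exact ⟨⟨x, hx⟩, ⟨y, hy⟩, hxy⟩
    have h2 : ρ n (u : V) = ((U₁.toRepresentation n u : V₁) : V) := rfl
    have h3 : ρ n (u' : V) = ((⟨ρ n u', U'.apply_mem_toSubmodule n u'.2⟩ : U'.toSubmodule) : V) :=
      rfl
    rw [map_add, h2, h3, map_add, map_add]
    have h4 : ∀ x : V₁, π (x : V) = x := fun x => Submodule.projectionOnto_apply_left hU' x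
    have h5 : ∀ x : U'.toSubmodule, π (x : V) = 0 :=
      fun x => Submodule.projectionOnto_apply_right hU' x
    rw [h4, h4, h5, h5, add_zero, add_zero]
  refine ⟨V₂.subtype ∘ₗ f.toLinearMap ∘ₗ π, ?_, ?_, ?_⟩
  · intro n hn
    refine LinearMap.ext fun v => ?_
    show ((f (π (ρ (⟨n, hn⟩ : N) v)) : V₂) : V) = ρ n ((f (π v) : V₂) : V)
    rw [hπ, IntertwiningMap.isIntertwining]
    rfl
  · intro v _
    exact (f (π v)).2
  · by_contra hcon
    push Not at hcon
    apply hf
    apply IntertwiningMap.ext
    refine LinearMap.ext fun x => Subtype.ext ?_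
    have h6 := hcon x x.2
    have h7 : π (x : V) = x := Submodule.projectionOnto_apply_left hU' x
    have h8 : ((f (π (x : V)) : V₂) : V) = 0 := h6
    rw [h7] at h8
    exact h8

end Homog

end Cfsg.Agent.CharactersDeep.BergerInd
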