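import Mathlib
import Cfsg.Agent.CharactersDeep.BergerDefs
import Cfsg.Agent.CharDeep.ProjExt

/-!
# Tensor decomposition over a normal subgroup, without tensor products

`V` is an irreducible representation of `G`, `N` is normal in `G`, `σ` is an irreducible
representation of `N` on `S`. The space `homSpace ρ σ = Hom_N(S, V)` is a representation of any
subgroup `Δ` of the group `intGroup σ` of pairs `(g, X)` with `X σ(n) X⁻¹ = σ(g n g⁻¹)`.
-/

set_option autoImplicit false

namespace Cfsg.Agent.CharactersDeep.BergerTensor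

open Cfsg Representation Module Cfsg.Agent.CharactersDeep.BergerDefs Cfsg.Agent.CharDeep.ProjExt
open Cfsg.Agent.CharDeep.LinearChar Cfsg.Agent.CharDeep.IrrEquiv

section Burnside

/-- Burnside's theorem: the operators of an irreducible representation span all operators. -/
theorem adjoin_eq_top {G V : Type*} [Monoid G] [AddCommGroup V] [Module ℂ V]
    [FiniteDimensional ℂ V] (ρ : Representation ℂ G V) (hρ : ρ.IsIrreducible) :
    Algebra.adjoin ℂ (Set.range ρ) = ⊤ := by
  classical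
  rw [isIrreducible_iff] at hρ
  obtain ⟨hV, hW⟩ := hρ
  set A : Subalgebra ℂ (V →ₗ[ℂ] V) := Algebra.adjoin ℂ (Set.range ρ) with hA
  have hmem : ∀ g, ρ g ∈ A := fun g => Algebra.subset_adjoin ⟨g, rfl⟩
  have hsimple : IsSimpleModule A V := by
    refine { exists_pair_ne := ⟨⊥, ⊤, bot_ne_top⟩, eq_bot_or_eq_top := fun W => ?_ }
    rcases hW (W.restrictScalars ℂ) (fun g v hv => W.smul_mem ⟨ρ g, hmem g⟩ hv) with h | h
    · left
      exact (Submodule.restrictScalars_eq_bot_iff ℂ A V).1 h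
    · right
      exact (Submodule.restrictScalars_eq_top_iff ℂ A V).1 h
  rw [eq_top_iff]
  rintro a -
  have hsc := (IsSimpleModule.algebraMap_end_bijective_of_isAlgClosed (A := A) (V := V) ℂ).2
  let f : Module.End (Module.End A V) V :=
    { toFun := a
      map_add' := map_add a
      map_smul' := by
        intro φ v
        obtain ⟨c, rfl⟩ := hsc φ
        show a ((algebraMap ℂ (Module.End A V) c) v) = (algebraMap ℂ (Module.End A V) c) (a v)
        rw [Module.algebraMap_end_apply, Module.algebraMap_end_apply, map_smul] }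
  let b := Module.finBasis ℂ V
  obtain ⟨r, hr⟩ := jacobson_density f (Finset.univ.image b)
  have : a = (r : V →ₗ[ℂ] V) := by
    apply b.ext
    intro i
    exact hr (b i) (Finset.mem_image_of_mem _ (Finset.mem_univ _))
  rw [this]
  exact r.2

end Burnside

section Basic

variable {G V : Type*} [Group G] [AddCommGroup V] [Module ℂ V]

/-- The restriction of `ρ` to `N` on a stable subspace. -/
def subRep (ρ : Representation ℂ G V) (N : Subgroup G) (S : Submodule ℂ V)
    (hS : Stable ρ N S) : Representation ℂ N S where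
  toFun n := (ρ n).restrict (hS n n.2)
  map_one' := by
    ext v
    simp
  map_mul' x y := by
    ext v
    simp

theorem subRep_apply (ρ : Representation ℂ G V) (N : Subgroup G) (S : Submodule ℂ V)
    (hS : Stable ρ N S) (n : N) (s : S) : ((subRep ρ N S hS n s : S) : V) = ρ n s := rfl

variable {S : Type*} [AddCommGroup S] [Module ℂ S]

/-- `Hom_N(S, V)`. -/
def homSpace (ρ : Representation ℂ G V) {N : Subgroup G} (σ : Representation ℂ N S) :
    Submodule ℂ (S →ₗ[ℂ] V) where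
  carrier := {f | ∀ n : N, f ∘ₗ σ n = ρ n ∘ₗ f}
  add_mem' := by
    intro f g hf hg n
    rw [LinearMap.add_comp, LinearMap.comp_add, hf n, hg n]
  zero_mem' := by
    intro n
    rw [LinearMap.zero_comp, LinearMap.comp_zero]
  smul_mem' := by
    intro c f hf n
    rw [LinearMap.smul_comp, LinearMap.comp_smul, hf n]

theorem mem_homSpace (ρ : Representation ℂ G V) {N : Subgroup G} (σ : Representation ℂ N S)
    (f : S →ₗ[ℂ] V) : f ∈ homSpace ρ σ ↔ ∀ n : N, f ∘ₗ σ n = ρ n ∘ₗ f := Iff.rfl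

/-- The span of the images of the maps in `W`. -/
def dot (W : Submodule ℂ (S →ₗ[ℂ] V)) : Submodule ℂ V :=
  Submodule.span ℂ {v | ∃ f ∈ W, ∃ s : S, f s = v}

theorem mem_dot {W : Submodule ℂ (S →ₗ[ℂ] V)} {f : S →ₗ[ℂ] V} (hf : f ∈ W) (s : S) :
    f s ∈ dot W := Submodule.subset_span ⟨f, hf, s, rfl⟩

theorem dot_le {W : Submodule ℂ (S →ₗ[ℂ] V)} {U : Submodule ℂ V}
    (h : ∀ f ∈ W, ∀ s, f s ∈ U) : dot W ≤ U := by
  rw [dot, Submodule.span_le]
  rintro _ ⟨f, hf, s, rfl⟩
  exact h f hf s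

theorem dot_mono {W W' : Submodule ℂ (S →ₗ[ℂ] V)} (h : W ≤ W') : dot W ≤ dot W' :=
  dot_le fun _ hf s => mem_dot (h hf) s

/-- The dimension formula for the span of the images. -/
theorem finrank_dot [FiniteDimensional ℂ V] [FiniteDimensional ℂ S]
    (ρ : Representation ℂ G V) {N : Subgroup G} (σ : Representation ℂ N S)
    (hσ : σ.IsIrreducible) {W : Submodule ℂ (S →ₗ[ℂ] V)} (hW : W ≤ homSpace ρ σ) :
    finrank ℂ (dot W) = finrank ℂ S * finrank ℂ W := by
  classical
  let b := Module.finBasis ℂ S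
  let ev : (Fin (finrank ℂ S) → W) →ₗ[ℂ] V :=
    { toFun := fun w => ∑ i, (w i : S →ₗ[ℂ] V) (b i)
      map_add' := by
        intro x y
        simp [Finset.sum_add_distrib]
      map_smul' := by
        intro c x
        simp [Finset.smul_sum] }
  have hev : ∀ w, ev w = ∑ i, (w i : S →ₗ[ℂ] V) (b i) := fun w => rfl
  -- every operator on `S` is intertwined by an operator on `V`
  have hop : ∀ a : S →ₗ[ℂ] S, ∃ β : V →ₗ[ℂ] V, ∀ f ∈ homSpace ρ σ, f ∘ₗ a = β ∘ₗ f := by
    intro a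
    have ha : a ∈ Algebra.adjoin ℂ (Set.range σ) := by rw [adjoin_eq_top σ hσ]; trivial
    induction ha using Algebra.adjoin_induction with
    | mem x hx =>
      obtain ⟨n, rfl⟩ := hx
      exact ⟨ρ n, fun f hf => hf n⟩
    | algebraMap c =>
      refine ⟨algebraMap ℂ _ c, fun f _ => ?_⟩
      ext s
      simp [Module.algebraMap_end_apply]
    | add x y _ _ hx hy =>
      obtain ⟨β, hβ⟩ := hx
      obtain ⟨γ, hγ⟩ := hy
      exact ⟨β + γ, fun f hf => by rw [LinearMap.comp_add, LinearMap.add_comp, hβ f hf, hγ f hf]⟩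
    | mul x y _ _ hx hy =>
      obtain ⟨β, hβ⟩ := hx
      obtain ⟨γ, hγ⟩ := hy
      refine ⟨β * γ, fun f hf => ?_⟩
      rw [Module.End.mul_eq_comp, Module.End.mul_eq_comp, ← LinearMap.comp_assoc, hβ f hf,
        LinearMap.comp_assoc, hγ f hf, LinearMap.comp_assoc]
  have hinj : Function.Injective ev := by
    rw [injective_iff_map_eq_zero]
    intro w hw
    funext i
    apply Subtype.ext
    ext s
    obtain ⟨β, hβ⟩ := hop (b.constr ℂ (fun j => if j = i then s else 0))
    have h1 : β (ev w) = 0 := by rw [hw, map_zero]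
    rw [hev, map_sum] at h1
    have h2 : ∀ j, β ((w j : S →ₗ[ℂ] V) (b j)) =
        (w j : S →ₗ[ℂ] V) (if j = i then s else 0) := by
      intro j
      have := LinearMap.congr_fun (hβ (w j) (hW (w j).2)) (b j)
      simp only [LinearMap.comp_apply, Basis.constr_basis] at this
      exact this.symm
    simp only [h2] at h1
    rw [Finset.sum_eq_single i] at h1
    · simpa using h1
    · intro j _ hj
      simp [hj]
    · intro h
      exact absurd (Finset.mem_univ i) h
  have hrange : LinearMap.range ev = dot W := by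
    apply le_antisymm
    · rintro _ ⟨w, rfl⟩
      rw [hev]
      exact Submodule.sum_mem _ fun i _ => mem_dot (w i).2 _
    · apply dot_le
      intro f hf s
      refine ⟨fun i => (b.repr s i) • ⟨f, hf⟩, ?_⟩
      rw [hev]
      conv_rhs => rw [← b.sum_repr s, map_sum]
      apply Finset.sum_congr rfl
      intro i _
      simp
  rw [← hrange, LinearMap.finrank_range_of_inj hinj, Module.finrank_pi_fintype]
  simp

/-- A map in `Hom_N(S, V)` whose image lies in the span of the images of `W` lies in `W`. -/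
theorem mem_of_forall_mem_dot [FiniteDimensional ℂ V] [FiniteDimensional ℂ S]
    (ρ : Representation ℂ G V) {N : Subgroup G} (σ : Representation ℂ N S)
    (hσ : σ.IsIrreducible) {W : Submodule ℂ (S →ₗ[ℂ] V)} (hW : W ≤ homSpace ρ σ)
    {f : S →ₗ[ℂ] V} (hf : f ∈ homSpace ρ σ) (h : ∀ s, f s ∈ dot W) : f ∈ W := by
  have hS : 0 < finrank ℂ S := by
    have := ((isIrreducible_iff σ).1 hσ).1
    exact finrank_pos
  have h1 : W ⊔ ℂ ∙ f ≤ homSpace ρ σ := by
    apply sup_le hW
    rw [Submodule.span_singleton_le_iff_mem]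
    exact hf
  have h2 : dot (W ⊔ ℂ ∙ f) = dot W := by
    apply le_antisymm _ (dot_mono le_sup_left)
    apply dot_le
    intro x hx s
    obtain ⟨w, hw, y, hy, rfl⟩ := Submodule.mem_sup.1 hx
    obtain ⟨c, rfl⟩ := Submodule.mem_span_singleton.1 hy
    exact Submodule.add_mem _ (mem_dot hw s) (Submodule.smul_mem _ c (h s))
  have h3 := finrank_dot ρ σ hσ h1
  rw [h2, finrank_dot ρ σ hσ hW] at h3
  have h4 : finrank ℂ W = finrank ℂ (W ⊔ ℂ ∙ f : Submodule ℂ (S →ₗ[ℂ] V)) :=
    Nat.eq_of_mul_eq_mul_left hS h3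
  have h5 : W = W ⊔ ℂ ∙ f := Submodule.eq_of_le_of_finrank_eq le_sup_left h4
  rw [h5]
  exact Submodule.mem_sup_right (Submodule.mem_span_singleton_self f)

end Basic

section Action

variable {G V : Type*} [Group G] [AddCommGroup V] [Module ℂ V]
  {S : Type*} [AddCommGroup S] [Module ℂ S]

/-- The action of the pairs `(g, X)` on `Hom_N(S, V)`: `f ↦ ρ g ∘ f ∘ X⁻¹`. -/
def homRep (ρ : Representation ℂ G V) {N : Subgroup G} [hN : N.Normal]
    (σ : Representation ℂ N S) (Δ : Subgroup (G × (S →ₗ[ℂ] S)ˣ)) (hΔ : Δ ≤ intGroup σ) :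
    Representation ℂ Δ (homSpace ρ σ) where
  toFun x :=
    { toFun := fun f => ⟨ρ (proj Δ x) ∘ₗ (f : S →ₗ[ℂ] V) ∘ₗ
          (((opr Δ x)⁻¹ : (S →ₗ[ℂ] S)ˣ) : S →ₗ[ℂ] S), by
        rw [mem_homSpace]
        intro n
        have h1 := (mem_intGroup σ _).1 ((intGroup σ).inv_mem (hΔ x.2)) n
        have h2 : (((opr Δ x)⁻¹ : (S →ₗ[ℂ] S)ˣ) : S →ₗ[ℂ] S) ∘ₗ σ n =
            σ (MulAut.conjNormal (proj Δ x)⁻¹ n) ∘ₗ
              (((opr Δ x)⁻¹ : (S →ₗ[ℂ] S)ˣ) : S →ₗ[ℂ] S) := h1
        apply LinearMap.ext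
        intro s
        have h3 := LinearMap.congr_fun h2 s
        have h4 := LinearMap.congr_fun ((mem_homSpace ρ σ _).1 f.2
          (MulAut.conjNormal (proj Δ x)⁻¹ n)) ((((opr Δ x)⁻¹ : (S →ₗ[ℂ] S)ˣ) : S →ₗ[ℂ] S) s)
        simp only [LinearMap.comp_apply] at h3 h4 ⊢
        rw [h3, h4, ← Module.End.mul_apply, ← Module.End.mul_apply, ← map_mul, ← map_mul,
          MulAut.conjNormal_apply]
        congr 2
        group⟩
      map_add' := by
        intro f g
        apply Subtype.ext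
        simp [LinearMap.add_comp, LinearMap.comp_add]
      map_smul' := by
        intro c f
        apply Subtype.ext
        simp [LinearMap.smul_comp, LinearMap.comp_smul] }
  map_one' := by
    ext f s
    simp
  map_mul' x y := by
    ext f s
    simp

theorem homRep_apply_opr (ρ : Representation ℂ G V) {N : Subgroup G} [hN : N.Normal]
    (σ : Representation ℂ N S) (Δ : Subgroup (G × (S →ₗ[ℂ] S)ˣ)) (hΔ : Δ ≤ intGroup σ)
    (x : Δ) (f : homSpace ρ σ) (s : S) :
    ((homRep ρ σ Δ hΔ x f : homSpace ρ σ) : S →ₗ[ℂ] V) ((opr Δ x : S →ₗ[ℂ] S) s) =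
      ρ (proj Δ x) ((f : S →ₗ[ℂ] V) s) := by
  show ρ (proj Δ x) ((f : S →ₗ[ℂ] V) (((((opr Δ x)⁻¹ : (S →ₗ[ℂ] S)ˣ) : S →ₗ[ℂ] S) *
    (opr Δ x : S →ₗ[ℂ] S)) s)) = _
  rw [Units.inv_mul]
  rfl

theorem homRep_apply (ρ : Representation ℂ G V) {N : Subgroup G} [hN : N.Normal]
    (σ : Representation ℂ N S) (Δ : Subgroup (G × (S →ₗ[ℂ] S)ˣ)) (hΔ : Δ ≤ intGroup σ)
    (x : Δ) (f : homSpace ρ σ) :
    ((homRep ρ σ Δ hΔ x f : homSpace ρ σ) : S →ₗ[ℂ] V) = ρ (proj Δ x) ∘ₗ (f : S →ₗ[ℂ] V) ∘ₗ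
      (((opr Δ x)⁻¹ : (S →ₗ[ℂ] S)ˣ) : S →ₗ[ℂ] S) := rfl

variable [FiniteDimensional ℂ V] [FiniteDimensional ℂ S]

/-- The span of the images of a stable subspace is stable. -/
theorem stable_dot (ρ : Representation ℂ G V) {N : Subgroup G} [hN : N.Normal]
    (σ : Representation ℂ N S) (Δ : Subgroup (G × (S →ₗ[ℂ] S)ˣ)) (hΔ : Δ ≤ intGroup σ)
    {K : Subgroup Δ} {W : Submodule ℂ (homSpace ρ σ)} (hW : Stable (homRep ρ σ Δ hΔ) K W) :
    Stable ρ (K.map (proj Δ)) (dot (W.map (homSpace ρ σ).subtype)) := by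
  rintro _ ⟨x, hx, rfl⟩ w hw
  induction hw using Submodule.span_induction with
  | mem v hv =>
    obtain ⟨f, hf, s, rfl⟩ := hv
    obtain ⟨f', hf', rfl⟩ := hf
    have := homRep_apply_opr ρ σ Δ hΔ x f' s
    show ρ (proj Δ x) ((f' : S →ₗ[ℂ] V) s) ∈ _
    rw [← this]
    exact mem_dot (Submodule.mem_map_of_mem (f := (homSpace ρ σ).subtype) (hW x hx f' hf')) _
  | zero => rw [map_zero]; exact Submodule.zero_mem _
  | add a b _ _ ha hb => rw [map_add]; exact Submodule.add_mem _ ha hb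
  | smul c a _ ha => rw [map_smul]; exact Submodule.smul_mem _ c ha

omit [FiniteDimensional ℂ V] [FiniteDimensional ℂ S] in
/-- The span of the images is stable under `N`. -/
theorem stable_dot_self (ρ : Representation ℂ G V) {N : Subgroup G}
    (σ : Representation ℂ N S) {W : Submodule ℂ (S →ₗ[ℂ] V)} (hW : W ≤ homSpace ρ σ) :
    Stable ρ N (dot W) := by
  intro n hn w hw
  induction hw using Submodule.span_induction with
  | mem v hv =>
    obtain ⟨f, hf, s, rfl⟩ := hv
    have := LinearMap.congr_fun ((mem_homSpace ρ σ f).1 (hW hf) ⟨n, hn⟩) s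
    simp only [LinearMap.comp_apply] at this
    rw [← this]
    exact mem_dot hf _
  | zero => rw [map_zero]; exact Submodule.zero_mem _
  | add a b _ _ ha hb => rw [map_add]; exact Submodule.add_mem _ ha hb
  | smul c a _ ha => rw [map_smul]; exact Submodule.smul_mem _ c ha

omit [FiniteDimensional ℂ V] [FiniteDimensional ℂ S] in
theorem map_subtype_le (ρ : Representation ℂ G V) {N : Subgroup G}
    (σ : Representation ℂ N S) (W : Submodule ℂ (homSpace ρ σ)) :
    W.map (homSpace ρ σ).subtype ≤ homSpace ρ σ := Submodule.map_subtype_le _ _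

/-- `V` is spanned by the images. -/
theorem dot_homSpace (ρ : Representation ℂ G V) (hρ : ρ.IsIrreducible) {N : Subgroup G}
    [hN : N.Normal] (σ : Representation ℂ N S) (Δ : Subgroup (G × (S →ₗ[ℂ] S)ˣ))
    (hΔ : Δ ≤ intGroup σ) (hsurj : Function.Surjective (proj Δ)) (hne : homSpace ρ σ ≠ ⊥) :
    dot (homSpace ρ σ) = ⊤ := by
  have h1 : Stable (homRep ρ σ Δ hΔ) ⊤ ⊤ := fun _ _ _ _ => Submodule.mem_top
  have h2 := stable_dot ρ σ Δ hΔ h1
  rw [Submodule.map_subtype_top] at h2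
  rcases ((isIrreducible_iff ρ).1 hρ).2 (dot (homSpace ρ σ)) (fun g v hv => by
    obtain ⟨x, rfl⟩ := hsurj g
    exact h2 _ ⟨x, Subgroup.mem_top x, rfl⟩ v hv) with h | h
  · exfalso
    apply hne
    rw [eq_bot_iff]
    intro f hf
    rw [Submodule.mem_bot]
    ext s
    have := mem_dot hf s
    rw [h, Submodule.mem_bot] at this
    exact this
  · exact h

/-- The dimension formula. -/
theorem finrank_eq_mul (ρ : Representation ℂ G V) (hρ : ρ.IsIrreducible) {N : Subgroup G}
    [hN : N.Normal] (σ : Representation ℂ N S) (hσ : σ.IsIrreducible)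
    (Δ : Subgroup (G × (S →ₗ[ℂ] S)ˣ))
    (hΔ : Δ ≤ intGroup σ) (hsurj : Function.Surjective (proj Δ)) (hne : homSpace ρ σ ≠ ⊥) :
    finrank ℂ V = finrank ℂ S * finrank ℂ (homSpace ρ σ) := by
  rw [← finrank_dot ρ σ hσ le_rfl, dot_homSpace ρ hρ σ Δ hΔ hsurj hne, finrank_top]

/-- `Hom_N(S, V)` is irreducible. -/
theorem homRep_isIrreducible (ρ : Representation ℂ G V) (hρ : ρ.IsIrreducible) {N : Subgroup G}
    [hN : N.Normal] (σ : Representation ℂ N S) (hσ : σ.IsIrreducible)
    (Δ : Subgroup (G × (S →ₗ[ℂ] S)ˣ))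
    (hΔ : Δ ≤ intGroup σ) (hsurj : Function.Surjective (proj Δ)) (hne : homSpace ρ σ ≠ ⊥) :
    (homRep ρ σ Δ hΔ).IsIrreducible := by
  rw [isIrreducible_iff]
  refine ⟨(Submodule.nontrivial_iff_ne_bot).2 hne, fun W hW => ?_⟩
  have h1 : Stable (homRep ρ σ Δ hΔ) ⊤ W := fun x _ w hw => hW x w hw
  have h2 := stable_dot ρ σ Δ hΔ h1
  rcases ((isIrreducible_iff ρ).1 hρ).2 (dot (W.map (homSpace ρ σ).subtype)) (fun g v hv => by
    obtain ⟨x, rfl⟩ := hsurj g
    exact h2 _ ⟨x, Subgroup.mem_top x, rfl⟩ v hv) with h | h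
  · left
    rw [eq_bot_iff]
    intro f hf
    rw [Submodule.mem_bot]
    apply Subtype.ext
    ext s
    have : ((homSpace ρ σ).subtype f) s ∈ dot (W.map (homSpace ρ σ).subtype) :=
      mem_dot (Submodule.mem_map_of_mem (f := (homSpace ρ σ).subtype) hf) s
    rw [h, Submodule.mem_bot] at this
    exact this
  · right
    rw [eq_top_iff]
    rintro f -
    have := mem_of_forall_mem_dot ρ σ hσ (map_subtype_le ρ σ W) f.2 (fun s => by
      rw [h]; trivial)
    obtain ⟨f', hf', hff'⟩ := this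
    have : f' = f := Subtype.ext hff'
    rwa [← this]

/-- Homogeneity passes to `Hom_N(S, V)`. -/
theorem homRep_homog (ρ : Representation ℂ G V) {N : Subgroup G}
    [hN : N.Normal] (σ : Representation ℂ N S) (hσ : σ.IsIrreducible)
    (Δ : Subgroup (G × (S →ₗ[ℂ] S)ˣ)) (hΔ : Δ ≤ intGroup σ) (K : Subgroup Δ)
    (hK : Homog ρ (N ⊔ K.map (proj Δ))) : Homog (homRep ρ σ Δ hΔ) K := by
  intro W₁ W₂ h₁ h₂ hs₁ hs₂
  have hst : ∀ W : Submodule ℂ (homSpace ρ σ), Stable (homRep ρ σ Δ hΔ) K W →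
      Stable ρ (N ⊔ K.map (proj Δ)) (dot (W.map (homSpace ρ σ).subtype)) := by
    intro W hW g hg v hv
    obtain ⟨n, hn, k, hk, rfl⟩ := Subgroup.mem_sup_of_normal_left.1 hg
    rw [map_mul]
    exact stable_dot_self ρ σ (map_subtype_le ρ σ W) n hn _ (stable_dot ρ σ Δ hΔ hW k hk v hv)
  have hbot : ∀ W : Submodule ℂ (homSpace ρ σ), W ≠ ⊥ →
      dot (W.map (homSpace ρ σ).subtype) ≠ ⊥ := by
    intro W hW h
    apply hW
    rw [eq_bot_iff]
    intro f hf
    rw [Submodule.mem_bot]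
    apply Subtype.ext
    ext s
    have : ((homSpace ρ σ).subtype f) s ∈ dot (W.map (homSpace ρ σ).subtype) :=
      mem_dot (Submodule.mem_map_of_mem (f := (homSpace ρ σ).subtype) hf) s
    rw [h, Submodule.mem_bot] at this
    exact this
  obtain ⟨T, hT, hT12, v, hv, hTv⟩ := hK _ _ (hbot W₁ h₁) (hbot W₂ h₂) (hst W₁ hs₁) (hst W₂ hs₂)
  have hTN : ∀ n : N, T * ρ n = ρ n * T := fun n => hT n (Subgroup.mem_sup_left n.2)
  let T' : homSpace ρ σ →ₗ[ℂ] homSpace ρ σ :=
    { toFun := fun f => ⟨T ∘ₗ (f : S →ₗ[ℂ] V), by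
        rw [mem_homSpace]
        intro n
        have h3 : T ∘ₗ ρ n = ρ n ∘ₗ T := hTN n
        rw [LinearMap.comp_assoc, (mem_homSpace ρ σ _).1 f.2 n, ← LinearMap.comp_assoc, h3,
          LinearMap.comp_assoc]⟩
      map_add' := by
        intro f g
        apply Subtype.ext
        simp [LinearMap.comp_add]
      map_smul' := by
        intro c f
        apply Subtype.ext
        simp [LinearMap.comp_smul] }
  have hT' : ∀ f : homSpace ρ σ, ((T' f : homSpace ρ σ) : S →ₗ[ℂ] V) = T ∘ₗ (f : S →ₗ[ℂ] V) :=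
    fun f => rfl
  refine ⟨T', fun x hx => ?_, fun f hf => ?_, ?_⟩
  · apply LinearMap.ext
    intro f
    apply Subtype.ext
    rw [Module.End.mul_apply, Module.End.mul_apply, hT', homRep_apply, homRep_apply, hT']
    have h3 : T ∘ₗ ρ (proj Δ x) = ρ (proj Δ x) ∘ₗ T :=
      hT _ (Subgroup.mem_sup_right ⟨x, hx, rfl⟩)
    rw [← LinearMap.comp_assoc, h3, LinearMap.comp_assoc, LinearMap.comp_assoc]
  · have := mem_of_forall_mem_dot ρ σ hσ (map_subtype_le ρ σ W₂) (T' f).2 (fun s => by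
      rw [hT']
      exact hT12 _ (mem_dot (Submodule.mem_map_of_mem (f := (homSpace ρ σ).subtype) hf) s))
    obtain ⟨f', hf', hff'⟩ := this
    have h4 : f' = T' f := Subtype.ext hff'
    rwa [← h4]
  · by_contra hcon
    push Not at hcon
    apply hTv
    clear hTv
    induction hv using Submodule.span_induction with
    | mem v hv =>
      obtain ⟨f, hf, s, rfl⟩ := hv
      obtain ⟨f', hf', rfl⟩ := hf
      have h5 := hcon f' hf'
      have h6 := congrArg (fun f : homSpace ρ σ => (f : S →ₗ[ℂ] V) s) h5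
      exact h6
    | zero => rw [map_zero]
    | add a b _ _ ha hb => rw [map_add, ha, hb, add_zero]
    | smul c a _ ha => rw [map_smul, ha, smul_zero]

/-- The maps with image in `W₀`. -/
def homInto (ρ : Representation ℂ G V) {N : Subgroup G} (σ : Representation ℂ N S)
    (W₀ : Submodule ℂ V) : Submodule ℂ (homSpace ρ σ) where
  carrier := {f | ∀ s, (f : S →ₗ[ℂ] V) s ∈ W₀}
  add_mem' := fun hf hg s => W₀.add_mem (hf s) (hg s)
  zero_mem' := fun _ => W₀.zero_mem
  smul_mem' := fun c _ hf s => W₀.smul_mem c (hf s)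

omit [FiniteDimensional ℂ V] [FiniteDimensional ℂ S] in
theorem mem_homInto (ρ : Representation ℂ G V) {N : Subgroup G} (σ : Representation ℂ N S)
    (W₀ : Submodule ℂ V) (f : homSpace ρ σ) :
    f ∈ homInto ρ σ W₀ ↔ ∀ s, (f : S →ₗ[ℂ] V) s ∈ W₀ := Iff.rfl

omit [FiniteDimensional ℂ V] [FiniteDimensional ℂ S] in
theorem stable_homInto (ρ : Representation ℂ G V) {N : Subgroup G} [hN : N.Normal]
    (σ : Representation ℂ N S) (Δ : Subgroup (G × (S →ₗ[ℂ] S)ˣ)) (hΔ : Δ ≤ intGroup σ)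
    {H : Subgroup G} {W₀ : Submodule ℂ V} (h : Stable ρ H W₀) :
    Stable (homRep ρ σ Δ hΔ) (H.comap (proj Δ)) (homInto ρ σ W₀) := by
  intro x hx f hf s
  rw [homRep_apply]
  exact h _ hx _ (hf _)

theorem finrank_homInto (ρ : Representation ℂ G V) {N : Subgroup G}
    (σ : Representation ℂ N S) (hσ : σ.IsIrreducible) (W₀ : Submodule ℂ V) :
    finrank ℂ S * finrank ℂ (homInto ρ σ W₀) ≤ finrank ℂ W₀ := by
  have h1 : dot ((homInto ρ σ W₀).map (homSpace ρ σ).subtype) ≤ W₀ := by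
    apply dot_le
    rintro _ ⟨f, hf, rfl⟩ s
    exact hf s
  have h2 := Submodule.finrank_mono h1
  rw [finrank_dot ρ σ hσ (map_subtype_le ρ σ _)] at h2
  rwa [LinearEquiv.finrank_eq (Submodule.equivMapOfInjective (homSpace ρ σ).subtype
    (Submodule.subtype_injective _) (homInto ρ σ W₀))]

end Action

end Cfsg.Agent.CharactersDeep.BergerTensor
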