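import Mathlib
import Cfsg.Prelude.Def_Characters
import Cfsg.Agent.CharactersDeep.BergerDefs

/-!
# Trace computations for Berger's theorem

If a representation is scalar on a subgroup `Z` and its character vanishes off `Z`, then the index
of `Z` times the dimension of the endomorphism algebra is the square of the degree.
-/

set_option autoImplicit false

namespace Cfsg.Agent.CharactersDeep.BergerTrace

open Cfsg Representation Module
open Cfsg.Agent.CharactersDeep.BergerDefs

variable {G V : Type*} [Group G] [Finite G] [AddCommGroup V] [Module ℂ V] [FiniteDimensional ℂ V]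

/-- The sum of `χ(g) χ(g⁻¹)` when `χ` is scalar on `Z` and zero off `Z`. -/
theorem index_mul_finrank (ρ : Representation ℂ G V) (hV : 0 < finrank ℂ V) (Z : Subgroup G)
    (hZ : ∀ z ∈ Z, ∃ c : ℂ, ρ z = c • (1 : V →ₗ[ℂ] V))
    (h : ∀ g, g ∉ Z → LinearMap.trace ℂ V (ρ g) = 0) :
    Z.index * finrank ℂ (IntertwiningMap ρ ρ) = finrank ℂ V ^ 2 := by
  classical
  have : Fintype G := Fintype.ofFinite G
  have hcard : (Nat.card G : ℂ) ≠ 0 := by exact_mod_cast Nat.card_pos.ne'
  have : Invertible (Nat.card G : ℂ) := invertibleOfNonzero hcard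
  have key := card_inv_mul_sum_char_mul_char_eq_finrank ρ ρ
  have hnt : Nontrivial V := Module.finrank_pos_iff.1 hV
  have hterm : ∀ g : G, ρ.character g * ρ.character g⁻¹ =
      if g ∈ Z then (finrank ℂ V : ℂ) ^ 2 else 0 := by
    intro g
    split_ifs with hg
    · obtain ⟨c, hc⟩ := hZ g hg
      obtain ⟨c', hc'⟩ := hZ g⁻¹ (Z.inv_mem hg)
      have hcc : c * c' = 1 := by
        have h1 : ρ g * ρ g⁻¹ = 1 := by rw [← map_mul, mul_inv_cancel, map_one]
        rw [hc, hc', smul_mul_smul_comm, mul_one] at h1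
        obtain ⟨v, hv⟩ := exists_ne (0 : V)
        have h2 := congrArg (fun T : V →ₗ[ℂ] V => T v) h1
        simp only [LinearMap.smul_apply, Module.End.one_apply] at h2
        have h3 : (c * c' - 1) • v = 0 := by rw [sub_smul, h2, one_smul, sub_self]
        rcases smul_eq_zero.1 h3 with h4 | h4
        · exact sub_eq_zero.1 h4
        · exact absurd h4 hv
      have e1 : ρ.character g = c * finrank ℂ V := by
        change LinearMap.trace ℂ V (ρ g) = _
        rw [hc, map_smul, LinearMap.trace_one, smul_eq_mul]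
      have e2 : ρ.character g⁻¹ = c' * finrank ℂ V := by
        change LinearMap.trace ℂ V (ρ g⁻¹) = _
        rw [hc', map_smul, LinearMap.trace_one, smul_eq_mul]
      rw [e1, e2]
      calc c * (finrank ℂ V : ℂ) * (c' * (finrank ℂ V : ℂ))
          = (c * c') * (finrank ℂ V : ℂ) ^ 2 := by ring
        _ = _ := by rw [hcc, one_mul]
    · have : ρ.character g = 0 := h g hg
      rw [this, zero_mul]
  have hsum : ∑ g : G, ρ.character g * ρ.character g⁻¹ =
      (Nat.card Z : ℂ) * (finrank ℂ V : ℂ) ^ 2 := by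
    rw [Finset.sum_congr rfl (fun g _ => hterm g), Finset.sum_ite, Finset.sum_const_zero, add_zero,
      Finset.sum_const, nsmul_eq_mul]
    congr 2
    rw [← Fintype.card_subtype, ← Nat.card_eq_fintype_card]
  rw [hsum] at key
  have hidx : (Nat.card G : ℂ) = (Nat.card Z : ℂ) * (Z.index : ℂ) := by
    rw [← Nat.cast_mul, Z.card_mul_index]
  have hZ0 : (Nat.card Z : ℂ) ≠ 0 := by exact_mod_cast Nat.card_pos.ne'
  have h5 : (Nat.card Z : ℂ) * (finrank ℂ V : ℂ) ^ 2 =
      (Nat.card G : ℂ) * (finrank ℂ (IntertwiningMap ρ ρ) : ℂ) := by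
    rw [← key, ← mul_assoc, mul_inv_cancel₀ hcard, one_mul]
  rw [hidx, mul_assoc] at h5
  have h6 := mul_left_cancel₀ hZ0 h5
  exact_mod_cast h6.symm

theorem index_dvd_sq (ρ : Representation ℂ G V) (hV : 0 < finrank ℂ V) (Z : Subgroup G)
    (hZ : ∀ z ∈ Z, ∃ c : ℂ, ρ z = c • (1 : V →ₗ[ℂ] V))
    (h : ∀ g, g ∉ Z → LinearMap.trace ℂ V (ρ g) = 0) : Z.index ∣ finrank ℂ V ^ 2 :=
  ⟨_, (index_mul_finrank ρ hV Z hZ h).symm⟩

theorem index_eq_sq (ρ : Representation ℂ G V) (hρ : ρ.IsIrreducible) (Z : Subgroup G)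
    (hZ : ∀ z ∈ Z, ∃ c : ℂ, ρ z = c • (1 : V →ₗ[ℂ] V))
    (h : ∀ g, g ∉ Z → LinearMap.trace ℂ V (ρ g) = 0) : Z.index = finrank ℂ V ^ 2 := by
  have hV : 0 < finrank ℂ V := by
    rw [Module.finrank_pos_iff]
    by_contra hn
    rw [not_nontrivial_iff_subsingleton] at hn
    have hne : (⊥ : Subrepresentation ρ) ≠ ⊤ := bot_ne_top
    exact hne (Subrepresentation.toSubmodule_injective (Subsingleton.elim _ _))
  have h1 := index_mul_finrank ρ hV Z hZ h
  rwa [IsIrreducible.finrank_intertwiningMap_self, mul_one] at h1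

/-- The span of the translates of an `H`-stable subspace under `K ≥ H`. -/
theorem exists_stable_extend (ρ : Representation ℂ G V) {H K : Subgroup G} (hHK : H ≤ K)
    {W : Submodule ℂ V} (hW : Stable ρ H W) :
    ∃ W' : Submodule ℂ V, W ≤ W' ∧ Stable ρ K W' ∧
      finrank ℂ W' ≤ H.relIndex K * finrank ℂ W := by
  classical
  -- translates indexed by the cosets
  let H' : Subgroup K := H.subgroupOf K
  let f : (K ⧸ H') → Submodule ℂ V := fun q => W.map (ρ ((q.out : K) : G))
  have hkey : ∀ k : K, W.map (ρ (k : G)) = f (k : K ⧸ H') := by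
    intro k
    have h1 : ((QuotientGroup.mk k : K ⧸ H').out)⁻¹ * k ∈ H' := by
      rw [← QuotientGroup.eq, QuotientGroup.out_eq']
    have h2 : ((((QuotientGroup.mk k : K ⧸ H').out)⁻¹ * k : K) : G) ∈ H :=
      Subgroup.mem_subgroupOf.1 h1
    set o : K := (QuotientGroup.mk k : K ⧸ H').out with ho
    have hfix : ∀ x ∈ H, W.map (ρ x) = W := by
      intro x hx
      apply le_antisymm
      · rintro _ ⟨w, hw, rfl⟩
        exact hW x hx w hw
      · intro w hw
        refine ⟨ρ x⁻¹ w, hW x⁻¹ (H.inv_mem hx) w hw, ?_⟩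
        rw [← Module.End.mul_apply, ← map_mul, mul_inv_cancel, map_one, Module.End.one_apply]
    have h3 : ρ (k : G) = ρ (o : G) ∘ₗ ρ ((o⁻¹ * k : K) : G) := by
      change ρ (k : G) = ρ (o : G) * ρ ((o⁻¹ * k : K) : G)
      rw [← map_mul]
      congr 1
      push_cast
      group
    change W.map (ρ (k : G)) = W.map (ρ (o : G))
    rw [h3, Submodule.map_comp, hfix _ h2]
  refine ⟨⨆ q, f q, ?_, ?_, ?_⟩
  · have h1 : W = f ((1 : K) : K ⧸ H') := by
      rw [← hkey 1]
      rw [OneMemClass.coe_one, map_one]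
      exact (Submodule.map_id W).symm
    calc W = f ((1 : K) : K ⧸ H') := h1
      _ ≤ ⨆ q, f q := le_iSup f _
  · intro k hk w hw
    have h1 : (⨆ q, f q).map (ρ k) ≤ ⨆ q, f q := by
      rw [Submodule.map_iSup]
      refine iSup_le (fun q => ?_)
      have h2 : (f q).map (ρ k) = f (((⟨k, hk⟩ : K) * q.out : K) : K ⧸ H') := by
        rw [← hkey]
        change (W.map (ρ ((q.out : K) : G))).map (ρ k) = _
        rw [← Submodule.map_comp]
        congr 1
        change ρ k * ρ ((q.out : K) : G) = _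
        rw [← map_mul]
        rfl
      rw [h2]
      exact le_iSup f _
    exact h1 ⟨w, hw, rfl⟩
  · have : Fintype (K ⧸ H') := Fintype.ofFinite _
    have h1 : finrank ℂ (⨆ q, f q : Submodule ℂ V) ≤ ∑ q : K ⧸ H', finrank ℂ (f q) := by
      have aux : ∀ s : Finset (K ⧸ H'),
          finrank ℂ (s.sup f : Submodule ℂ V) ≤ ∑ q ∈ s, finrank ℂ (f q) := by
        intro s
        induction s using Finset.induction_on with
        | empty => simp
        | insert a s ha ih =>
          rw [Finset.sup_insert, Finset.sum_insert ha]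
          exact (Submodule.finrank_add_le_finrank_add_finrank _ _).trans
            (Nat.add_le_add_left ih _)
      have h2 := aux Finset.univ
      rwa [Finset.sup_univ_eq_iSup] at h2
    refine h1.trans ?_
    have h2 : ∀ q, finrank ℂ (f q) ≤ finrank ℂ W := fun q => Submodule.finrank_map_le _ _
    calc ∑ q : K ⧸ H', finrank ℂ (f q) ≤ ∑ _q : K ⧸ H', finrank ℂ W :=
          Finset.sum_le_sum (fun q _ => h2 q)
      _ = Fintype.card (K ⧸ H') * finrank ℂ W := by
          rw [Finset.sum_const, Finset.card_univ, smul_eq_mul]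
      _ = H.relIndex K * finrank ℂ W := by
          rw [← Nat.card_eq_fintype_card]
          rfl

end Cfsg.Agent.CharactersDeep.BergerTrace
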