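import Mathlib
import Cfsg.Agent.CharactersDeep.BergerTensor
import Cfsg.Agent.CharactersDeep.BergerTrace
import Cfsg.Agent.CharDeep.TripleCover
import Cfsg.Agent.CharactersDeep.BergerCA
import Cfsg.Agent.CharactersDeep.BergerGroup
import Cfsg.Agent.Characters.Core

/-!
# Berger's theorem: quasi-primitive representations of solvable groups are primitive
-/

set_option autoImplicit false

namespace Cfsg.Agent.CharactersDeep.BergerMain

open Cfsg Representation Module Cfsg.Agent.CharactersDeep.BergerDefs Cfsg.Agent.CharDeep.ProjExt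
open Cfsg.Agent.CharDeep.LinearChar Cfsg.Agent.CharDeep.IrrEquiv
open Cfsg.Agent.CharactersDeep.BergerTensor Cfsg.Agent.CharactersDeep.BergerTrace
open Cfsg.Agent.CharDeep.TripleCover

section Prelim

variable {G V : Type*} [Group G] [AddCommGroup V] [Module ℂ V]

theorem rep_apply_apply (ρ : Representation ℂ G V) (a b : G) (v : V) :
    ρ a (ρ b v) = ρ (a * b) v := by
  rw [map_mul]
  rfl

/-- An element whose commutator with some element is a scalar, but which does not commute with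
it, has trace zero. -/
theorem trace_eq_zero (ρ : Representation ℂ G V) {g x : G} {c : ℂ}
    (hc : ρ (g * x * g⁻¹ * x⁻¹) = c • (1 : V →ₗ[ℂ] V)) (hne : ρ g * ρ x ≠ ρ x * ρ g) :
    LinearMap.trace ℂ V (ρ g) = 0 := by
  have h1 : ρ g * ρ x = c • (ρ x * ρ g) := by
    have : g * x = (g * x * g⁻¹ * x⁻¹) * (x * g) := by group
    rw [← map_mul, this, map_mul, hc, map_mul, smul_mul_assoc, one_mul]
  have hc1 : c ≠ 1 := by
    rintro rfl
    rw [one_smul] at h1
    exact hne h1
  have h2 : ρ g = c • (ρ x * ρ g * ρ x⁻¹) := by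
    rw [← smul_mul_assoc, ← h1, mul_assoc, ← map_mul, mul_inv_cancel, map_one, mul_one]
  have h3 : LinearMap.trace ℂ V (ρ x * ρ g * ρ x⁻¹) = LinearMap.trace ℂ V (ρ g) := by
    rw [LinearMap.trace_mul_comm, ← mul_assoc, ← map_mul, inv_mul_cancel, map_one, one_mul]
  have h4 : LinearMap.trace ℂ V (ρ g) = c * LinearMap.trace ℂ V (ρ g) := by
    conv_lhs => rw [h2, map_smul, h3, smul_eq_mul]
  have h5 : (1 - c) * LinearMap.trace ℂ V (ρ g) = 0 := by linear_combination h4
  rcases mul_eq_zero.1 h5 with h | h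
  · exact absurd (sub_eq_zero.1 h).symm hc1
  · exact h

/-- Every operator on a line is a scalar. -/
theorem eq_smul_of_finrank_one (h : finrank ℂ V = 1) (T : V →ₗ[ℂ] V) :
    ∃ c : ℂ, T = c • (1 : V →ₗ[ℂ] V) := by
  obtain ⟨v, hv, hspan⟩ := finrank_eq_one_iff'.1 h
  obtain ⟨c, hc⟩ := hspan (T v)
  refine ⟨c, ?_⟩
  ext w
  obtain ⟨d, rfl⟩ := hspan w
  rw [map_smul, ← hc, LinearMap.smul_apply, Module.End.one_apply, smul_comm]

theorem map_eq_bot_iff_of_inj {V W : Type*} [AddCommGroup V] [Module ℂ V] [AddCommGroup W]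
    [Module ℂ W] {f : V →ₗ[ℂ] W} (hf : Function.Injective f) {U : Submodule ℂ V} :
    U.map f = ⊥ ↔ U = ⊥ := by
  constructor
  · intro h
    rw [eq_bot_iff]
    intro u hu
    have : f u ∈ U.map f := Submodule.mem_map_of_mem hu
    rw [h, Submodule.mem_bot] at this
    rw [Submodule.mem_bot]
    apply hf
    rw [this, map_zero]
  · rintro rfl
    exact Submodule.map_bot f

/-- Nonzero stable subspaces contain irreducible ones. -/
theorem exists_simple_sub [FiniteDimensional ℂ V] (ρ : Representation ℂ G V) (N : Subgroup G)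
    {W : Submodule ℂ V} (hW : W ≠ ⊥) (hs : Stable ρ N W) :
    ∃ (S : Submodule ℂ V) (hS : Stable ρ N S), S ≤ W ∧ (subRep ρ N S hS).IsIrreducible := by
  obtain ⟨S, ⟨hS1, hS2, hS3⟩, hmin⟩ := wellFounded_lt.has_min
    {S : Submodule ℂ V | S ≠ ⊥ ∧ S ≤ W ∧ Stable ρ N S} ⟨W, hW, le_rfl, hs⟩
  refine ⟨S, hS3, hS2, ?_⟩
  rw [isIrreducible_iff]
  refine ⟨(Submodule.nontrivial_iff_ne_bot).2 hS1, fun U hU => ?_⟩
  by_cases hU0 : U = ⊥
  · exact Or.inl hU0
  · right
    by_contra hUt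
    have h1 : U.map S.subtype ≠ ⊥ := by
      exact fun h => hU0 ((map_eq_bot_iff_of_inj S.subtype_injective).1 h)
    have h2 : U.map S.subtype < S := by
      refine lt_of_le_of_ne (Submodule.map_subtype_le _ _) (fun h => hUt ?_)
      rw [eq_top_iff]
      rintro x -
      have : (x : V) ∈ U.map S.subtype := by rw [h]; exact x.2
      obtain ⟨y, hy, hyx⟩ := this
      have : y = x := Subtype.ext hyx
      rwa [← this]
    refine hmin (U.map S.subtype) ⟨h1, h2.le.trans hS2, ?_⟩ h2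
    rintro n hn _ ⟨u, hu, rfl⟩
    exact ⟨_, hU ⟨n, hn⟩ u hu, rfl⟩

/-- The character of an irreducible stable subspace is invariant. -/
theorem character_invariant [FiniteDimensional ℂ V] (ρ : Representation ℂ G V) (N : Subgroup G)
    [hN : N.Normal] (hhom : Homog ρ N) (S : Submodule ℂ V) (hS : Stable ρ N S)
    (hσ : (subRep ρ N S hS).IsIrreducible) (g : G) (n : N) :
    (subRep ρ N S hS).character (MulAut.conjNormal g n) = (subRep ρ N S hS).character n := by
  set σ := subRep ρ N S hS with hσdef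
  have hnt := (isIrreducible_iff σ).1 hσ
  have hS0 : S ≠ ⊥ := (Submodule.nontrivial_iff_ne_bot).1 hnt.1
  have hginj : Function.Injective (ρ g⁻¹) := by
    intro a b hab
    have := congrArg (ρ g) hab
    rwa [← Module.End.mul_apply, ← Module.End.mul_apply, ← map_mul, mul_inv_cancel, map_one]
      at this
  have h1 : S.map (ρ g⁻¹) ≠ ⊥ := by
    exact fun h => hS0 ((map_eq_bot_iff_of_inj hginj).1 h)
  have h2 : Stable ρ N (S.map (ρ g⁻¹)) := by
    rintro m hm _ ⟨s, hs, rfl⟩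
    refine ⟨ρ (g * m * g⁻¹) s, hS _ (hN.conj_mem m hm g) s hs, ?_⟩
    rw [← Module.End.mul_apply, ← Module.End.mul_apply, ← map_mul, ← map_mul]
    congr 2
    group
  obtain ⟨T, hT, hTS, v, hv, hTv⟩ := hhom S _ hS0 h1 hS h2
  let φ : S →ₗ[ℂ] S := ((ρ g) ∘ₗ T).restrict (p := S) (q := S) (by
    intro s hs
    obtain ⟨t, ht, hts⟩ := hTS s hs
    show ρ g (T s) ∈ S
    rw [← hts, ← Module.End.mul_apply, ← map_mul, mul_inv_cancel, map_one]
    exact ht)
  have hφ : ∀ s : S, ((φ s : S) : V) = ρ g (T s) := fun s => rfl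
  have hφσ : ∀ m : N, φ ∘ₗ σ m = σ (MulAut.conjNormal g m) ∘ₗ φ := by
    intro m
    ext s
    have h3 : T (ρ m s) = ρ m (T s) := LinearMap.congr_fun (hT m m.2) s
    have h4 : ρ g (ρ m (T s)) = ρ (MulAut.conjNormal g m : N) (ρ g (T s)) := by
      rw [rep_apply_apply, rep_apply_apply, MulAut.conjNormal_apply]
      congr 2
      group
    rw [LinearMap.comp_apply, LinearMap.comp_apply, hφ, subRep_apply, subRep_apply, hφ, h3, h4]
  have hker : LinearMap.ker φ = ⊥ := by
    rcases hnt.2 (LinearMap.ker φ) (fun m s hs => by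
      rw [LinearMap.mem_ker] at hs ⊢
      have := LinearMap.congr_fun (hφσ m) s
      rw [LinearMap.comp_apply, LinearMap.comp_apply, hs, map_zero] at this
      exact this) with h | h
    · exact h
    · exfalso
      apply hTv
      have : (⟨v, hv⟩ : S) ∈ LinearMap.ker φ := by rw [h]; trivial
      rw [LinearMap.mem_ker] at this
      have h3 : ρ g (T v) = 0 := congrArg Subtype.val this
      have h4 := congrArg (ρ g⁻¹) h3
      rwa [← Module.End.mul_apply, ← map_mul, inv_mul_cancel, map_one, map_zero] at h4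
  let e : S ≃ₗ[ℂ] S := LinearEquiv.ofInjectiveEndo φ (LinearMap.ker_eq_bot.1 hker)
  have he : ∀ s, e s = φ s := fun s => rfl
  have h5 : σ (MulAut.conjNormal g n) = e.conj (σ n) := by
    ext s
    obtain ⟨t, rfl⟩ := e.surjective s
    rw [LinearEquiv.conj_apply_apply, e.symm_apply_apply, he, he]
    have := LinearMap.congr_fun (hφσ n) t
    rw [LinearMap.comp_apply, LinearMap.comp_apply] at this
    rw [this]
  show LinearMap.trace ℂ S (σ (MulAut.conjNormal g n)) = LinearMap.trace ℂ S (σ n)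
  rw [h5, LinearMap.trace_conj']

/-- The inclusion of a stable subspace is a nonzero element of the space of homomorphisms. -/
theorem subtype_mem_homSpace (ρ : Representation ℂ G V) (N : Subgroup G)
    (S : Submodule ℂ V) (hS : Stable ρ N S) : S.subtype ∈ homSpace ρ (subRep ρ N S hS) := by
  rw [mem_homSpace]
  intro n
  ext s
  rfl

theorem homSpace_ne_bot (ρ : Representation ℂ G V) (N : Subgroup G)
    (S : Submodule ℂ V) (hS : Stable ρ N S) (hσ : (subRep ρ N S hS).IsIrreducible) :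
    homSpace ρ (subRep ρ N S hS) ≠ ⊥ := by
  intro h
  have h1 := subtype_mem_homSpace ρ N S hS
  rw [h, Submodule.mem_bot] at h1
  have hnt := ((isIrreducible_iff _).1 hσ).1
  obtain ⟨s, hs⟩ := exists_ne (0 : S)
  apply hs
  have := LinearMap.congr_fun h1 s
  exact Subtype.ext this

end Prelim

section Reduce

universe u

variable {G : Type u} [Group G] {V : Type} [AddCommGroup V] [Module ℂ V]
  [FiniteDimensional ℂ V]

/-- The finite cover attached to an irreducible stable subspace. -/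
theorem exists_cover [Finite G] (ρ : Representation ℂ G V) (N : Subgroup G)
    [hN : N.Normal] (hhom : Homog ρ N) (S : Submodule ℂ V) (hS : Stable ρ N S)
    (hσ : (subRep ρ N S hS).IsIrreducible) :
    ∃ Δ : Subgroup (G × (S →ₗ[ℂ] S)ˣ), Finite Δ ∧ Δ ≤ intGroup (subRep ρ N S hS) ∧
      Function.Surjective (proj Δ) ∧ (∀ n, sec (subRep ρ N S hS) n ∈ Δ) ∧
      (proj Δ).ker ≤ Subgroup.center Δ :=
  exists_finite_cover _ hσ (fun g n => character_invariant ρ N hhom S hS hσ g n)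

/-- The statement to be proved by induction on the dimension. -/
def Primitive (ρ : Representation ℂ G V) : Prop :=
  ∀ (H : Subgroup G) (W : Submodule ℂ V), H ≠ ⊤ → W ≠ ⊥ → Stable ρ H W →
    finrank ℂ V < H.index * finrank ℂ W

/-- The induction hypothesis. -/
def IH (d : ℕ) : Prop :=
  ∀ (G : Type u) [Group G] [Finite G] [Group.IsSolvable G] (V : Type) [AddCommGroup V]
    [Module ℂ V] [FiniteDimensional ℂ V] (ρ : Representation ℂ G V), finrank ℂ V < d →
    ρ.IsIrreducible → (∀ N : Subgroup G, N.Normal → Homog ρ N) → Primitive ρ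

theorem reduce [Finite G] [hsol : Group.IsSolvable G] (ρ : Representation ℂ G V)
    (hρ : ρ.IsIrreducible)
    (hhom : ∀ N : Subgroup G, N.Normal → Homog ρ N) (ih : IH.{u} (finrank ℂ V))
    (N : Subgroup G) [hN : N.Normal] (S : Submodule ℂ V) (hS : Stable ρ N S)
    (hσ : (subRep ρ N S hS).IsIrreducible) (hdim : 1 < finrank ℂ S)
    (Δ : Subgroup (G × (S →ₗ[ℂ] S)ˣ)) [hfin : Finite Δ] (hΔ : Δ ≤ intGroup (subRep ρ N S hS))
    (hsurj : Function.Surjective (proj Δ)) (hker : (proj Δ).ker ≤ Subgroup.center Δ) :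
    Primitive (homRep ρ (subRep ρ N S hS) Δ hΔ) := by
  have hne := homSpace_ne_bot ρ N S hS hσ
  have hirr := homRep_isIrreducible ρ hρ (subRep ρ N S hS) hσ Δ hΔ hsurj hne
  have hd := finrank_eq_mul ρ hρ (subRep ρ N S hS) hσ Δ hΔ hsurj hne
  have hpos : 0 < finrank ℂ (homSpace ρ (subRep ρ N S hS)) := by
    have := (Submodule.nontrivial_iff_ne_bot).2 hne
    exact finrank_pos
  have hlt : finrank ℂ (homSpace ρ (subRep ρ N S hS)) < finrank ℂ V := by
    rw [hd]
    exact lt_mul_of_one_lt_left hpos hdim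
  have hsolK : Group.IsSolvable (proj Δ).ker := by
    apply Group.isSolvable_of_comm
    intro a b
    apply Subtype.ext
    exact ((Subgroup.mem_center_iff.1 (hker a.2)) b).symm
  have hsolΔ : Group.IsSolvable Δ :=
    Group.isSolvable_of_ker_le_range (proj Δ).ker.subtype (proj Δ) (by simp)
  refine ih Δ (homSpace ρ (subRep ρ N S hS)) _ hlt hirr (fun K hK => ?_)
  refine homRep_homog ρ (subRep ρ N S hS) hσ Δ hΔ K (hhom _ ?_)
  have : (K.map (proj Δ)).Normal := hK.map _ hsurj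
  infer_instance

/-- If `σ n` is a scalar on `S`, so is `ρ n` on `V`. -/
theorem scalar_of_scalar_sub (ρ : Representation ℂ G V)
    (N : Subgroup G) (S : Submodule ℂ V) (hS : Stable ρ N S)
    (hdot : dot (homSpace ρ (subRep ρ N S hS)) = ⊤) (n : N) (c : ℂ)
    (h : subRep ρ N S hS n = c • (1 : S →ₗ[ℂ] S)) : ρ n = c • (1 : V →ₗ[ℂ] V) := by
  apply LinearMap.ext
  intro v
  have hv : v ∈ dot (homSpace ρ (subRep ρ N S hS)) := by rw [hdot]; trivial
  induction hv using Submodule.span_induction with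
  | mem v hv =>
    obtain ⟨f, hf, s, rfl⟩ := hv
    have h1 := LinearMap.congr_fun ((mem_homSpace _ _ _).1 hf n) s
    rw [LinearMap.comp_apply, LinearMap.comp_apply, h] at h1
    rw [← h1]
    simp
  | zero => rw [map_zero, map_zero]
  | add a b _ _ ha hb => rw [map_add, map_add, ha, hb]
  | smul d a _ ha => rw [map_smul, map_smul, ha]

/-- First reduction: `V` is scalar on the core of `H`. -/
theorem core_scalar [Finite G] [hsol : Group.IsSolvable G] (ρ : Representation ℂ G V)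
    (hρ : ρ.IsIrreducible)
    (hhom : ∀ N : Subgroup G, N.Normal → Homog ρ N) (ih : IH.{u} (finrank ℂ V))
    (H : Subgroup G) (hH : H ≠ ⊤) (W : Submodule ℂ V) (hW : W ≠ ⊥) (hs : Stable ρ H W)
    (hle : H.index * finrank ℂ W ≤ finrank ℂ V) (l : G) (hl : l ∈ H.normalCore) :
    ∃ c : ℂ, ρ l = c • (1 : V →ₗ[ℂ] V) := by
  set L := H.normalCore with hL
  have hsL : Stable ρ L W := fun x hx => hs x (H.normalCore_le hx)
  obtain ⟨S, hS, hSW, hσ⟩ := exists_simple_sub ρ L hW hsL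
  obtain ⟨Δ, hfin, hΔ, hsurj, hsec, hker⟩ := exists_cover ρ L (hhom L inferInstance) S hS hσ
  have hne := homSpace_ne_bot ρ L S hS hσ
  have hdot := dot_homSpace ρ hρ (subRep ρ L S hS) Δ hΔ hsurj hne
  have hd := finrank_eq_mul ρ hρ (subRep ρ L S hS) hσ Δ hΔ hsurj hne
  have hSpos : 0 < finrank ℂ S := by
    have := ((isIrreducible_iff _).1 hσ).1
    exact finrank_pos
  have hdim : finrank ℂ S = 1 := by
    by_contra hcon
    have h1 : 1 < finrank ℂ S := by omega
    have hprim := reduce ρ hρ hhom ih L S hS hσ h1 Δ hΔ hsurj hker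
    have hidx : (H.comap (proj Δ)).index = H.index := Subgroup.index_comap_of_surjective H hsurj
    have h2 := hprim (H.comap (proj Δ)) (homInto ρ (subRep ρ L S hS) W) (by
        intro h
        apply hH
        rw [← Subgroup.index_eq_one, ← hidx, h, Subgroup.index_top]) (by
        intro h
        have h3 : (⟨S.subtype, subtype_mem_homSpace ρ L S hS⟩ :
            homSpace ρ (subRep ρ L S hS)) ∈ homInto ρ (subRep ρ L S hS) W := by
          intro s
          exact hSW s.2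
        rw [h, Submodule.mem_bot] at h3
        have h4 : S.subtype = 0 := congrArg Subtype.val h3
        have hnt := ((isIrreducible_iff _).1 hσ).1
        obtain ⟨s, hs⟩ := exists_ne (0 : S)
        apply hs
        exact Subtype.ext (LinearMap.congr_fun h4 s)) (stable_homInto ρ _ Δ hΔ hs)
    rw [hidx] at h2
    have h5 := finrank_homInto ρ (subRep ρ L S hS) hσ W
    have h6 : finrank ℂ V < finrank ℂ V := by
      calc finrank ℂ V = finrank ℂ S * finrank ℂ (homSpace ρ (subRep ρ L S hS)) := hd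
        _ < finrank ℂ S * (H.index * finrank ℂ (homInto ρ (subRep ρ L S hS) W)) :=
          Nat.mul_lt_mul_of_pos_left h2 hSpos
        _ = H.index * (finrank ℂ S * finrank ℂ (homInto ρ (subRep ρ L S hS) W)) := by ring
        _ ≤ H.index * finrank ℂ W := Nat.mul_le_mul_left _ h5
        _ ≤ finrank ℂ V := hle
    exact lt_irrefl _ h6
  obtain ⟨c, hc⟩ := eq_smul_of_finrank_one hdim (subRep ρ L S hS ⟨l, hl⟩)
  exact ⟨c, scalar_of_scalar_sub ρ L S hS hdot ⟨l, hl⟩ c hc⟩

/-- Scalar elements are in the core of a maximal subgroup with a stable subspace. -/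
theorem mem_core_of_scalar (ρ : Representation ℂ G V)
    (hρ : ρ.IsIrreducible) (H : Subgroup G) (hH : IsCoatom H) (W : Submodule ℂ V) (hW : W ≠ ⊥)
    (hWt : W ≠ ⊤) (hs : Stable ρ H W) (g : G) (hg : ∃ c : ℂ, ρ g = c • (1 : V →ₗ[ℂ] V)) :
    g ∈ H.normalCore := by
  obtain ⟨c, hc⟩ := hg
  let St : Subgroup G :=
    { carrier := {x | (∀ w ∈ W, ρ x w ∈ W) ∧ ∀ w ∈ W, ρ x⁻¹ w ∈ W}
      one_mem' := by simp
      mul_mem' := by
        rintro a b ⟨ha, ha'⟩ ⟨hb, hb'⟩
        refine ⟨fun w hw => ?_, fun w hw => ?_⟩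
        · rw [← rep_apply_apply]
          exact ha _ (hb w hw)
        · rw [mul_inv_rev, ← rep_apply_apply]
          exact hb' _ (ha' w hw)
      inv_mem' := by
        rintro a ⟨ha, ha'⟩
        refine ⟨ha', ?_⟩
        rw [inv_inv]
        exact ha }
  have hHS : H ≤ St := fun x hx => ⟨hs x hx, hs x⁻¹ (H.inv_mem hx)⟩
  have hSt : St ≠ ⊤ := by
    intro h
    rcases ((isIrreducible_iff ρ).1 hρ).2 W (fun x w hw => by
      have : x ∈ St := by rw [h]; trivial
      exact this.1 w hw) with h1 | h1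
    · exact hW h1
    · exact hWt h1
  have hHS' : H = St := by
    by_contra h
    exact hSt (hH.2 St (lt_of_le_of_ne hHS h))
  intro b
  rw [hHS']
  have hconj : ∀ x : G, ρ (b * x * b⁻¹) = ρ b * ρ x * ρ b⁻¹ := by
    intro x
    rw [map_mul, map_mul]
  have hone : ρ b * ρ b⁻¹ = 1 := by rw [← map_mul, mul_inv_cancel, map_one]
  have h1 : ρ (b * g * b⁻¹) = c • (1 : V →ₗ[ℂ] V) := by
    rw [hconj, hc, mul_smul_comm, mul_one, smul_mul_assoc, hone]
  have hnt : Nontrivial V := ((isIrreducible_iff ρ).1 hρ).1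
  have hc0 : c ≠ 0 := by
    rintro rfl
    rw [zero_smul] at h1
    have h2 : ρ (b * g * b⁻¹) * ρ (b * g * b⁻¹)⁻¹ = 1 := by
      rw [← map_mul, mul_inv_cancel, map_one]
    rw [h1, zero_mul] at h2
    exact zero_ne_one h2
  refine ⟨fun w hw => ?_, fun w hw => ?_⟩
  · rw [h1]
    exact W.smul_mem c hw
  · have h3 : ρ (b * g * b⁻¹)⁻¹ = c⁻¹ • (1 : V →ₗ[ℂ] V) := by
      have h2 : ρ (b * g * b⁻¹)⁻¹ * ρ (b * g * b⁻¹) = 1 := by
        rw [← map_mul, inv_mul_cancel, map_one]
      rw [h1, mul_smul_comm, mul_one] at h2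
      rw [← h2, smul_smul, inv_mul_cancel₀ hc0, one_smul]
    rw [h3]
    exact W.smul_mem _ hw

/-- Equivariant projection onto a stable subspace. -/
theorem exists_proj [Finite G] (ρ : Representation ℂ G V) (H : Subgroup G) (W : Submodule ℂ V)
    (hs : Stable ρ H W) :
    ∃ π : V →ₗ[ℂ] W, (∀ w : W, π w = w) ∧ ∀ h ∈ H, ∀ v, ((π (ρ h v) : W) : V) = ρ h (π v) := by
  let ρH : Representation ℂ H V := ρ.comp H.subtype
  let U : Subrepresentation ρH := ⟨W, fun h w hw => hs h h.2 w hw⟩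
  obtain ⟨U', hU'⟩ := Cfsg.Agent.Characters.Core.exists_isCompl_sub U
  have hc : IsCompl W U'.toSubmodule := hU'
  refine ⟨W.projectionOnto U'.toSubmodule hc, fun w => ?_, fun h hh v => ?_⟩
  · exact Submodule.projectionOnto_apply_left hc w
  · obtain ⟨⟨w, u⟩, rfl⟩ := (Submodule.prodEquivOfIsCompl W U'.toSubmodule hc).surjective v
    have h1 : (Submodule.prodEquivOfIsCompl W U'.toSubmodule hc) (w, u) = (w : V) + u := rfl
    have h2 : ρ h u ∈ U'.toSubmodule := U'.apply_mem_toSubmodule ⟨h, hh⟩ u.2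
    have h3 : ρ h w ∈ W := hs h hh w w.2
    have e1 : W.projectionOnto U'.toSubmodule hc (u : V) = 0 :=
      Submodule.projectionOnto_apply_right hc u
    have e2 : W.projectionOnto U'.toSubmodule hc (ρ h u) = 0 :=
      Submodule.projectionOnto_apply_right hc ⟨_, h2⟩
    have e3 : W.projectionOnto U'.toSubmodule hc (w : V) = w :=
      Submodule.projectionOnto_apply_left hc w
    have e4 : W.projectionOnto U'.toSubmodule hc (ρ h w) = ⟨_, h3⟩ :=
      Submodule.projectionOnto_apply_left hc ⟨_, h3⟩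
    rw [h1, map_add, map_add, map_add, e1, e2, e3, e4, add_zero, add_zero]

/-- Elements `(n, σ n)` act trivially on `Hom_N(S, V)`. -/
theorem homRep_sec (ρ : Representation ℂ G V) (N : Subgroup G)
    [hN : N.Normal] {S : Type} [AddCommGroup S] [Module ℂ S] (σ : Representation ℂ N S)
    (Δ : Subgroup (G × (S →ₗ[ℂ] S)ˣ)) (hΔ : Δ ≤ intGroup σ) (n : N) (hn : sec σ n ∈ Δ) :
    homRep ρ σ Δ hΔ ⟨sec σ n, hn⟩ = 1 := by
  apply LinearMap.ext
  intro f
  apply Subtype.ext
  apply LinearMap.ext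
  intro s
  have h1 : σ n (σ n⁻¹ s) = s := by
    rw [rep_apply_apply, mul_inv_cancel, map_one]
    rfl
  have h2 := homRep_apply_opr ρ σ Δ hΔ ⟨sec σ n, hn⟩ f (σ n⁻¹ s)
  have h3 : (opr Δ ⟨sec σ n, hn⟩ : S →ₗ[ℂ] S) (σ n⁻¹ s) = s := h1
  rw [h3] at h2
  rw [h2]
  have h4 := LinearMap.congr_fun ((mem_homSpace ρ σ _).1 f.2 n) (σ n⁻¹ s)
  rw [LinearMap.comp_apply, LinearMap.comp_apply, h1] at h4
  exact h4.symm

/-- The subgroup of elements acting by scalars. -/
def scalarSub {G V : Type*} [Group G] [AddCommGroup V] [Module ℂ V]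
    (ρ : Representation ℂ G V) : Subgroup G where
  carrier := {g | ∃ c : ℂ, ρ g = c • (1 : V →ₗ[ℂ] V)}
  one_mem' := ⟨1, by rw [map_one, one_smul]⟩
  mul_mem' := by
    rintro a b ⟨c, hc⟩ ⟨d, hd⟩
    exact ⟨c * d, by rw [map_mul, hc, hd, smul_mul_assoc, one_mul, smul_smul]⟩
  inv_mem' := by
    rintro a ⟨c, hc⟩
    have h2 : ρ a⁻¹ * ρ a = 1 := by rw [← map_mul, inv_mul_cancel, map_one]
    rw [hc, mul_smul_comm, mul_one] at h2
    by_cases hc0 : c = 0
    · refine ⟨0, ?_⟩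
      rw [hc0, zero_smul] at h2
      rw [zero_smul, ← mul_one (ρ a⁻¹), ← h2, mul_zero]
    · exact ⟨c⁻¹, by rw [← h2, smul_smul, inv_mul_cancel₀ hc0, one_smul]⟩

theorem mem_scalarSub {G V : Type*} [Group G] [AddCommGroup V] [Module ℂ V]
    (ρ : Representation ℂ G V) (g : G) :
    g ∈ scalarSub ρ ↔ ∃ c : ℂ, ρ g = c • (1 : V →ₗ[ℂ] V) := Iff.rfl

theorem main_step [Finite G] [hsol : Group.IsSolvable G] (ρ : Representation ℂ G V)
    (hρ : ρ.IsIrreducible)
    (hhom : ∀ N : Subgroup G, N.Normal → Homog ρ N) (ih : IH.{u} (finrank ℂ V))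
    (H : Subgroup G) (hH : IsCoatom H) (W : Submodule ℂ V) (hW : W ≠ ⊥) (hs : Stable ρ H W)
    (hle : H.index * finrank ℂ W ≤ finrank ℂ V) : False := by
  have hnt : Nontrivial V := ((isIrreducible_iff ρ).1 hρ).1
  have hWpos : 0 < finrank ℂ W := by
    have := (Submodule.nontrivial_iff_ne_bot).2 hW
    exact finrank_pos
  have hVpos : 0 < finrank ℂ V := finrank_pos
  have hHidx : H.index ≠ 1 := fun h => hH.1 (Subgroup.index_eq_one.1 h)
  have hHidx0 : H.index ≠ 0 := Subgroup.FiniteIndex.index_ne_zero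
  have hWt : W ≠ ⊤ := by
    rintro rfl
    rw [finrank_top] at hle
    have : H.index ≤ 1 := Nat.le_of_mul_le_mul_right (by rwa [one_mul]) hVpos
    omega
  have hLsc := core_scalar ρ hρ hhom ih H hH.1 W hW hs hle
  have hscL := mem_core_of_scalar ρ hρ H hH W hW hWt hs
  obtain ⟨p, M, hp, hMn, hLM, hMcomm, ⟨k, hk⟩, hidx, hfact, hUeq, hUex⟩ :=
    Cfsg.Agent.CharactersDeep.BergerGroup.exists_setup H hH
  set L := H.normalCore with hL
  obtain ⟨T, hT, -, hσ⟩ := exists_simple_sub ρ M (W := ⊤) top_ne_bot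
    (fun _ _ _ _ => Submodule.mem_top)
  obtain ⟨Δ, hfin, hΔ, hsurj, hsec, hker⟩ := exists_cover ρ M (hhom M hMn) T hT hσ
  have hne := homSpace_ne_bot ρ M T hT hσ
  have hscT := scalar_of_scalar_sub ρ M T hT
  have hrestr : ∀ (m : M) (c : ℂ), ρ m = c • (1 : V →ₗ[ℂ] V) →
      subRep ρ M T hT m = c • (1 : T →ₗ[ℂ] T) := by
    intro m c h
    ext t
    rw [subRep_apply, h]
    rfl
  set σ := subRep ρ M T hT with hσdef
  have hdot := dot_homSpace ρ hρ σ Δ hΔ hsurj hne
  have hd := finrank_eq_mul ρ hρ σ hσ Δ hΔ hsurj hne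
  have hirr := homRep_isIrreducible ρ hρ σ hσ Δ hΔ hsurj hne
  have hTnt : Nontrivial T := ((isIrreducible_iff _).1 hσ).1
  have hTpos : 0 < finrank ℂ T := finrank_pos
  -- the index of `L` in `M` is the square of the degree
  have hsq : L.relIndex M = finrank ℂ T ^ 2 := by
    apply index_eq_sq σ hσ (L.subgroupOf M)
    · intro z hz
      obtain ⟨c, hc⟩ := hLsc z (Subgroup.mem_subgroupOf.1 hz)
      exact ⟨c, hrestr z c hc⟩
    · intro m hm
      rw [Subgroup.mem_subgroupOf] at hm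
      by_cases hex : ∀ x : M, σ m * σ x = σ x * σ m
      · exfalso
        obtain ⟨c, hc⟩ := exists_smul_of_commute σ hσ (σ m) hex
        exact hm (hscL m ⟨c, hscT hdot m c hc⟩)
      · push Not at hex
        obtain ⟨x, hx⟩ := hex
        obtain ⟨c, hc⟩ := hLsc _ (hMcomm m m.2 x x.2)
        exact trace_eq_zero σ (hrestr (m * x * m⁻¹ * x⁻¹) c hc) hx
  have hT1 : 1 < finrank ℂ T := by
    by_contra hcon
    have h1 : finrank ℂ T = 1 := by omega
    rw [h1, one_pow, Subgroup.relIndex_eq_one] at hsq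
    exact absurd hsq (not_le_of_gt hLM)
  have hprim := reduce ρ hρ hhom ih M T hT hσ hT1 Δ hΔ hsurj hker
  have hdim1 : finrank ℂ T * finrank ℂ W ≤ finrank ℂ (homSpace ρ σ) := by
    rw [← hidx, hsq, hd, pow_two, mul_assoc] at hle
    exact Nat.le_of_mul_le_mul_left hle hTpos
  -- the map `f ↦ π ∘ f`
  obtain ⟨π, hπ, hπH⟩ := exists_proj ρ H W hs
  let Ψ : homSpace ρ σ →ₗ[ℂ] (T →ₗ[ℂ] W) :=
    { toFun := fun f => π ∘ₗ (f : T →ₗ[ℂ] V)
      map_add' := by
        intro f g
        ext t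
        simp
      map_smul' := by
        intro c f
        ext t
        simp }
  have hΨ : ∀ (f : homSpace ρ σ) (t : T), Ψ f t = π ((f : T →ₗ[ℂ] V) t) := fun _ _ => rfl
  have hkey : ∀ (z : Δ), proj Δ z ∈ H → ∀ (f : homSpace ρ σ) (t : T),
      ((Ψ (homRep ρ σ Δ hΔ z f) ((opr Δ z : T →ₗ[ℂ] T) t) : W) : V) =
        ρ (proj Δ z) (Ψ f t : W) := by
    intro z hz f t
    rw [hΨ, homRep_apply_opr, hπH _ hz, hΨ]
  have hdecomp : ∀ x : Δ, ∃ (n : M) (z : Δ), proj Δ z ∈ H ∧ x = ⟨sec σ n, hsec n⟩ * z ∧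
      homRep ρ σ Δ hΔ x = homRep ρ σ Δ hΔ z := by
    intro x
    obtain ⟨m, hm, h, hh, hmh⟩ := hfact (proj Δ x)
    have hx : x = (⟨sec σ ⟨m, hm⟩, hsec _⟩ : Δ) * ((⟨sec σ ⟨m, hm⟩, hsec _⟩ : Δ)⁻¹ * x) := by
      rw [mul_inv_cancel_left]
    refine ⟨⟨m, hm⟩, (⟨sec σ ⟨m, hm⟩, hsec _⟩ : Δ)⁻¹ * x, ?_, hx, ?_⟩
    · rw [map_mul, map_inv, hmh]
      have : proj Δ ⟨sec σ ⟨m, hm⟩, hsec _⟩ = m := rfl
      rw [this, inv_mul_cancel_left]
      exact hh
    · conv_lhs => rw [hx]
      rw [map_mul, homRep_sec, one_mul]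
  have hoprsurj : ∀ (z : Δ) (t : T), ∃ t', (opr Δ z : T →ₗ[ℂ] T) t' = t := by
    intro z t
    refine ⟨(((opr Δ z)⁻¹ : (T →ₗ[ℂ] T)ˣ) : T →ₗ[ℂ] T) t, ?_⟩
    rw [← Module.End.mul_apply, Units.mul_inv]
    rfl
  have hΨinj : Function.Injective Ψ := by
    rw [← LinearMap.ker_eq_bot]
    rcases ((isIrreducible_iff _).1 hirr).2 (LinearMap.ker Ψ) (fun x f hf => by
      obtain ⟨n, z, hz, hx, hxz⟩ := hdecomp x
      rw [hxz]
      rw [LinearMap.mem_ker] at hf ⊢
      ext t
      obtain ⟨t', rfl⟩ := hoprsurj z t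
      rw [hkey z hz f t', hf]
      simp) with h | h
    · exact h
    · exfalso
      apply hW
      have h1 : ∀ v : V, π v = 0 := by
        intro v
        have hv : v ∈ dot (homSpace ρ σ) := by rw [hdot]; trivial
        induction hv using Submodule.span_induction with
        | mem v hv =>
          obtain ⟨f, hf, s, rfl⟩ := hv
          have h2 : (⟨f, hf⟩ : homSpace ρ σ) ∈ LinearMap.ker Ψ := by rw [h]; trivial
          rw [LinearMap.mem_ker] at h2
          exact LinearMap.congr_fun h2 s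
        | zero => rw [map_zero]
        | add a b _ _ ha hb => rw [map_add, ha, hb, add_zero]
        | smul d a _ ha => rw [map_smul, ha, smul_zero]
      rw [eq_bot_iff]
      intro w hw
      have h2 := hπ ⟨w, hw⟩
      rw [h1] at h2
      rw [Submodule.mem_bot]
      exact (congrArg Subtype.val h2).symm
  have hfr : finrank ℂ (T →ₗ[ℂ] W) = finrank ℂ T * finrank ℂ W := Module.finrank_linearMap ..
  have hdim2 : finrank ℂ (homSpace ρ σ) = finrank ℂ (T →ₗ[ℂ] W) := by
    apply le_antisymm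
    · exact LinearMap.finrank_le_finrank_of_injective hΨinj
    · rw [hfr]
      exact hdim1
  have hΨsurj : Function.Surjective Ψ :=
    (LinearMap.injective_iff_surjective_of_finrank_eq_finrank hdim2).1 hΨinj
  let E : homSpace ρ σ ≃ₗ[ℂ] (T →ₗ[ℂ] W) := LinearEquiv.ofBijective Ψ ⟨hΨinj, hΨsurj⟩
  have hE : ∀ f, E f = Ψ f := fun _ => rfl
  -- `H` is not its own core
  have hHL : H ≠ L := by
    intro h
    have hM : ∀ g : G, g ∈ M := by
      intro g
      obtain ⟨m, hm, h', hh', rfl⟩ := hfact g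
      rw [h] at hh'
      exact M.mul_mem hm (hLM.le hh')
    have hTt : T = ⊤ := by
      rcases ((isIrreducible_iff ρ).1 hρ).2 T (fun g v hv => hT g (hM g) v hv) with h | h
      · exfalso
        exact (Submodule.nontrivial_iff_ne_bot.1 hTnt) h
      · exact h
    have h1 : finrank ℂ T = finrank ℂ V := by rw [hTt, finrank_top]
    rw [← h1] at hd
    have h2 : finrank ℂ (homSpace ρ σ) = 1 := by
      have : finrank ℂ T * finrank ℂ (homSpace ρ σ) = finrank ℂ T * 1 := by
        rw [mul_one]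
        exact hd.symm
      exact Nat.eq_of_mul_eq_mul_left hTpos this
    rw [h2] at hdim1
    have h3 : finrank ℂ T * 1 ≤ finrank ℂ T * finrank ℂ W := Nat.mul_le_mul_left _ hWpos
    omega
  obtain ⟨q, U, hq, hqp, hLU, hUH, hHU, hUcomm, k', hk'⟩ := hUex hHL
  -- the commuting family
  let C : Type _ := {c : Δ // proj Δ c ∈ U ∧ ∀ u : Δ, proj Δ u ∈ U →
    (opr Δ c : T →ₗ[ℂ] T) * opr Δ u = opr Δ u * opr Δ c}
  let R : C → homSpace ρ σ →ₗ[ℂ] homSpace ρ σ := fun c =>
    E.symm.toLinearMap ∘ₗ (LinearMap.lcomp ℂ W (opr Δ c.1 : T →ₗ[ℂ] T)) ∘ₗ E.toLinearMap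
  have hR : ∀ (c : C) (f : homSpace ρ σ) (t : T),
      Ψ (R c f) t = Ψ f ((opr Δ c.1 : T →ₗ[ℂ] T) t) := by
    intro c f t
    have : E (R c f) = (LinearMap.lcomp ℂ W (opr Δ c.1 : T →ₗ[ℂ] T)) (E f) := by
      show E (E.symm _) = _
      rw [LinearEquiv.apply_symm_apply]
      rfl
    rw [hE, hE] at this
    rw [this]
    rfl
  have hcomm : ∀ c d, R c * R d = R d * R c := by
    intro c d
    apply LinearMap.ext
    intro f
    apply hΨinj
    ext t
    rw [Module.End.mul_apply, Module.End.mul_apply, hR, hR, hR, hR]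
    have h1 := c.2.2 d.1 d.2.1
    have h2 := LinearMap.congr_fun h1 t
    rw [Module.End.mul_apply, Module.End.mul_apply] at h2
    rw [h2]
  have hconj : ∀ (x : Δ) (c : C), ∃ d : C, homRep ρ σ Δ hΔ x * R c = R d * homRep ρ σ Δ hΔ x := by
    intro x c
    obtain ⟨n, z, hz, hx, hxz⟩ := hdecomp x
    rw [hxz]
    refine ⟨⟨z * c.1 * z⁻¹, ?_, ?_⟩, ?_⟩
    · rw [map_mul, map_mul, map_inv]
      exact hHU _ hz _ c.2.1
    · intro u hu
      have hu' : proj Δ (z⁻¹ * u * z) ∈ U := by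
        have := hHU _ (H.inv_mem hz) _ hu
        rw [inv_inv] at this
        rw [map_mul, map_mul, map_inv]
        exact this
      have h1 := c.2.2 _ hu'
      have h2 : opr Δ c.1 * opr Δ (z⁻¹ * u * z) = opr Δ (z⁻¹ * u * z) * opr Δ c.1 :=
        Units.ext h1
      have h3 : opr Δ (z * c.1 * z⁻¹) * opr Δ u = opr Δ u * opr Δ (z * c.1 * z⁻¹) := by
        have e1 : z * c.1 * z⁻¹ * u = z * (c.1 * (z⁻¹ * u * z)) * z⁻¹ := by group
        have e2 : u * (z * c.1 * z⁻¹) = z * ((z⁻¹ * u * z) * c.1) * z⁻¹ := by group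
        rw [← map_mul, ← map_mul, e1, e2, map_mul, map_mul, map_mul _ c.1, h2, map_mul _ _ z⁻¹,
          map_mul _ z, map_mul _ _ c.1]
      exact congrArg Units.val h3
    · apply LinearMap.ext
      intro f
      apply hΨinj
      ext t
      obtain ⟨t', rfl⟩ := hoprsurj z t
      rw [Module.End.mul_apply, Module.End.mul_apply, hkey z hz, hR, hR]
      have h4 : (opr Δ (z * c.1 * z⁻¹) : T →ₗ[ℂ] T) ((opr Δ z : T →ₗ[ℂ] T) t') =
          (opr Δ z : T →ₗ[ℂ] T) ((opr Δ c.1 : T →ₗ[ℂ] T) t') := by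
        have e1 : opr Δ (z * c.1 * z⁻¹) * opr Δ z = opr Δ z * opr Δ c.1 := by
          rw [← map_mul, ← map_mul, inv_mul_cancel_right]
        have e2 := congrArg (fun A : (T →ₗ[ℂ] T)ˣ => (A : T →ₗ[ℂ] T) t') e1
        exact e2
      rw [h4, hkey z hz]
  have hCsc : ∀ c : C, ∃ z : ℂ, R c = z • (1 : homSpace ρ σ →ₗ[ℂ] homSpace ρ σ) := by
    rcases Cfsg.Agent.CharactersDeep.BergerCA.scalar_or_imprimitive (homRep ρ σ Δ hΔ) hirr R
      hcomm hconj with h | ⟨J, W₁, hJ, hW₁, hs₁, hle₁⟩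
    · exact h
    · exfalso
      exact absurd (hprim J W₁ hJ hW₁ hs₁) (not_lt_of_ge hle₁)
  have hCsc' : ∀ c : C, ∃ z : ℂ, (opr Δ c.1 : T →ₗ[ℂ] T) = z • (1 : T →ₗ[ℂ] T) := by
    intro c
    obtain ⟨z, hz⟩ := hCsc c
    refine ⟨z, ?_⟩
    obtain ⟨w, hw, hw0⟩ := (Submodule.ne_bot_iff _).1 hW
    apply LinearMap.ext
    intro t
    rw [← sub_eq_zero, ← Module.forall_dual_apply_eq_zero_iff ℂ]
    intro φ
    let F : T →ₗ[ℂ] W := φ.smulRight (⟨w, hw⟩ : W)
    obtain ⟨f, hf⟩ := hΨsurj F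
    have h1 := hR c f t
    rw [hz, LinearMap.smul_apply, Module.End.one_apply, map_smul, LinearMap.smul_apply, hf] at h1
    have h2 : z • (φ t • (⟨w, hw⟩ : W)) = φ ((opr Δ c.1 : T →ₗ[ℂ] T) t) • (⟨w, hw⟩ : W) := h1
    have h3 : (φ ((opr Δ c.1 : T →ₗ[ℂ] T) t) - z * φ t) • (⟨w, hw⟩ : W) = 0 := by
      rw [sub_smul, ← h2, smul_smul, sub_self]
    rcases smul_eq_zero.1 h3 with h4 | h4
    · rw [map_sub, LinearMap.smul_apply, Module.End.one_apply, map_smul, smul_eq_mul]
      exact h4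
    · exact absurd (congrArg Subtype.val h4) hw0
  -- elements over `L` act by scalars on `T`
  have hoverL : ∀ x : Δ, proj Δ x ∈ L → ∃ c : ℂ, (opr Δ x : T →ₗ[ℂ] T) = c • (1 : T →ₗ[ℂ] T) := by
    intro x hx
    apply exists_smul_of_commute σ hσ
    intro n
    have h1 := (mem_intGroup σ _).1 (hΔ x.2) n
    obtain ⟨c, hc⟩ := hLsc _ hx
    have h2 : σ (MulAut.conjNormal x.1.1 n) = σ n := by
      ext t
      rw [subRep_apply, subRep_apply, MulAut.conjNormal_apply]
      have h3 : ρ (x.1.1 * n * (x.1.1)⁻¹) = ρ n := by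
        have h4 : ρ x.1.1 = c • (1 : V →ₗ[ℂ] V) := hc
        have h5 : ρ x.1.1 * ρ (x.1.1)⁻¹ = 1 := by rw [← map_mul, mul_inv_cancel, map_one]
        rw [h4, smul_mul_assoc, one_mul] at h5
        rw [map_mul, map_mul, h4, smul_mul_assoc, one_mul, smul_mul_assoc, ← mul_smul_comm, h5,
          mul_one]
      rw [h3]
    rw [h2] at h1
    exact h1
  -- the group over `U` acts by scalars on `T`
  let Û : Subgroup Δ := U.comap (proj Δ)
  let τ : Representation ℂ Û T := (coverRep Δ).comp Û.subtype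
  have hτ : ∀ u : Û, τ u = (opr Δ u.1 : T →ₗ[ℂ] T) := fun _ => rfl
  have htr : ∀ u : Û, u ∉ scalarSub τ → LinearMap.trace ℂ T (τ u) = 0 := by
    intro u hu
    have h1 : ∃ v : Û, τ u * τ v ≠ τ v * τ u := by
      by_contra hcon
      push Not at hcon
      apply hu
      exact hCsc' ⟨u.1, u.2, fun v hv => hcon ⟨v, hv⟩⟩
    obtain ⟨v, hv⟩ := h1
    have h2 : proj Δ (u * v * u⁻¹ * v⁻¹ : Û) ∈ L := hUcomm _ u.2 _ v.2
    obtain ⟨c, hc⟩ := hoverL _ h2
    exact trace_eq_zero τ (c := c) hc hv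
  have hdvd1 : (scalarSub τ).index ∣ finrank ℂ T ^ 2 :=
    index_dvd_sq τ hTpos (scalarSub τ) (fun z hz => hz) htr
  have hdvd2 : (scalarSub τ).index ∣ L.relIndex U := by
    have h1 : (L.comap (proj Δ)).subgroupOf Û ≤ scalarSub τ := by
      intro u hu
      exact hoverL _ (Subgroup.mem_subgroupOf.1 hu)
    have h2 := Subgroup.index_dvd_of_le h1
    have h3 : ((L.comap (proj Δ)).subgroupOf Û).index = L.relIndex U := by
      show (L.comap (proj Δ)).relIndex Û = _
      rw [Subgroup.relIndex_comap, Subgroup.map_comap_eq_self_of_surjective hsurj]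
    rwa [h3] at h2
  have hone : (scalarSub τ).index = 1 := by
    rw [← hsq, hk] at hdvd1
    rw [hk'] at hdvd2
    have hcop : Nat.Coprime (p ^ k) (q ^ k') :=
      Nat.Coprime.pow k k' ((Nat.coprime_primes hp hq).2 hqp.symm)
    have := Nat.dvd_gcd hdvd1 hdvd2
    rw [hcop] at this
    exact Nat.dvd_one.1 this
  have hall : ∀ u : Û, ∃ c : ℂ, τ u = c • (1 : T →ₗ[ℂ] T) := by
    intro u
    have : u ∈ scalarSub τ := by
      rw [Subgroup.index_eq_one.1 hone]
      trivial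
    exact this
  -- conclusion
  have hUL : U = L := by
    apply hUeq U hUH hHU hLU.le
    intro m hm u hu
    obtain ⟨x, hx⟩ := hsurj u
    have hxU : x ∈ Û := by
      show proj Δ x ∈ U
      rw [hx]
      exact hu
    obtain ⟨c, hc⟩ := hall ⟨x, hxU⟩
    have hc' : (opr Δ x : T →ₗ[ℂ] T) = c • (1 : T →ₗ[ℂ] T) := hc
    have h1 : (opr Δ x : T →ₗ[ℂ] T) * σ ⟨m, hm⟩ =
        σ (MulAut.conjNormal (proj Δ x) ⟨m, hm⟩) * opr Δ x := (mem_intGroup σ _).1 (hΔ x.2) _
    have hc0 : c ≠ 0 := by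
      rintro rfl
      have h2 : (opr Δ x : T →ₗ[ℂ] T) * (((opr Δ x)⁻¹ : (T →ₗ[ℂ] T)ˣ) : T →ₗ[ℂ] T) = 1 :=
        Units.mul_inv _
      rw [hc', zero_smul, zero_mul] at h2
      exact zero_ne_one h2
    rw [hc', smul_mul_assoc, one_mul, mul_smul_comm, mul_one, hx] at h1
    have h2 : σ ⟨m, hm⟩ = σ (MulAut.conjNormal u ⟨m, hm⟩) := smul_right_injective _ hc0 h1
    have h3 : σ (⟨m, hm⟩ * (MulAut.conjNormal u ⟨m, hm⟩)⁻¹) = 1 := by
      rw [map_mul, h2, ← map_mul, mul_inv_cancel, map_one]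
    have h4 : ρ ((⟨m, hm⟩ * (MulAut.conjNormal u ⟨m, hm⟩)⁻¹ : M) : G) = (1 : ℂ) • 1 :=
      hscT hdot _ 1 (by rw [h3, one_smul])
    have h5 : ((⟨m, hm⟩ * (MulAut.conjNormal u ⟨m, hm⟩)⁻¹ : M) : G) = m * u * m⁻¹ * u⁻¹ := by
      rw [Subgroup.coe_mul, Subgroup.coe_inv, MulAut.conjNormal_apply]
      group
    rw [h5] at h4
    exact hscL _ ⟨1, h4⟩
  exact absurd hUL hLU.ne'

end Reduce

universe u

/-- **Berger's theorem** at the level of representations: a quasi-primitive irreducible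
representation of a finite solvable group is primitive. -/
theorem primitive_of_homog (d : ℕ) : ∀ (G : Type u) [Group G] [Finite G] [Group.IsSolvable G]
    (V : Type) [AddCommGroup V] [Module ℂ V] [FiniteDimensional ℂ V] (ρ : Representation ℂ G V),
    finrank ℂ V = d → ρ.IsIrreducible → (∀ N : Subgroup G, N.Normal → Homog ρ N) →
    Primitive ρ := by
  induction d using Nat.strong_induction_on with
  | _ d ih =>
    intro G _ _ _ V _ _ _ ρ hd hρ hhom
    have hIH : IH.{u} (finrank ℂ V) := by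
      intro G' _ _ _ V' _ _ _ ρ' hlt hρ' hhom'
      exact ih (finrank ℂ V') (hd ▸ hlt) G' V' ρ' rfl hρ' hhom'
    intro H W hH hW hs
    by_contra hcon
    rw [not_lt] at hcon
    obtain ⟨H', hH', hHH'⟩ : ∃ H' : Subgroup G, IsCoatom H' ∧ H ≤ H' := by
      rcases eq_top_or_exists_le_coatom H with h | h
      · exact absurd h hH
      · exact h
    obtain ⟨W', hWW', hs', hfin⟩ := exists_stable_extend ρ hHH' hs
    refine main_step ρ hρ hhom hIH H' hH' W' ?_ hs' ?_
    · intro h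
      apply hW
      rw [h] at hWW'
      exact le_bot_iff.1 hWW'
    · calc H'.index * finrank ℂ W' ≤ H'.index * (H.relIndex H' * finrank ℂ W) :=
            Nat.mul_le_mul_left _ hfin
        _ = (H.relIndex H' * H'.index) * finrank ℂ W := by ring
        _ = H.index * finrank ℂ W := by rw [Subgroup.relIndex_mul_index hHH']
        _ ≤ finrank ℂ V := hcon

end Cfsg.Agent.CharactersDeep.BergerMain
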