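import Mathlib

/-!
# The Carmichael presentation of the alternating group: the order bound

If `y 0, …, y (m-1)` are elements of a group with `(y i)^3 = 1` and `(y i * y j)^2 = 1` for
`i ≠ j`, then they generate a finite group of order at most `(m+2)!/2`.
-/

set_option autoImplicit false

namespace Cfsg.Agent.CharactersDeep.Carmichael

open Subgroup

variable {Q : Type*} [Group Q]

/-- The coset enumeration step. -/
theorem step (m : ℕ) (y : ℕ → Q) (h3 : ∀ i ≤ m, y i ^ 3 = 1)
    (h2 : ∀ i ≤ m, ∀ j ≤ m, i ≠ j → (y i * y j) ^ 2 = 1) (x : Q)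
    (hx : x ∈ closure (y '' Set.Iio (m + 1))) :
    x ∈ closure (y '' Set.Iio m) ∨ x * (y m)⁻¹ ∈ closure (y '' Set.Iio m) ∨
      x * y m ∈ closure (y '' Set.Iio m) ∨
      ∃ i < m, x * y i * (y m)⁻¹ ∈ closure (y '' Set.Iio m) := by
  set H := closure (y '' Set.Iio m) with hH
  have hyH : ∀ i < m, y i ∈ H := fun i hi => subset_closure ⟨i, hi, rfl⟩
  -- relations
  have t3 : y m * y m = (y m)⁻¹ := by
    have := h3 m le_rfl
    rw [pow_succ, pow_two] at this
    exact eq_inv_of_mul_eq_one_left this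
  have y3 : ∀ i ≤ m, y i * y i = (y i)⁻¹ := by
    intro i hi
    have := h3 i hi
    rw [pow_succ, pow_two] at this
    exact eq_inv_of_mul_eq_one_left this
  have r1 : ∀ i ≤ m, ∀ j ≤ m, i ≠ j → y i * y j = (y j)⁻¹ * (y i)⁻¹ := by
    intro i hi j hj hij
    have := h2 i hi j hj hij
    rw [pow_two] at this
    rw [← mul_inv_rev]
    exact eq_inv_of_mul_eq_one_left this
  -- `t⁻¹ = y_j t y_j`
  have r2 : ∀ j < m, (y m)⁻¹ = y j * y m * y j := by
    intro j hj
    have := r1 j hj.le m le_rfl hj.ne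
    rw [this]; group
  -- `t y_i⁻¹ t = y_i⁻¹ t y_i⁻¹`
  have r3 : ∀ i < m, y m * (y i)⁻¹ * y m = (y i)⁻¹ * y m * (y i)⁻¹ := by
    intro i hi
    have e1 : y m * y i = (y i)⁻¹ * (y m)⁻¹ := r1 m le_rfl i hi.le hi.ne'
    have e2 : y i * y m = (y m)⁻¹ * (y i)⁻¹ := r1 i hi.le m le_rfl hi.ne
    have e3 := y3 i hi.le
    -- u := t y⁻¹ ; u t⁻¹ = y u
    have e4 : y m * (y i)⁻¹ * (y m)⁻¹ = y i * (y m * (y i)⁻¹) := by
      calc y m * (y i)⁻¹ * (y m)⁻¹ = y m * ((y i)⁻¹ * (y m)⁻¹) := by group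
        _ = y m * (y m * y i) := by rw [← e1]
        _ = (y m * y m) * y i := by group
        _ = (y m)⁻¹ * y i := by rw [t3]
        _ = (y i * y m * y i) * y i := by rw [← r2 i hi]
        _ = y i * (y m * (y i * y i)) := by group
        _ = y i * (y m * (y i)⁻¹) := by rw [e3]
    calc y m * (y i)⁻¹ * y m = y m * (y i)⁻¹ * (y m)⁻¹ * (y m * y m) := by group
      _ = y i * (y m * (y i)⁻¹) * (y m)⁻¹ := by rw [e4, t3]
      _ = y i * (y m * (y i)⁻¹ * (y m)⁻¹) := by group
      _ = y i * (y i * (y m * (y i)⁻¹)) := by rw [e4]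
      _ = (y i * y i) * (y m * (y i)⁻¹) := by group
      _ = (y i)⁻¹ * y m * (y i)⁻¹ := by rw [e3]; group
  have key : ∀ j ≤ m, ∀ x : Q, (x ∈ H ∨ x * (y m)⁻¹ ∈ H ∨ x * y m ∈ H ∨
      ∃ i < m, x * y i * (y m)⁻¹ ∈ H) → (x * y j ∈ H ∨ x * y j * (y m)⁻¹ ∈ H ∨
      x * y j * y m ∈ H ∨ ∃ i < m, x * y j * y i * (y m)⁻¹ ∈ H) := by
    intro j hj x hx
    rcases hj.lt_or_eq with hj | hjm
    · rcases hx with hx | hx | hx | ⟨i, hi, hx⟩
      · exact Or.inl (H.mul_mem hx (hyH j hj))
      · right; right; left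
        have : x * y j * y m = x * (y m)⁻¹ * (y j)⁻¹ := by
          have e := r1 m le_rfl j hj.le hj.ne'
          have e' := r1 j hj.le m le_rfl hj.ne
          rw [mul_assoc, e', mul_assoc]
        rw [this]
        exact H.mul_mem hx (H.inv_mem (hyH j hj))
      · right; right; right
        refine ⟨j, hj, ?_⟩
        have : x * y j * y j * (y m)⁻¹ = x * y m * y j := by
          rw [mul_assoc x, y3 j hj.le, mul_assoc x, ← r1 m le_rfl j hj.le hj.ne', mul_assoc]
        rw [this]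
        exact H.mul_mem hx (hyH j hj)
      · by_cases hij : i = j
        · subst hij
          exact Or.inr (Or.inl hx)
        · right; right; right
          refine ⟨i, hi, ?_⟩
          -- x = h t y_i⁻¹,  x y_j y_i t⁻¹ = h y_i⁻¹ y_j
          have e1 : y m * (y i)⁻¹ = (y i)⁻¹ * (y m)⁻¹ * y i := by
            rw [← r1 m le_rfl i hi.le hi.ne', mul_assoc, y3 i hi.le]
          have e2 : (y j * y m)⁻¹ = y j * y m := by
            rw [mul_inv_rev, r1 j hj.le m le_rfl hj.ne]
          have : x * y j * y i * (y m)⁻¹ = (x * y i * (y m)⁻¹) * ((y i)⁻¹ * y j) := by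
            have h1 : y m * (y i)⁻¹ * y j = (y i)⁻¹ * y j * y m * (y i)⁻¹ := by
              calc y m * (y i)⁻¹ * y j = (y i)⁻¹ * (y m)⁻¹ * (y i * y j) := by rw [e1]; group
                _ = (y i)⁻¹ * (y m)⁻¹ * ((y j)⁻¹ * (y i)⁻¹) := by rw [r1 i hi.le j hj.le hij]
                _ = (y i)⁻¹ * (y j * y m)⁻¹ * (y i)⁻¹ := by group
                _ = (y i)⁻¹ * y j * y m * (y i)⁻¹ := by rw [e2]; group
            have h2 : x * y j = (x * y i * (y m)⁻¹) * (y m * (y i)⁻¹ * y j) := by group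
            rw [h2, h1]; group
          rw [this]
          exact H.mul_mem hx (H.mul_mem (H.inv_mem (hyH i hi)) (hyH j hj))
    · rw [hjm]
      rcases hx with hx | hx | hx | ⟨i, hi, hx⟩
      · right; left
        simpa using hx
      · right; right; left
        rw [mul_assoc x, t3]
        exact hx
      · exact Or.inl hx
      · right; right; right
        refine ⟨i, hi, ?_⟩
        have : x * y m * y i * (y m)⁻¹ = (x * y i * (y m)⁻¹) * (y i)⁻¹ := by
          have h2 : x * y m = (x * y i * (y m)⁻¹) * (y m * (y i)⁻¹ * y m) := by group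
          rw [h2, r3 i hi]; group
        rw [this]
        exact H.mul_mem hx (H.inv_mem (hyH i hi))
  induction hx using Subgroup.closure_induction_right with
  | one => exact Or.inl H.one_mem
  | mul_right x _ z hz ih =>
    obtain ⟨j, hj, rfl⟩ := hz
    exact key j (Nat.lt_succ_iff.1 hj) x ih
  | mul_inv_cancel x _ z hz ih =>
    obtain ⟨j, hj, rfl⟩ := hz
    have hj' := Nat.lt_succ_iff.1 hj
    have := key j hj' _ (key j hj' x ih)
    rw [mul_assoc, y3 j hj'] at this
    exact this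

/-- One step of the order bound. -/
theorem card_step (m : ℕ) (y : ℕ → Q) (h3 : ∀ i ≤ m, y i ^ 3 = 1)
    (h2 : ∀ i ≤ m, ∀ j ≤ m, i ≠ j → (y i * y j) ^ 2 = 1)
    (hfin : Finite (closure (y '' Set.Iio m))) :
    Finite (closure (y '' Set.Iio (m + 1))) ∧
      Nat.card (closure (y '' Set.Iio (m + 1))) ≤ (m + 3) * Nat.card (closure (y '' Set.Iio m)) := by
  classical
  set H := closure (y '' Set.Iio m) with hH
  let r : Fin 3 ⊕ Fin m → Q := Sum.elim ![1, y m, (y m)⁻¹] (fun i => y m * (y i)⁻¹)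
  let S : Set Q := (fun p : (Fin 3 ⊕ Fin m) × H => (p.2 : Q) * r p.1) '' Set.univ
  have hsub : ((closure (y '' Set.Iio (m + 1)) : Subgroup Q) : Set Q) ⊆ S := by
    intro x hx
    rcases step m y h3 h2 x hx with h | h | h | ⟨i, hi, h⟩
    · exact ⟨(Sum.inl 0, ⟨x, h⟩), trivial, by simp [r]⟩
    · exact ⟨(Sum.inl 1, ⟨_, h⟩), trivial, by simp [r]⟩
    · exact ⟨(Sum.inl 2, ⟨_, h⟩), trivial, by simp [r]⟩
    · exact ⟨(Sum.inr ⟨i, hi⟩, ⟨_, h⟩), trivial, by simp [r]⟩
  have hSfin : S.Finite := (Set.finite_univ).image _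
  have hfin' : Finite (closure (y '' Set.Iio (m + 1))) := (hSfin.subset hsub).to_subtype
  refine ⟨hfin', ?_⟩
  calc Nat.card (closure (y '' Set.Iio (m + 1))) = Set.ncard ((closure (y '' Set.Iio (m + 1)) :
        Subgroup Q) : Set Q) := rfl
    _ ≤ S.ncard := Set.ncard_le_ncard hsub hSfin
    _ ≤ (Set.univ : Set ((Fin 3 ⊕ Fin m) × H)).ncard := Set.ncard_image_le Set.finite_univ
    _ = (m + 3) * Nat.card H := by
      rw [Set.ncard_univ, Nat.card_prod]
      congr 1
      simp [add_comm]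

/-- **Carmichael bound**: elements `y 0, …, y (m-1)` with `(y i)^3 = 1`, `(y i * y j)^2 = 1`
generate a group of order at most `(m+2)!/2`. -/
theorem card_closure_le (m : ℕ) (y : ℕ → Q) (h3 : ∀ i < m, y i ^ 3 = 1)
    (h2 : ∀ i < m, ∀ j < m, i ≠ j → (y i * y j) ^ 2 = 1) :
    Finite (closure (y '' Set.Iio m)) ∧
      2 * Nat.card (closure (y '' Set.Iio m)) ≤ (m + 2).factorial := by
  induction m with
  | zero =>
    have h0 : closure (y '' Set.Iio 0) = ⊥ := by simp
    rw [h0]
    exact ⟨inferInstance, by simp⟩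
  | succ m ih =>
    obtain ⟨hf, hc⟩ := ih (fun i hi => h3 i (by omega))
      (fun i hi j hj => h2 i (by omega) j (by omega))
    obtain ⟨hf', hc'⟩ := card_step m y (fun i hi => h3 i (by omega))
      (fun i hi j hj => h2 i (by omega) j (by omega)) hf
    refine ⟨hf', ?_⟩
    have : (m + 1 + 2).factorial = (m + 3) * (m + 2).factorial := rfl
    rw [this]
    calc 2 * Nat.card (closure (y '' Set.Iio (m + 1)))
        ≤ 2 * ((m + 3) * Nat.card (closure (y '' Set.Iio m))) := Nat.mul_le_mul_left 2 hc'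
      _ = (m + 3) * (2 * Nat.card (closure (y '' Set.Iio m))) := by ring
      _ ≤ (m + 3) * (m + 2).factorial := Nat.mul_le_mul_left _ hc

/-- **Carmichael bound**, generating family indexed by `Fin m`. -/
theorem card_le_of_closure_eq_top (m : ℕ) (y : Fin m → Q) (h3 : ∀ i, y i ^ 3 = 1)
    (h2 : ∀ i j, i ≠ j → (y i * y j) ^ 2 = 1) (hgen : closure (Set.range y) = ⊤) :
    Finite Q ∧ 2 * Nat.card Q ≤ (m + 2).factorial := by
  classical
  let y' : ℕ → Q := fun i => if h : i < m then y ⟨i, h⟩ else 1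
  have hy' : y' '' Set.Iio m = Set.range y := by
    ext x
    constructor
    · rintro ⟨i, hi, rfl⟩
      have hi' : i < m := hi
      exact ⟨⟨i, hi'⟩, by simp [y', hi']⟩
    · rintro ⟨i, rfl⟩
      exact ⟨i, i.2, by simp [y']⟩
  obtain ⟨hf, hc⟩ := card_closure_le m y' (fun i hi => by simp [y', hi, h3])
    (fun i hi j hj hij => by
      simp only [y', hi, hj, dif_pos]
      exact h2 _ _ (by simpa using hij))
  rw [hy', hgen] at hf hc
  rw [Subgroup.card_top] at hc
  exact ⟨(Subgroup.topEquiv (G := Q)).toEquiv.finite_iff.1 hf, hc⟩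

end Cfsg.Agent.CharactersDeep.Carmichael
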