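import Mathlib
import Cfsg.Prelude.Def_Characters
import Cfsg.Agent.Characters.Core
import Cfsg.Agent.Characters.Clifford

/-!
# Clifford's theorem in `Finset` form and the orbit count
-/

set_option autoImplicit false

open scoped ComplexConjugate
open Cfsg

namespace Cfsg.Agent.CharactersDeep.CliffordSum

open Cfsg.Agent.Characters.Core Cfsg.Agent.Characters.Clifford

variable {G : Type*} [Group G]

theorem comp_conjNormal_mul (N : Subgroup G) [N.Normal] (φ : N → ℂ) (x y : G) :
    φ ∘ (MulAut.conjNormal (x * y) : MulAut N) =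
      (φ ∘ (MulAut.conjNormal x : MulAut N)) ∘ (MulAut.conjNormal y : MulAut N) := by
  rw [map_mul]
  rfl

theorem comp_conjNormal_eq_iff (N : Subgroup G) [N.Normal] (φ : N → ℂ) (x y : G) :
    φ ∘ (MulAut.conjNormal y : MulAut N) = φ ∘ (MulAut.conjNormal x : MulAut N) ↔
      φ ∘ (MulAut.conjNormal (y * x⁻¹) : MulAut N) = φ := by
  constructor
  · intro h
    rw [comp_conjNormal_mul, h, ← comp_conjNormal_mul, mul_inv_cancel, map_one]
    rfl
  · intro h
    have h2 := congrArg (fun f : N → ℂ => f ∘ (MulAut.conjNormal x : MulAut N)) h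
    rw [← comp_conjNormal_mul, inv_mul_cancel_right] at h2
    exact h2

/-- The orbit of a function under conjugation, times the order of the inertia group, is `|G|`. -/
theorem card_conj_mul_card [Fintype G] [DecidableEq G] (N : Subgroup G) [N.Normal]
    [DecidableEq (N → ℂ)] (φ : N → ℂ) (T : Subgroup G)
    (hT : ∀ g : G, g ∈ T ↔ φ ∘ (MulAut.conjNormal g : MulAut N) = φ) :
    (Finset.univ.image (fun x : G => φ ∘ (MulAut.conjNormal x : MulAut N))).card * Nat.card T =
      Nat.card G := by
  classical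
  have h := Finset.card_eq_sum_card_image
    (fun x : G => φ ∘ (MulAut.conjNormal x : MulAut N)) Finset.univ
  rw [Finset.card_univ, ← Nat.card_eq_fintype_card] at h
  rw [h, Finset.sum_const_nat (m := Nat.card T)]
  intro b hb
  obtain ⟨x, -, rfl⟩ := Finset.mem_image.1 hb
  have : (Finset.univ.filter (fun y : G => φ ∘ (MulAut.conjNormal y : MulAut N) =
      φ ∘ (MulAut.conjNormal x : MulAut N))) =
      (Finset.univ.filter (fun y : G => y ∈ T)).map
        ⟨fun t => t * x, mul_left_injective x⟩ := by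
    ext y
    rw [Finset.mem_filter, Finset.mem_map]
    constructor
    · rintro ⟨-, hy⟩
      refine ⟨y * x⁻¹, ?_, ?_⟩
      · rw [Finset.mem_filter]
        exact ⟨Finset.mem_univ _, (hT _).2 ((comp_conjNormal_eq_iff N φ x y).1 hy)⟩
      · show y * x⁻¹ * x = y
        rw [inv_mul_cancel_right]
    · rintro ⟨t, ht, rfl⟩
      refine ⟨Finset.mem_univ _, ?_⟩
      rw [Finset.mem_filter] at ht
      rw [comp_conjNormal_eq_iff]
      show φ ∘ (MulAut.conjNormal (t * x * x⁻¹) : MulAut N) = φ
      rw [mul_inv_cancel_right]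
      exact (hT _).1 ht.2
  rw [this, Finset.card_map, Nat.card_eq_fintype_card, Fintype.card_subtype]

/-- **Clifford's theorem**: the restriction is `e` times the sum of the distinct conjugates. -/
theorem restrict_eq_smul_sum [Fintype G] (N : Subgroup G) [N.Normal] [Fintype N]
    [DecidableEq (N → ℂ)] {θ : G → ℂ} (hθ : IsIrrCharacter G θ) {φ : N → ℂ}
    (hφ : IsIrrCharacter N φ) (he0 : classInner (fun n : N => θ n) φ ≠ 0) :
    (fun n : N => θ n) = classInner (fun n : N => θ n) φ •
      ∑ ψ ∈ Finset.univ.image (fun x : G => φ ∘ (MulAut.conjNormal x : MulAut N)), ψ := by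
  classical
  have : Finite (IrrCharacter N) := finite_irr (G := N)
  let : Fintype (IrrCharacter N) := Fintype.ofFinite _
  have hcl : IsClassFunction N (fun n : N => θ n) :=
    isCharacter_isClassFunction (isCharacter_restrict N (isIrr_isCharacter hθ))
  have hexp := classFunction_eq_sum hcl
  conv_lhs => rw [hexp]
  rw [Finset.smul_sum]
  set F := Finset.univ.image (fun x : G => φ ∘ (MulAut.conjNormal x : MulAut N)) with hF
  have hFirr : ∀ ψ ∈ F, IsIrrCharacter N ψ := by
    intro ψ hψ
    obtain ⟨x, -, rfl⟩ := Finset.mem_image.1 hψ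
    exact isIrr_conjNormal hφ x
  have hFinner : ∀ ψ ∈ F, classInner (fun n : N => θ n) ψ =
      classInner (fun n : N => θ n) φ := by
    intro ψ hψ
    obtain ⟨x, -, rfl⟩ := Finset.mem_image.1 hψ
    exact classInner_restrict_conjNormal (isIrr_isClassFunction hθ) φ x
  have hnotF : ∀ ψ : IrrCharacter N, (ψ : N → ℂ) ∉ F →
      classInner (fun n : N => θ n) (ψ : N → ℂ) = 0 := by
    intro ψ hψ
    by_contra hne
    obtain ⟨x, hx⟩ := exists_conj_of_constituents N hθ hφ ψ.2 he0 hne
    exact hψ (Finset.mem_image.2 ⟨x, Finset.mem_univ _, hx.symm⟩)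
  rw [← Finset.sum_filter_add_sum_filter_not Finset.univ
    (fun ψ : IrrCharacter N => (ψ : N → ℂ) ∈ F)]
  rw [Finset.sum_eq_zero (s := Finset.univ.filter
    (fun ψ : IrrCharacter N => ¬ (ψ : N → ℂ) ∈ F)), add_zero]
  · refine Finset.sum_bij (fun ψ _ => (ψ : N → ℂ)) ?_ ?_ ?_ ?_
    · intro ψ hψ
      exact (Finset.mem_filter.1 hψ).2
    · intro ψ _ ψ' _ h
      exact Subtype.ext h
    · intro ψ hψ
      exact ⟨⟨ψ, hFirr ψ hψ⟩, Finset.mem_filter.2 ⟨Finset.mem_univ _, hψ⟩, rfl⟩
    · intro ψ hψ
      rw [hFinner _ (Finset.mem_filter.1 hψ).2]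
  · intro ψ hψ
    rw [hnotF ψ (Finset.mem_filter.1 hψ).2, zero_smul]

/-- Norm of the restriction: `e² t`. -/
theorem classInner_restrict_self_eq [Fintype G] (N : Subgroup G) [N.Normal] [Fintype N]
    [DecidableEq (N → ℂ)] {θ : G → ℂ} (hθ : IsIrrCharacter G θ) {φ : N → ℂ}
    (hφ : IsIrrCharacter N φ) {e : ℕ} (he : classInner (fun n : N => θ n) φ = e) (he0 : e ≠ 0) :
    classInner (fun n : N => θ n) (fun n : N => θ n) = ((e ^ 2 *
      (Finset.univ.image (fun x : G => φ ∘ (MulAut.conjNormal x : MulAut N))).card : ℕ) : ℂ) := by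
  have he0' : classInner (fun n : N => θ n) φ ≠ 0 := by
    rw [he]
    exact_mod_cast he0
  have h := restrict_eq_smul_sum N hθ hφ he0'
  conv_lhs =>
    arg 2
    rw [h]
  rw [classInner_smul_right, classInner_sum_right, he, Complex.conj_natCast]
  have hFinner : ∀ ψ ∈ Finset.univ.image (fun x : G => φ ∘ (MulAut.conjNormal x : MulAut N)),
      classInner (fun n : N => θ n) ψ = (e : ℂ) := by
    intro ψ hψ
    obtain ⟨x, -, rfl⟩ := Finset.mem_image.1 hψ
    rw [← he]
    exact classInner_restrict_conjNormal (isIrr_isClassFunction hθ) φ x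
  rw [Finset.sum_congr rfl hFinner, Finset.sum_const, nsmul_eq_mul]
  push_cast
  ring

end Cfsg.Agent.CharactersDeep.CliffordSum
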