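import Mathlib

/-!
Sums of roots of unity:
* `sum_ne_zero_of_not_dvd`: a sum of `N` roots of unity of `p`-power order, `p ∤ N`, is nonzero;
* `exists_exponents`: for every `n ≠ 0` there is a finite nonempty family of exponents `k i` prime
  to `n` with `1 ≤ ∏ i, ‖∑ z ^ k i‖` for every multiset of `n`-th roots of unity `z` with nonzero
  sum (norm from the cyclotomic field);
* `card_le_sum_sq`: the arithmetic-geometric mean inequality for squares, with the equality case;
* `exists_multiset_pow`: the traces of all powers of an endomorphism of finite order are the power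
  sums of one multiset of roots of unity.
-/

set_option autoImplicit false

namespace Cfsg.Agent.CharactersDeep.SumRootsUnity

open Polynomial

/-- A sum of `N` roots of unity of `p`-power order is nonzero if `p` does not divide `N`. -/
theorem sum_ne_zero_of_not_dvd {ι : Type*} [Fintype ι] {p : ℕ} [hp : Fact p.Prime] {m : ℕ}
    (z : ι → ℂ) (hz : ∀ i, z i ^ p ^ m = 1) (hι : ¬ p ∣ Fintype.card ι) :
    ∑ i, z i ≠ 0 := by
  classical
  intro hsum
  -- all the `z i` are powers of a primitive root of unity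
  set n := p ^ (m + 1) with hn
  have hn0 : n ≠ 0 := pow_ne_zero _ hp.out.ne_zero
  have hprim : IsPrimitiveRoot (Complex.exp (2 * Real.pi * Complex.I / n)) n :=
    Complex.isPrimitiveRoot_exp n hn0
  set ζ := Complex.exp (2 * Real.pi * Complex.I / n) with hζ
  have : NeZero n := ⟨hn0⟩
  have hzn : ∀ i, z i ^ n = 1 := by
    intro i
    rw [hn, pow_succ, pow_mul, hz i, one_pow]
  have hex : ∀ i, ∃ a : ℕ, ζ ^ a = z i := fun i =>
    let ⟨a, _, ha⟩ := hprim.eq_pow_of_pow_eq_one (hzn i)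
    ⟨a, ha⟩
  choose a ha using hex
  let f : ℤ[X] := ∑ i, X ^ (a i)
  have hf : aeval ζ f = 0 := by
    simp only [f, map_sum, map_pow, aeval_X, ha, hsum]
  have hdvd : cyclotomic n ℤ ∣ f := by
    rw [cyclotomic_eq_minpoly hprim (Nat.pos_of_ne_zero hn0)]
    exact minpoly.isIntegrallyClosed_dvd (hprim.isIntegral (Nat.pos_of_ne_zero hn0)) hf
  obtain ⟨q, hq⟩ := hdvd
  have h1 := congrArg (eval 1) hq
  rw [eval_mul, hn, eval_one_cyclotomic_prime_pow] at h1
  have h2 : eval 1 f = Fintype.card ι := by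
    simp [f, eval_finsetSum]
  rw [h2] at h1
  exact hι (by exact_mod_cast Dvd.intro _ h1.symm)

/-- The norm of a nonzero sum of `n`-th roots of unity from the cyclotomic field: there is a
nonempty finite family of exponents `k i` prime to `n`, not depending on the sum, such that
`∏ ‖∑ z ^ k i‖ ≥ 1` whenever `∑ z ≠ 0`. -/
theorem exists_exponents (n : ℕ) (hn : n ≠ 0) :
    ∃ (ι : Type) (_ : Fintype ι) (_ : Nonempty ι) (k : ι → ℕ), (∀ i, (k i).Coprime n) ∧
      ∀ s : Multiset ℂ, (∀ z ∈ s, z ^ n = 1) → s.sum ≠ 0 →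
        1 ≤ ∏ i, ‖(s.map (fun z => z ^ k i)).sum‖ := by
  classical
  have : NeZero n := ⟨hn⟩
  have hcyc : IsCyclotomicExtension {n} ℚ (CyclotomicField n ℚ) :=
    CyclotomicField.isCyclotomicExtension n ℚ
  have : NumberField (CyclotomicField n ℚ) := IsCyclotomicExtension.numberField {n} ℚ _
  have hζK : IsPrimitiveRoot (IsCyclotomicExtension.zeta n ℚ (CyclotomicField n ℚ)) n :=
    IsCyclotomicExtension.zeta_spec n ℚ _
  set ζK := IsCyclotomicExtension.zeta n ℚ (CyclotomicField n ℚ)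
  obtain ⟨φ0⟩ : Nonempty (CyclotomicField n ℚ →ₐ[ℚ] ℂ) := ⟨IsAlgClosed.lift⟩
  have hφ0 : IsPrimitiveRoot (φ0 ζK) n := hζK.map_of_injective φ0.injective
  -- exponents
  have hex : ∀ φ : CyclotomicField n ℚ →ₐ[ℚ] ℂ, ∃ a : ℕ, a.Coprime n ∧ φ0 ζK ^ a = φ ζK := by
    intro φ
    have h1 : IsPrimitiveRoot (φ ζK) n := hζK.map_of_injective φ.injective
    obtain ⟨a, _, hc, ha⟩ := (hφ0.isPrimitiveRoot_iff).1 h1
    exact ⟨a, hc, ha⟩
  choose k hk hkζ using hex
  refine ⟨CyclotomicField n ℚ →ₐ[ℚ] ℂ, inferInstance, ⟨φ0⟩, k, hk, ?_⟩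
  intro s hs hsum
  -- choose, for every `n`-th root of unity, an exponent w.r.t. `φ0 ζK`
  have hexs : ∀ z : ℂ, ∃ a : ℕ, z ^ n = 1 → (φ0 ζK) ^ a = z := by
    intro z
    by_cases hz : z ^ n = 1
    · obtain ⟨a, _, ha⟩ := hφ0.eq_pow_of_pow_eq_one hz
      exact ⟨a, fun _ => ha⟩
    · exact ⟨0, fun h => absurd h hz⟩
  choose a ha using hexs
  set x : CyclotomicField n ℚ := (s.map (fun z => ζK ^ a z)).sum with hx
  have hφx : ∀ φ : CyclotomicField n ℚ →ₐ[ℚ] ℂ, φ x = (s.map (fun z => (φ ζK) ^ a z)).sum := by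
    intro φ
    rw [hx, map_multiset_sum, Multiset.map_map]
    simp
  have hφx' : ∀ φ : CyclotomicField n ℚ →ₐ[ℚ] ℂ, φ x = (s.map (fun z => z ^ k φ)).sum := by
    intro φ
    rw [hφx]
    congr 1
    refine Multiset.map_congr rfl (fun z hz => ?_)
    rw [← hkζ, ← pow_mul, mul_comm, pow_mul, ha z (hs z hz)]
  have hx0 : φ0 x = s.sum := by
    rw [hφx]
    conv_rhs => rw [← Multiset.map_id s]
    congr 1
    exact Multiset.map_congr rfl (fun z hz => ha z (hs z hz))
  have hxne : x ≠ 0 := by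
    intro h
    rw [h, map_zero] at hx0
    exact hsum hx0.symm
  have hint : IsIntegral ℤ x := by
    apply IsIntegral.multiset_sum
    intro y hy
    obtain ⟨z, _, rfl⟩ := Multiset.mem_map.1 hy
    exact (hζK.isIntegral (Nat.pos_of_ne_zero hn)).pow _
  have hnorm : algebraMap ℚ ℂ (Algebra.norm ℚ x) = ∏ φ : CyclotomicField n ℚ →ₐ[ℚ] ℂ, φ x :=
    Algebra.norm_eq_prod_embeddings ℚ ℂ x
  have hnint : IsIntegral ℤ (Algebra.norm ℚ x) := Algebra.isIntegral_norm ℚ hint
  obtain ⟨N, hN⟩ := IsIntegrallyClosed.isIntegral_iff.1 hnint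
  have hN0 : N ≠ 0 := by
    intro h
    rw [h, map_zero] at hN
    exact hxne (Algebra.norm_eq_zero_iff.1 hN.symm)
  have h1 : ∏ i, ‖(s.map (fun z => z ^ k i)).sum‖ = ‖((N : ℤ) : ℂ)‖ := by
    rw [← norm_prod]
    simp_rw [← hφx']
    rw [← hnorm, ← hN]
    simp
  rw [h1, Complex.norm_intCast]
  exact_mod_cast Int.one_le_abs hN0

/-- AM-GM: nonnegative reals with product at least one have sum of squares at least their number,
with equality only if all are one. -/
theorem card_le_sum_sq {ι : Type*} [Fintype ι] (t : ι → ℝ) (ht : ∀ i, 0 ≤ t i)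
    (hp : 1 ≤ ∏ i, t i) :
    (Fintype.card ι : ℝ) ≤ ∑ i, t i ^ 2 ∧
      ((Fintype.card ι : ℝ) = ∑ i, t i ^ 2 → ∀ i, t i = 1) := by
  classical
  have hpos : ∀ i, 0 < t i := by
    intro i
    refine lt_of_le_of_ne (ht i) (fun h => ?_)
    have : ∏ i, t i = 0 := Finset.prod_eq_zero (Finset.mem_univ i) h.symm
    rw [this] at hp
    linarith
  have hlog : 0 ≤ ∑ i, Real.log (t i ^ 2) := by
    have h1 : ∑ i, Real.log (t i ^ 2) = 2 * Real.log (∏ i, t i) := by
      rw [Real.log_prod (fun i _ => (hpos i).ne'), Finset.mul_sum]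
      exact Finset.sum_congr rfl (fun i _ => by rw [Real.log_pow]; norm_num)
    rw [h1]
    exact mul_nonneg (by norm_num) (Real.log_nonneg hp)
  have hle : ∀ i, Real.log (t i ^ 2) ≤ t i ^ 2 - 1 := fun i =>
    Real.log_le_sub_one_of_pos (pow_pos (hpos i) 2)
  have hsum : ∑ i, Real.log (t i ^ 2) ≤ ∑ i, (t i ^ 2 - 1) := Finset.sum_le_sum (fun i _ => hle i)
  have hs2 : ∑ i, (t i ^ 2 - 1) = ∑ i, t i ^ 2 - Fintype.card ι := by
    rw [Finset.sum_sub_distrib]
    simp
  refine ⟨by linarith, fun heq i => ?_⟩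
  by_contra hne
  have hne2 : t i ^ 2 ≠ 1 := by
    intro h
    apply hne
    have := hpos i
    nlinarith
  have hlt : ∑ i, Real.log (t i ^ 2) < ∑ i, (t i ^ 2 - 1) :=
    Finset.sum_lt_sum (fun i _ => hle i)
      ⟨i, Finset.mem_univ i, Real.log_lt_sub_one_of_pos (pow_pos (hpos i) 2) hne2⟩
  linarith

open Module in
/-- The traces of the powers of an endomorphism of finite order are the power sums of one multiset
of roots of unity. -/
theorem exists_multiset_pow {V : Type*} [AddCommGroup V] [Module ℂ V] [FiniteDimensional ℂ V]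
    (f : Module.End ℂ V) {n : ℕ} (hn : n ≠ 0) (hf : f ^ n = 1) :
    ∃ s : Multiset ℂ, s.card = finrank ℂ V ∧ (∀ z ∈ s, z ^ n = 1) ∧
      ∀ k : ℕ, LinearMap.trace ℂ V (f ^ k) = (s.map (fun z => z ^ k)).sum := by
  classical
  have hsep : (X ^ n - 1 : ℂ[X]).Separable := by
    have h := separable_X_pow_sub_C (1 : ℂ) (n := n) (by exact_mod_cast hn) one_ne_zero
    simpa using h
  have hss : f.IsSemisimple :=
    Module.End.isSemisimple_of_squarefree_aeval_eq_zero hsep.squarefree (by simp [hf])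
  have hint : DirectSum.IsInternal f.eigenspace :=
    DirectSum.isInternal_submodule_of_iSupIndep_of_iSup_eq_top f.eigenspaces_iSupIndep 
      hss.iSup_eigenspace_eq_top
  let b := hint.collectedBasis (fun μ => Module.finBasis ℂ (f.eigenspace μ))
  have : Fintype (Σ μ : ℂ, Fin (finrank ℂ (f.eigenspace μ))) := FiniteDimensional.fintypeBasisIndex b
  have hb : ∀ i, f (b i) = i.1 • b i := fun i =>
    Module.End.mem_eigenspace_iff.1 (hint.collectedBasis_mem _ i)
  have hbk : ∀ (k : ℕ) i, (f ^ k) (b i) = i.1 ^ k • b i := by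
    intro k i
    induction k with
    | zero => simp
    | succ k ih => rw [pow_succ', Module.End.mul_apply, ih, map_smul, hb, smul_smul, pow_succ]
  refine ⟨Finset.univ.val.map (fun i : (Σ μ : ℂ, Fin (finrank ℂ (f.eigenspace μ))) => i.1), ?_, ?_, ?_⟩
  · rw [Multiset.card_map, Module.finrank_eq_card_basis b]
    rfl
  · intro z hz
    obtain ⟨i, _, rfl⟩ := Multiset.mem_map.1 hz
    have h1 := hbk n i
    rw [hf, Module.End.one_apply] at h1
    have h2 : (i.1 ^ n - 1) • b i = 0 := by rw [sub_smul, one_smul, ← h1, sub_self]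
    rcases smul_eq_zero.1 h2 with h | h
    · exact sub_eq_zero.1 h
    · exact absurd h (b.ne_zero i)
  · intro k
    rw [Multiset.map_map, LinearMap.trace_eq_matrix_trace ℂ b, Matrix.trace]
    change ∑ i, _ = ∑ i, _
    refine Finset.sum_congr rfl (fun i _ => ?_)
    rw [Matrix.diag_apply, LinearMap.toMatrix_apply, hbk]
    simp

end Cfsg.Agent.CharactersDeep.SumRootsUnity
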