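import Mathlib
import Cfsg.Prelude.Def_Characters
import Cfsg.Agent.Characters.Central
import Cfsg.Agent.CharactersDeep.SumRootsUnity

set_option autoImplicit false
open Cfsg Representation
open scoped ComplexConjugate

namespace Cfsg.Agent.CharactersDeep.ColumnBessel

open Cfsg.Agent.CharactersDeep.SumRootsUnity

universe u
variable {G : Type u} [Group G]

/-- Character values at inverses are complex conjugates. -/
theorem char_inv [Finite G] {V : Type*} [AddCommGroup V] [Module ℂ V] [FiniteDimensional ℂ V]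
    (ρ : Representation ℂ G V) (x : G) : ρ.character x⁻¹ = conj (ρ.character x) := by
  have hn : Nat.card G ≠ 0 := Nat.card_pos.ne'
  obtain ⟨s, -, hs, hk⟩ := exists_multiset_pow (ρ x) hn
    (by rw [← map_pow, pow_card_eq_one', map_one])
  have h1 : ρ.character x = s.sum := by
    have := hk 1
    simpa [Representation.character] using this
  have h2 : ρ.character x⁻¹ = (s.map (fun z => z ^ (Nat.card G - 1))).sum := by
    rw [← hk (Nat.card G - 1), ← map_pow, Representation.character]
    congr 2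
    rw [inv_eq_iff_mul_eq_one, ← pow_succ', Nat.sub_add_cancel Nat.card_pos, pow_card_eq_one']
  rw [h1, h2, map_multiset_sum]
  congr 1
  refine Multiset.map_congr rfl (fun z hz => ?_)
  have hz1 := hs z hz
  have hnorm : ‖z‖ = 1 := Complex.norm_eq_one_of_pow_eq_one hz1 hn
  have hz0 : z ≠ 0 := by
    intro h
    rw [h, norm_zero] at hnorm
    exact zero_ne_one hnorm
  have h3 : z * conj z = 1 := by
    rw [Complex.mul_conj, Complex.normSq_eq_norm_sq, hnorm]
    simp
  have h4 : z * z ^ (Nat.card G - 1) = 1 := by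
    rw [← pow_succ', Nat.sub_add_cancel Nat.card_pos, hz1]
  exact mul_left_cancel₀ hz0 (h4.trans h3.symm)

/-- First orthogonality relation, for irreducible characters as functions. -/
theorem sum_mul_conj [Fintype G] {χ ψ : G → ℂ} (hχ : IsIrrCharacter G χ)
    (hψ : IsIrrCharacter G ψ) [Decidable (χ = ψ)] :
    ∑ x, χ x * conj (ψ x) = if χ = ψ then (Nat.card G : ℂ) else 0 := by
  classical
  have hne : (Nat.card G : ℂ) ≠ 0 := by exact_mod_cast Nat.card_pos.ne'
  have : Invertible (Nat.card G : ℂ) := invertibleOfNonzero hne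
  by_cases h : χ = ψ
  · subst h
    obtain ⟨n, ρ, hρ, rfl⟩ := hχ
    have e := char_orthonormal ρ ρ
    rw [if_pos ⟨Representation.Equiv.refl ρ⟩] at e
    simp_rw [char_inv] at e
    rw [if_pos rfl]
    field_simp at e
    exact e
  · obtain ⟨n, ρ, hρ, rfl⟩ := hχ
    obtain ⟨m, σ, hσ, rfl⟩ := hψ
    have e := char_orthonormal ρ σ
    rw [if_neg (fun ⟨φ⟩ => h (char_iso φ).symm)] at e
    simp_rw [char_inv] at e
    rw [if_neg h]
    rcases mul_eq_zero.1 e with h1 | h1
    · exact absurd h1 (inv_ne_zero hne)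
    · exact h1

/-- Bessel's inequality for the columns of the character table. -/
theorem sum_norm_sq_le [Finite G] (S : Finset (IrrCharacter G)) (y : G) :
    ∑ χ ∈ S, ‖(χ : G → ℂ) y‖ ^ 2 ≤ Nat.card (Subgroup.centralizer ({y} : Set G)) := by
  classical
  have := Fintype.ofFinite G
  set s : ℝ := ∑ χ ∈ S, ‖(χ : G → ℂ) y‖ ^ 2 with hs
  let F : G → ℂ := fun x => ∑ χ ∈ S, conj ((χ : G → ℂ) y) * (χ : G → ℂ) x
  have hFy : F y = s := by
    simp only [F, hs]
    push_cast
    refine Finset.sum_congr rfl (fun χ _ => ?_)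
    rw [mul_comm, Complex.mul_conj, Complex.normSq_eq_norm_sq]
    push_cast
    rfl
  have hFconj : ∀ h : G, F (h * y * h⁻¹) = F y := by
    intro h
    refine Finset.sum_congr rfl (fun χ _ => ?_)
    obtain ⟨n, ρ, _, hρ⟩ := χ.2
    rw [← hρ, char_conj]
  have hnorm : ∑ x, F x * conj (F x) = (Nat.card G : ℂ) * s := by
    have h1 : ∀ x, F x * conj (F x) = ∑ χ ∈ S, ∑ ψ ∈ S,
        (conj ((χ : G → ℂ) y) * (ψ : G → ℂ) y) * ((χ : G → ℂ) x * conj ((ψ : G → ℂ) x)) := by
      intro x
      simp only [F, map_sum, map_mul, Complex.conj_conj]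
      rw [Finset.sum_mul_sum]
      refine Finset.sum_congr rfl (fun χ _ => Finset.sum_congr rfl (fun ψ _ => ?_))
      ring
    simp_rw [h1]
    rw [Finset.sum_comm]
    simp_rw [Finset.sum_comm (s := Finset.univ), ← Finset.mul_sum]
    have h2 : ∀ χ ∈ S, ∑ ψ ∈ S, (conj ((χ : G → ℂ) y) * (ψ : G → ℂ) y) *
        ∑ x, ((χ : G → ℂ) x * conj ((ψ : G → ℂ) x)) =
          (conj ((χ : G → ℂ) y) * (χ : G → ℂ) y) * Nat.card G := by
      intro χ hχ
      rw [Finset.sum_eq_single χ]
      · rw [sum_mul_conj χ.2 χ.2, if_pos rfl]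
      · intro ψ _ hψ
        rw [sum_mul_conj χ.2 ψ.2, if_neg (fun h => hψ (Subtype.ext h.symm)), mul_zero]
      · exact fun h => absurd hχ h
    rw [Finset.sum_congr rfl h2, ← Finset.sum_mul, mul_comm, ← hFy]
  have hreal : ∑ x, ‖F x‖ ^ 2 = (Nat.card G : ℝ) * s := by
    have h3 : ((∑ x, ‖F x‖ ^ 2 : ℝ) : ℂ) = ((Nat.card G : ℝ) * s : ℝ) := by
      push_cast
      rw [← hnorm]
      refine Finset.sum_congr rfl (fun x _ => ?_)
      rw [Complex.mul_conj, Complex.normSq_eq_norm_sq]
      push_cast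
      rfl
    exact_mod_cast h3
  -- the sum over all conjugates
  have hle : ∑ h : G, ‖F (h * y * h⁻¹)‖ ^ 2 ≤
      Nat.card (Subgroup.centralizer ({y} : Set G)) * ∑ x, ‖F x‖ ^ 2 := by
    rw [← Finset.sum_fiberwise (s := Finset.univ) (g := fun h : G => h * y * h⁻¹), Finset.mul_sum]
    refine Finset.sum_le_sum (fun x _ => ?_)
    rw [Finset.sum_congr rfl (g := fun _ => ‖F x‖ ^ 2)
      (fun h hh => by rw [(Finset.mem_filter.1 hh).2]), Finset.sum_const, nsmul_eq_mul]
    refine mul_le_mul_of_nonneg_right ?_ (by positivity)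
    rw [Nat.cast_le]
    rcases (Finset.univ.filter (fun h : G => h * y * h⁻¹ = x)).eq_empty_or_nonempty with h0 | ⟨c, hc⟩
    · rw [h0]; simp
    · rw [← Fintype.card_coe, ← Nat.card_eq_fintype_card]
      have hc' : c * y * c⁻¹ = x := (Finset.mem_filter.1 hc).2
      refine Nat.card_le_card_of_injective
        (fun h : {h // h ∈ Finset.univ.filter (fun h : G => h * y * h⁻¹ = x)} =>
          (⟨c⁻¹ * h.1, ?_⟩ : Subgroup.centralizer ({y} : Set G))) ?_
      · have hh : h.1 * y * h.1⁻¹ = x := (Finset.mem_filter.1 h.2).2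
        rw [Subgroup.mem_centralizer_singleton_iff]
        have e : h.1 * y = c * y * c⁻¹ * h.1 := by
          rw [hc']
          exact mul_inv_eq_iff_eq_mul.1 hh
        calc c⁻¹ * h.1 * y = c⁻¹ * (h.1 * y) := by group
          _ = y * (c⁻¹ * h.1) := by rw [e]; group
      · intro h1 h2 h12
        have := congrArg Subtype.val h12
        exact Subtype.ext (mul_left_cancel this)
  have hsum : ∑ h : G, ‖F (h * y * h⁻¹)‖ ^ 2 = (Nat.card G : ℝ) * s ^ 2 := by
    simp_rw [hFconj, hFy]
    rw [Finset.sum_const, Finset.card_univ, nsmul_eq_mul, Fintype.card_eq_nat_card]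
    congr 1
    rw [Complex.norm_real, Real.norm_eq_abs, sq_abs]
  rw [hsum, hreal] at hle
  have hG : (0 : ℝ) < Nat.card G := by exact_mod_cast Nat.card_pos
  have hs0 : 0 ≤ s := Finset.sum_nonneg (fun χ _ => by positivity)
  rcases hs0.eq_or_lt with h0 | h0
  · rw [← h0]; positivity
  · have : (Nat.card G : ℝ) * s * s ≤
        (Nat.card G : ℝ) * s * Nat.card (Subgroup.centralizer ({y} : Set G)) := by nlinarith
    exact le_of_mul_le_mul_left this (by positivity)

end Cfsg.Agent.CharactersDeep.ColumnBessel
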