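import Mathlib.RepresentationTheory.Character
import Mathlib.RepresentationTheory.Irreducible
import Mathlib.RepresentationTheory.Invariants
import Mathlib.LinearAlgebra.PID
import Mathlib.Analysis.Complex.Basic
import Mathlib.Tactic
import Cfsg.Prelude.Def_Characters
import Cfsg.Agent.Characters.Core
import Cfsg.Agent.CharactersDeep.LinearExt

/-!
# The character of a representation on the invariants of a normal subgroup

If `θ` is a character of `G` and `N` is a finite normal subgroup, then the coset averages
`g ↦ |N|⁻¹ ∑_{n ∈ N} θ (n g)` form a character of `G` (the character of the representation of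
`G` on the fixed points of `N`).
-/

set_option autoImplicit false

open scoped ComplexConjugate
open Cfsg Representation Module Cfsg.Agent.Characters.Core

namespace Cfsg.Agent.CharactersDeep.CosetAverage

universe u

/-- The character of `G` on the fixed points of a finite normal subgroup `N`. -/
theorem character_toInvariants {G : Type u} {V : Type*} [Group G] [AddCommGroup V] [Module ℂ V]
    [FiniteDimensional ℂ V] (ρ : Representation ℂ G V) (N : Subgroup G) [N.Normal] [Fintype N]
    (g : G) :
    (ρ.toInvariants N).character g = (Nat.card N : ℂ)⁻¹ * ∑ n : N, ρ.character ((n : G) * g) := by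
  have hcard : (Fintype.card N : ℂ) ≠ 0 := by exact_mod_cast Fintype.card_ne_zero
  let _ : Invertible (Fintype.card N : ℂ) := invertibleOfNonzero hcard
  set σ : Representation ℂ N V := ρ.comp N.subtype with hσ
  set f : V →ₗ[ℂ] V := σ.averageMap ∘ₗ ρ g with hf
  have hmem : ∀ x, f x ∈ σ.invariants := fun x => σ.averageMap_invariant _
  have h1 := LinearMap.trace_restrict_eq_of_forall_mem σ.invariants f hmem
  have h2 : f.restrict (p := σ.invariants) (q := σ.invariants) (fun x _ => hmem x)
      = ρ.toInvariants N g := by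
    ext x
    have hx : ρ g (x : V) ∈ σ.invariants := le_comap_invariants ρ N g x.2
    change σ.averageMap (ρ g x) = ρ g x
    exact σ.averageMap_id _ hx
  have h3 : (ρ.toInvariants N).character g = LinearMap.trace ℂ V f := by
    rw [← h1, h2]
    rfl
  rw [h3, hf, Nat.card_eq_fintype_card]
  have h4 : σ.averageMap = (Fintype.card N : ℂ)⁻¹ • ∑ n : N, ρ (n : G) := by
    unfold Representation.averageMap GroupAlgebra.average
    rw [map_smul, map_sum, invOf_eq_inv]
    congr 1
    refine Finset.sum_congr rfl fun n _ => ?_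
    rw [MonoidAlgebra.of_apply, Representation.asAlgebraHom_single_one]
    rfl
  rw [h4, LinearMap.smul_comp, map_smul, smul_eq_mul]
  congr 1
  rw [← Module.End.mul_eq_comp, Finset.sum_mul, map_sum]
  refine Finset.sum_congr rfl fun n _ => ?_
  change _ = LinearMap.trace ℂ V (ρ ((n : G) * g))
  rw [map_mul ρ]

/-- The coset averages of a character form a character. -/
theorem isCharacter_cosetAverage {G : Type u} [Group G] (N : Subgroup G) [N.Normal] [Fintype N]
    {θ : G → ℂ} (hθ : IsCharacter G θ) :
    IsCharacter G (fun g => (Nat.card N : ℂ)⁻¹ * ∑ n : N, θ ((n : G) * g)) := by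
  obtain ⟨n, ρ, rfl⟩ := hθ
  have h := isCharacter_of_rep (ρ.toInvariants N)
  have h2 : (ρ.toInvariants N).character
      = fun g => (Nat.card N : ℂ)⁻¹ * ∑ n : N, ρ.character ((n : G) * g) :=
    funext fun g => character_toInvariants ρ N g
  rwa [h2] at h

/-- summing over `G` a product whose second factor is `N`-invariant -/
theorem sum_mul_invariant {G : Type u} [Group G] [Fintype G] (N : Subgroup G) [Fintype N]
    (f h : G → ℂ) (hh : ∀ (n : N) (g : G), h ((n : G) * g) = h g) :
    ∑ g, f g * h g = ∑ g, ((Nat.card N : ℂ)⁻¹ * ∑ n : N, f ((n : G) * g)) * h g := by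
  have hN : (Nat.card N : ℂ) ≠ 0 := by exact_mod_cast Nat.card_pos.ne'
  have h1 : ∀ n : N, ∑ g, f ((n : G) * g) * h g = ∑ g, f g * h g := by
    intro n
    refine Fintype.sum_equiv (Equiv.mulLeft (n : G)) _ _ fun g => ?_
    simp [hh]
  simp_rw [mul_assoc, ← Finset.mul_sum, Finset.sum_mul]
  rw [Finset.sum_comm]
  simp_rw [h1]
  rw [Finset.sum_const, Finset.card_univ, nsmul_eq_mul, ← mul_assoc, ← Nat.card_eq_fintype_card,
    inv_mul_cancel₀ hN, one_mul]

theorem cosetAverage_invariant {G : Type u} [Group G] (N : Subgroup G) [Fintype N]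
    (f : G → ℂ) (m : N) (g : G) :
    (Nat.card N : ℂ)⁻¹ * ∑ n : N, f ((n : G) * ((m : G) * g))
      = (Nat.card N : ℂ)⁻¹ * ∑ n : N, f ((n : G) * g) := by
  congr 1
  refine Fintype.sum_equiv (Equiv.mulRight m) _ _ fun n => ?_
  simp [mul_assoc]

/-- the coset averages of `|χ|²` are all one when `χ` restricts irreducibly to `N` -/
theorem cosetAverage_self {G : Type u} [Group G] [Fintype G] (N : Subgroup G) [N.Normal]
    [Fintype N] (χ : G → ℂ) (hχ : IsIrrCharacter G χ)
    (hχN : IsIrrCharacter N (fun n : N => χ n)) (g : G) :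
    (Nat.card N : ℂ)⁻¹ * ∑ n : N, χ ((n : G) * g) * conj (χ ((n : G) * g)) = 1 := by
  set lam : G → ℂ := fun g => (Nat.card N : ℂ)⁻¹ * ∑ n : N, χ ((n : G) * g) * conj (χ ((n : G) * g))
    with hlam
  have hc : IsCharacter G lam :=
    isCharacter_cosetAverage N
      (isCharacter_mul (isIrr_isCharacter hχ) (isCharacter_conj (isIrr_isCharacter hχ)))
  have h1 : lam 1 = 1 := by
    have := classInner_irr_self hχN
    rw [← this]
    simp [hlam, classInner]
  obtain ⟨φ, hφ⟩ := Cfsg.Agent.CharactersDeep.LinearExt.exists_hom_of_isCharacter hc h1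
  change lam g = 1
  have hreal : lam g = ((Nat.card N : ℝ)⁻¹ * ∑ n : N, Complex.normSq (χ ((n : G) * g)) : ℝ) := by
    simp [hlam, Complex.mul_conj]
  set r : ℝ := (Nat.card N : ℝ)⁻¹ * ∑ n : N, Complex.normSq (χ ((n : G) * g)) with hr
  have hr0 : 0 ≤ r :=
    mul_nonneg (inv_nonneg.mpr (Nat.cast_nonneg _)) (Finset.sum_nonneg fun _ _ => Complex.normSq_nonneg _)
  have hpow : (lam g) ^ (Fintype.card G) = 1 := by
    rw [← hφ g, ← Units.val_pow_eq_pow_val, ← map_pow, pow_card_eq_one, map_one, Units.val_one]
  rw [hreal] at hpow ⊢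
  have hpow' : r ^ (Fintype.card G) = 1 := by exact_mod_cast hpow
  have : r = 1 := (pow_eq_one_iff_of_nonneg hr0 Fintype.card_ne_zero).mp hpow'
  rw [this]; simp

/-- Gallagher: `χ` an irreducible character of `G` restricting irreducibly to the normal subgroup
`N`, `ψ` an irreducible character of `G`, `η` the coset averages of `ψ * conj χ`. Either `η = 0`
(and then `⟨ψ_N, χ_N⟩ = 0`) or `η` is irreducible and `ψ = χ * η`. -/
theorem cosetAverage_dichotomy {G : Type u} [Group G] [Fintype G] (N : Subgroup G) [N.Normal]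
    [Fintype N] (χ : G → ℂ) (hχ : IsIrrCharacter G χ)
    (hχN : IsIrrCharacter N (fun n : N => χ n)) (ψ : G → ℂ) (hψ : IsIrrCharacter G ψ) (η : G → ℂ)
    (hη : η = fun g => (Nat.card N : ℂ)⁻¹ * ∑ n : N, ψ ((n : G) * g) * conj (χ ((n : G) * g))) :
    (classInner (fun n : N => ψ n) (fun n : N => χ n) = 0 ∧ η = 0) ∨
      (classInner (fun n : N => ψ n) (fun n : N => χ n) ≠ 0 ∧ IsIrrCharacter G η ∧ ψ = χ * η) := by

  have hc : IsCharacter G η := by
    rw [hη]
    exact isCharacter_cosetAverage N
      (isCharacter_mul (isIrr_isCharacter hψ) (isCharacter_conj (isIrr_isCharacter hχ)))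
  have hinv : ∀ (n : N) (g : G), η ((n : G) * g) = η g := by
    intro n g
    rw [hη]
    exact cosetAverage_invariant N (fun g => ψ g * conj (χ g)) n g
  have h1 : η 1 = classInner (fun n : N => ψ n) (fun n : N => χ n) := by
    rw [hη]; simp [classInner]
  have hi1 : classInner ψ (χ * η) = classInner η η := by
    unfold classInner
    congr 1
    have := sum_mul_invariant N (fun g => ψ g * conj (χ g)) (fun g => conj (η g))
      (fun n g => by simp only [hinv])
    simp only [Pi.mul_apply, map_mul, ← mul_assoc]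
    rw [this]
    refine Finset.sum_congr rfl fun g _ => ?_
    congr 1
    rw [hη]
  have hi2 : classInner (χ * η) (χ * η) = classInner η η := by
    unfold classInner
    congr 1
    have := sum_mul_invariant N (fun g => χ g * conj (χ g)) (fun g => η g * conj (η g))
      (fun n g => by simp only [hinv])
    simp only [Pi.mul_apply, map_mul]
    have h2 : ∀ g, χ g * η g * (conj (χ g) * conj (η g)) = χ g * conj (χ g) * (η g * conj (η g)) :=
      fun g => by ring
    simp_rw [h2]
    rw [this]
    refine Finset.sum_congr rfl fun g _ => ?_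
    rw [cosetAverage_self N χ hχ hχN g, one_mul]
  have hχη : IsCharacter G (χ * η) := isCharacter_mul (isIrr_isCharacter hχ) hc
  obtain ⟨m, hm⟩ := classInner_isNat (isIrr_isCharacter hψ) hχη
  have hm1 : m ≤ 1 := by
    have hm' : classInner (χ * η) ψ = m := by
      rw [← classInner_conj_symm, hm]; simp
    have hD : classInner (χ * η - (m : ℂ) • ψ) (χ * η - (m : ℂ) • ψ) = ((m : ℝ) - (m : ℝ) ^ 2 : ℝ) := by
      rw [classInner_sub_left, classInner_sub_right, classInner_sub_right, classInner_smul_left,
        classInner_smul_left, classInner_smul_right, classInner_smul_right, hi2, ← hi1, hm, hm',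
        classInner_irr_self hψ]
      simp
      ring
    have hre : 0 ≤ (classInner (χ * η - (m : ℂ) • ψ) (χ * η - (m : ℂ) • ψ)).re := by
      have : classInner (χ * η - (m : ℂ) • ψ) (χ * η - (m : ℂ) • ψ)
          = ((Nat.card G : ℝ)⁻¹ * ∑ g : G, Complex.normSq ((χ * η - (m : ℂ) • ψ) g) : ℝ) := by
        unfold classInner
        simp only [Complex.mul_conj]
        push_cast
        rfl
      rw [this, Complex.ofReal_re]
      exact mul_nonneg (inv_nonneg.mpr (Nat.cast_nonneg _))
        (Finset.sum_nonneg fun _ _ => Complex.normSq_nonneg _)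
    rw [hD, Complex.ofReal_re] at hre
    by_contra hlt
    push Not at hlt
    have h2 : (2 : ℝ) ≤ m := by exact_mod_cast hlt
    nlinarith
  rcases Nat.le_one_iff_eq_zero_or_eq_one.mp hm1 with h | h
  · left
    have h0 : η = 0 := classInner_self_eq_zero (by rw [← hi1, hm, h]; simp)
    refine ⟨?_, h0⟩
    rw [← h1, h0]; rfl
  · right
    have hirr : IsIrrCharacter G η :=
      (isIrr_iff_classInner_self hc).mpr (by rw [← hi1, hm, h]; simp)
    have hirr2 : IsIrrCharacter G (χ * η) :=
      (isIrr_iff_classInner_self hχη).mpr (by rw [hi2, ← hi1, hm, h]; simp)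
    refine ⟨?_, hirr, ?_⟩
    · obtain ⟨d, hd, hd'⟩ := isIrr_apply_one hirr
      rw [← h1, hd']
      exact_mod_cast hd.ne'
    · by_contra hne
      have := classInner_irr_ne hψ hirr2 hne
      rw [hm, h] at this
      simp at this

/-- Gallagher: if `χ` restricts irreducibly to the normal subgroup `N` and `ψ` lies over the
restriction, then `ψ = χ * η` for an irreducible character `η` of `G` that is constant on the
cosets of `N`. -/
theorem exists_irr_mul {G : Type u} [Group G] [Fintype G] (N : Subgroup G) [N.Normal]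
    [Fintype N] (χ : G → ℂ) (hχ : IsIrrCharacter G χ)
    (hχN : IsIrrCharacter N (fun n : N => χ n)) (ψ : G → ℂ) (hψ : IsIrrCharacter G ψ)
    (h : classInner (fun n : N => ψ n) (fun n : N => χ n) ≠ 0) :
    ∃ η : G → ℂ, IsIrrCharacter G η ∧ (∀ (n : N) (g : G), η ((n : G) * g) = η g) ∧
      ψ = χ * η := by
  rcases cosetAverage_dichotomy N χ hχ hχN ψ hψ _ rfl with h0 | h1
  · exact absurd h0.1 h
  · exact ⟨_, h1.2.1, fun n g => cosetAverage_invariant N (fun g => ψ g * conj (χ g)) n g, h1.2.2⟩

end Cfsg.Agent.CharactersDeep.CosetAverage
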