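import Mathlib

/-!
# Representations of a normal subgroup and conjugation

Tools for an irreducible complex representation `ρ` of a normal subgroup `N` of `G`:
the conjugate representations, intertwiners, and a criterion for irreducibility in terms of
submodules.
-/

set_option autoImplicit false

open Representation Module

namespace Cfsg.Agent.CharactersDeep.InvRep

section general

variable {G : Type*} [Group G] {V W : Type*} [AddCommGroup V] [Module ℂ V]
  [AddCommGroup W] [Module ℂ W]

/-- Irreducibility in terms of invariant submodules. -/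
theorem isIrreducible_iff (ρ : Representation ℂ G V) :
    ρ.IsIrreducible ↔ Nontrivial V ∧
      ∀ p : Submodule ℂ V, (∀ g, ∀ v ∈ p, ρ g v ∈ p) → p = ⊥ ∨ p = ⊤ := by
  constructor
  · intro h
    refine ⟨?_, fun p hp => ?_⟩
    · by_contra hV
      rw [not_nontrivial_iff_subsingleton] at hV
      have : (⊥ : Subrepresentation ρ) = ⊤ := by
        apply Subrepresentation.toSubmodule_injective
        exact Subsingleton.elim _ _
      exact bot_ne_top this
    · rcases h.eq_bot_or_eq_top (⟨p, fun g v hv => hp g v hv⟩ : Subrepresentation ρ) with h1 | h1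
      · left
        exact congrArg Subrepresentation.toSubmodule h1
      · right
        exact congrArg Subrepresentation.toSubmodule h1
  · rintro ⟨hV, h⟩
    have : Nontrivial (Subrepresentation ρ) := by
      refine ⟨⊥, ⊤, fun h => ?_⟩
      have := congrArg Subrepresentation.toSubmodule h
      exact bot_ne_top (α := Submodule ℂ V) this
    refine ⟨fun p => ?_⟩
    rcases h p.toSubmodule (fun g v hv => p.apply_mem_toSubmodule g hv) with h1 | h1
    · left
      exact Subrepresentation.toSubmodule_injective h1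
    · right
      exact Subrepresentation.toSubmodule_injective h1

/-- If the restriction along some homomorphism is irreducible, the representation is. -/
theorem isIrreducible_of_comp {H : Type*} [Group H] (f : H →* G) (ρ : Representation ℂ G V)
    (h : IsIrreducible (ρ.comp f : Representation ℂ H V)) : ρ.IsIrreducible := by
  rw [isIrreducible_iff] at h ⊢
  exact ⟨h.1, fun p hp => h.2 p fun g v hv => hp _ v hv⟩

/-- Pullback of an irreducible representation along a surjective homomorphism. -/
theorem isIrreducible_comp {H : Type*} [Group H] (f : H →* G) (hf : Function.Surjective f)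
    (ρ : Representation ℂ G V) (h : ρ.IsIrreducible) :
    IsIrreducible (ρ.comp f : Representation ℂ H V) := by
  rw [isIrreducible_iff] at h ⊢
  refine ⟨h.1, fun p hp => h.2 p fun g v hv => ?_⟩
  obtain ⟨x, rfl⟩ := hf g
  exact hp x v hv

/-- Schur's lemma: an endomorphism commuting with an irreducible representation is a scalar. -/
theorem exists_smul_of_comm [FiniteDimensional ℂ V] (ρ : Representation ℂ G V)
    (h : ρ.IsIrreducible) (f : Module.End ℂ V) (hf : ∀ g, f * ρ g = ρ g * f) :
    ∃ c : ℂ, f = c • 1 := by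
  obtain ⟨c, hc⟩ := (IsIrreducible.algebraMap_intertwiningMap_bijective_of_isAlgClosed
    (ρ := ρ)).2 (⟨f, fun g => hf g⟩ : IntertwiningMap ρ ρ)
  exact ⟨c, (congrArg IntertwiningMap.toLinearMap hc).symm⟩

/-- Irreducible representations with the same character are equivalent. -/
theorem nonempty_equiv_of_character_eq [Finite G] [FiniteDimensional ℂ V]
    [FiniteDimensional ℂ W] (ρ : Representation ℂ G V) (σ : Representation ℂ G W)
    (hρ : ρ.IsIrreducible) (hσ : σ.IsIrreducible) (h : ρ.character = σ.character) :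
    Nonempty (Representation.Equiv ρ σ) := by
  have := Fintype.ofFinite G
  have hinv : Invertible (Nat.card G : ℂ) :=
    invertibleOfNonzero (Nat.cast_ne_zero.2 Nat.card_pos.ne')
  have h1 := char_orthonormal σ ρ
  have h2 := char_orthonormal σ σ
  rw [if_pos ⟨Representation.Equiv.refl σ⟩] at h2
  rw [h, h2] at h1
  by_contra hne
  rw [if_neg hne] at h1
  exact one_ne_zero h1

end general

section normal

variable {G : Type*} [Group G] {N : Subgroup G} [hN : N.Normal] {V : Type*} [AddCommGroup V]
  [Module ℂ V]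

/-- The conjugate representation `n ↦ ρ (g n g⁻¹)`. -/
noncomputable def conjRep (ρ : Representation ℂ N V) (g : G) : Representation ℂ N V :=
  ρ.comp (MulAut.conjNormal g : N ≃* N).toMonoidHom

theorem conjRep_apply (ρ : Representation ℂ N V) (g : G) (n : N) :
    conjRep ρ g n = ρ (MulAut.conjNormal g n) := rfl

theorem conjRep_apply' (ρ : Representation ℂ N V) (g : G) (n : N) :
    conjRep ρ g n = ρ ⟨g * n * g⁻¹, hN.conj_mem (n : G) n.2 g⟩ := rfl

theorem conjRep_irreducible (ρ : Representation ℂ N V) (h : ρ.IsIrreducible) (g : G) :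
    (conjRep ρ g).IsIrreducible :=
  isIrreducible_comp _ (MulAut.conjNormal g : N ≃* N).surjective ρ h

theorem conjRep_character (ρ : Representation ℂ N V) (g : G) (n : N) :
    (conjRep ρ g).character n = ρ.character ⟨g * n * g⁻¹, hN.conj_mem (n : G) n.2 g⟩ := rfl

/-- If the character of `ρ` is invariant under `g`, there is an invertible `T` which
intertwines `ρ` with its conjugate. -/
theorem exists_intertwiner [Finite N] [FiniteDimensional ℂ V] (ρ : Representation ℂ N V)
    (h : ρ.IsIrreducible) (g : G)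
    (hg : ∀ n : N, ρ.character ⟨g * n * g⁻¹, hN.conj_mem (n : G) n.2 g⟩ = ρ.character n) :
    ∃ T : (Module.End ℂ V)ˣ, ∀ n : N, (T : Module.End ℂ V) * ρ n =
      ρ ⟨g * n * g⁻¹, hN.conj_mem (n : G) n.2 g⟩ * T := by
  obtain ⟨e⟩ := nonempty_equiv_of_character_eq ρ (conjRep ρ g) h (conjRep_irreducible ρ h g)
    (by ext n; rw [conjRep_character, hg])
  refine ⟨⟨e.toLinearEquiv.toLinearMap, e.toLinearEquiv.symm.toLinearMap, ?_, ?_⟩, fun n => ?_⟩
  · ext v
    exact e.toLinearEquiv.apply_symm_apply v
  · ext v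
    exact e.toLinearEquiv.symm_apply_apply v
  · exact e.toIntertwiningMap.isIntertwining' n

end normal

section cyclic

variable {G : Type*} [Group G] {N : Subgroup G} [hN : N.Normal] {V : Type*} [AddCommGroup V]
  [Module ℂ V] [FiniteDimensional ℂ V]

omit [FiniteDimensional ℂ V] in
theorem conjNormal_pow_intertwiner (ρ : Representation ℂ N V) (g : G) (T : (Module.End ℂ V)ˣ)
    (hT : ∀ n : N, (T : Module.End ℂ V) * ρ n = ρ (MulAut.conjNormal g n) * T) (k : ℕ) (n : N) :
    ((T ^ k : (Module.End ℂ V)ˣ) : Module.End ℂ V) * ρ n =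
      ρ (MulAut.conjNormal (g ^ k) n) * (T ^ k : (Module.End ℂ V)ˣ) := by
  induction k generalizing n with
  | zero => simp
  | succ k ih =>
    have : (MulAut.conjNormal (g ^ (k + 1)) n : N) =
        MulAut.conjNormal (g ^ k) (MulAut.conjNormal g n) := by
      rw [pow_succ, map_mul]; rfl
    rw [this, pow_succ, Units.val_mul, mul_assoc, hT, ← mul_assoc, ih, mul_assoc]

/-- If `G / N` is finite and generated by the image of `g`, and `ρ` is an irreducible
representation of `N` intertwined with its conjugate by `g`, then `ρ` extends to `G`. -/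
theorem exists_extension_of_cyclic (ρ : Representation ℂ N V) (h : ρ.IsIrreducible)
    [Finite (G ⧸ N)] (g : G) (hg : ∀ x : G ⧸ N, x ∈ Subgroup.zpowers (g : G ⧸ N))
    (T : (Module.End ℂ V)ˣ)
    (hT : ∀ n : N, (T : Module.End ℂ V) * ρ n = ρ (MulAut.conjNormal g n) * T) :
    ∃ σ : Representation ℂ G V, ∀ n : N, σ n = ρ n := by
  have hV : Nontrivial V := ((isIrreducible_iff ρ).1 h).1
  set m := orderOf (g : G ⧸ N) with hm
  have hm0 : 0 < m := orderOf_pos _
  have hgm : g ^ m ∈ N := by
    rw [← QuotientGroup.eq_one_iff, QuotientGroup.mk_pow, pow_orderOf_eq_one]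
  set a : N := ⟨g ^ m, hgm⟩ with ha
  have haconj : ∀ n : N, (MulAut.conjNormal (g ^ m) n : N) = a * n * a⁻¹ := fun n => by
    ext; rfl
  -- the scalar
  obtain ⟨c, hc⟩ := exists_smul_of_comm ρ h (ρ a⁻¹ * ((T ^ m : (Module.End ℂ V)ˣ) : Module.End ℂ V))
    (fun n => by
      rw [mul_assoc, conjNormal_pow_intertwiner ρ g T hT m n, haconj, ← mul_assoc, ← mul_assoc,
        ← map_mul]
      congr 1
      rw [← map_mul]
      congr 1
      group)
  have hTm : ((T ^ m : (Module.End ℂ V)ˣ) : Module.End ℂ V) = c • ρ a := by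
    have := congrArg (fun x => ρ a * x) hc
    simp only [← mul_assoc, ← map_mul, mul_inv_cancel, map_one, one_mul] at this
    rw [this]
    simp
  have hc0 : c ≠ 0 := by
    rintro rfl
    rw [zero_smul] at hTm
    exact Units.ne_zero _ hTm
  obtain ⟨z, hz⟩ := IsAlgClosed.exists_pow_nat_eq c⁻¹ hm0
  have hz0 : z ≠ 0 := by
    rintro rfl
    rw [zero_pow hm0.ne'] at hz
    exact hc0 (inv_eq_zero.1 hz.symm)
  set zu : (Module.End ℂ V)ˣ := Units.map (algebraMap ℂ (Module.End ℂ V)).toMonoidHom
    (Units.mk0 z hz0) with hzu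
  have hzuval : (zu : Module.End ℂ V) = algebraMap ℂ _ z := rfl
  set T' : (Module.End ℂ V)ˣ := zu * T with hT'
  have hcomm : Commute zu T := by
    apply Units.ext
    rw [Units.val_mul, Units.val_mul, hzuval]
    exact Algebra.commutes _ _
  have hT'm : ((T' ^ m : (Module.End ℂ V)ˣ) : Module.End ℂ V) = ρ a := by
    rw [hT', hcomm.mul_pow, Units.val_mul, hTm, Units.val_pow_eq_pow_val, hzuval, ← map_pow, hz,
      mul_smul_comm, ← Algebra.smul_def, smul_smul, mul_inv_cancel₀ hc0, one_smul]
  have hT'conj : ∀ n : N, (T' : Module.End ℂ V) * ρ n = ρ (MulAut.conjNormal g n) * T' := by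
    intro n
    rw [hT', Units.val_mul, hzuval, mul_assoc, hT, ← mul_assoc, Algebra.commutes, mul_assoc]
  -- the homomorphisms
  let f₁ : N →* (Module.End ℂ V)ˣ := ρ.toHomUnits
  have hf₁ : ∀ n : N, ((f₁ n : (Module.End ℂ V)ˣ) : Module.End ℂ V) = ρ n := fun n => rfl
  let f₂ : Multiplicative ℤ →* (Module.End ℂ V)ˣ := zpowersHom _ T'
  let φ : Multiplicative ℤ →* MulAut N := (MulAut.conjNormal).comp (zpowersHom G g)
  have hconj : ∀ k : Multiplicative ℤ, ∀ n : N, f₂ k * f₁ n * (f₂ k)⁻¹ = f₁ (φ k n) := by
    have hφ : ∀ k : Multiplicative ℤ, ∀ n : N,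
      f₂ k * f₁ n = f₁ (φ k n) * f₂ k := by
      have hbase : ∀ n : N, T' * f₁ n = f₁ (MulAut.conjNormal g n) * T' := fun n => by
        apply Units.ext
        exact hT'conj n
      have hbase' : ∀ n : N, T'⁻¹ * f₁ n = f₁ ((MulAut.conjNormal g)⁻¹ n) * T'⁻¹ := fun n => by
        rw [inv_mul_eq_iff_eq_mul, ← mul_assoc, hbase, eq_mul_inv_iff_mul_eq, mul_left_inj]
        congr 1
        rw [← MulAut.mul_apply, mul_inv_cancel, MulAut.one_apply]
      intro k
      induction k using Multiplicative.rec with
      | ofAdd k =>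
      have h2 : ∀ k : ℤ, f₂ (Multiplicative.ofAdd k) = T' ^ k := fun k => by
        simp [f₂]
      have h3 : ∀ k : ℤ, φ (Multiplicative.ofAdd k) = (MulAut.conjNormal g) ^ k := fun k => by
        simp [φ]
      rw [h2, h3]
      induction k using Int.induction_on with
      | zero => simp
      | succ k ih =>
        intro n
        rw [zpow_add_one, zpow_add_one, mul_assoc, hbase, ← mul_assoc, ih, MulAut.mul_apply,
          mul_assoc]
      | pred k ih =>
        intro n
        rw [zpow_sub_one, zpow_sub_one, mul_assoc, hbase', ← mul_assoc, ih, MulAut.mul_apply,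
          mul_assoc]
    intro k n
    rw [hφ, mul_inv_cancel_right]
  let Φ : N ⋊[φ] Multiplicative ℤ →* (Module.End ℂ V)ˣ := SemidirectProduct.lift f₁ f₂
    (fun k => by ext1 n; simp [← hconj])
  let π : N ⋊[φ] Multiplicative ℤ →* G := SemidirectProduct.lift N.subtype (zpowersHom G g)
    (fun k => by ext1 n; rfl)
  have hπ : Function.Surjective π := by
    intro x
    obtain ⟨k, hk⟩ := Subgroup.mem_zpowers_iff.1 (hg (x : G ⧸ N))
    have hx : x * g ^ (-k) ∈ N := by
      rw [← QuotientGroup.eq_one_iff, QuotientGroup.mk_mul, QuotientGroup.mk_zpow, zpow_neg, hk,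
        mul_inv_cancel]
    refine ⟨⟨⟨x * g ^ (-k), hx⟩, Multiplicative.ofAdd k⟩, ?_⟩
    simp [π, SemidirectProduct.lift]
  have hker : π.ker ≤ Φ.ker := by
    rintro ⟨n, k⟩ hnk
    rw [MonoidHom.mem_ker] at hnk ⊢
    have h1 : (n : G) * g ^ (Multiplicative.toAdd k) = 1 := by
      simpa [π, SemidirectProduct.lift] using hnk
    have h2 : (g : G ⧸ N) ^ (Multiplicative.toAdd k) = 1 := by
      rw [← QuotientGroup.mk_zpow, QuotientGroup.eq_one_iff]
      rw [mul_eq_one_iff_inv_eq] at h1
      rw [← h1]
      exact N.inv_mem n.2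
    rw [← orderOf_dvd_iff_zpow_eq_one, ← hm] at h2
    obtain ⟨j, hj⟩ := h2
    have h3 : n * a ^ j = 1 := by
      ext
      rw [Subgroup.coe_mul, Subgroup.coe_zpow, ha, Subgroup.coe_one, ← h1, hj]
      simp only [zpow_mul, zpow_natCast]
    have h4 : T' ^ (m : ℕ) = f₁ a := by
      apply Units.ext
      rw [hT'm, hf₁]
    have h5 : f₁ n * T' ^ (Multiplicative.toAdd k) = 1 := by
      rw [hj, zpow_mul, zpow_natCast, h4, ← map_zpow, ← map_mul, h3, map_one]
    simpa [Φ, SemidirectProduct.lift, f₂] using h5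
  let σ' : G →* (Module.End ℂ V)ˣ := π.liftOfSurjective hπ ⟨Φ, hker⟩
  refine ⟨(Units.coeHom _).comp σ', fun n => ?_⟩
  have h1 : π (SemidirectProduct.inl n) = (n : G) := by simp [π]
  have h2 : σ' (π (SemidirectProduct.inl n)) = Φ (SemidirectProduct.inl n) :=
    MonoidHom.liftOfRightInverse_comp_apply π _ _ ⟨Φ, hker⟩ _
  have h3 : Φ (SemidirectProduct.inl n) = f₁ n := by simp [Φ]
  rw [MonoidHom.comp_apply, ← h1, h2, h3]
  rfl

end cyclic

end Cfsg.Agent.CharactersDeep.InvRep
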