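import Mathlib
import Cfsg.Agent.CharactersDeep.InvRep

/-!
# The degree of an irreducible representation divides the index of any subgroup acting by scalars
-/

set_option autoImplicit false

open Representation Module

namespace Cfsg.Agent.CharactersDeep.ScalarIndex

open Cfsg.Agent.CharactersDeep.InvRep

/-- The values of the character of a finite-dimensional complex representation of a finite group
are algebraic integers. -/
theorem character_isIntegral {G : Type*} [Group G] [Finite G] {V : Type*} [AddCommGroup V]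
    [Module ℂ V] [FiniteDimensional ℂ V] (ρ : Representation ℂ G V) (g : G) :
    IsIntegral ℤ (ρ.character g) := by
  classical
  have hsplit : (LinearMap.charpoly (ρ g)).Splits := IsAlgClosed.splits _
  have htr : ρ.character g = (LinearMap.charpoly (ρ g)).roots.sum :=
    Module.End.trace_eq_sum_roots_charpoly_of_splits hsplit
  rw [htr]
  refine IsIntegral.multiset_sum ?_
  intro μ hμ
  have hroot : (LinearMap.charpoly (ρ g)).IsRoot μ := by
    exact (Polynomial.mem_roots'.1 hμ).2
  have heig : Module.End.HasEigenvalue (ρ g) μ :=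
    (Module.End.hasEigenvalue_iff_isRoot_charpoly _ _).2 hroot
  obtain ⟨v, hv⟩ := heig.exists_hasEigenvector
  have hpow : μ ^ (Nat.card G) = 1 := by
    have h1 : ((ρ g) ^ (Nat.card G)) v = μ ^ (Nat.card G) • v := hv.pow_apply _
    rw [← map_pow, pow_card_eq_one', map_one] at h1
    have h2 : (μ ^ (Nat.card G) - 1) • v = 0 := by
      rw [sub_smul, ← h1, one_smul]; simp
    rcases smul_eq_zero.1 h2 with h3 | h3
    · exact sub_eq_zero.1 h3
    · exact absurd h3 hv.2
  refine ⟨Polynomial.X ^ (Nat.card G) - 1, ?_, ?_⟩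
  · exact Polynomial.monic_X_pow_sub_C (1 : ℤ) (Nat.card_pos.ne')
  · simp [hpow]

/-- If a quotient of natural numbers is an algebraic integer, it is a natural number. -/
theorem dvd_of_isIntegral_div (a b : ℕ) (hb : b ≠ 0) (h : IsIntegral ℤ ((a : ℂ) / b)) :
    b ∣ a := by
  have h1 : IsIntegral ℤ ((a : ℚ) / b) := by
    have h2 : ((a : ℂ) / b) = algebraMap ℚ ℂ ((a : ℚ) / b) := by simp
    rw [h2] at h
    exact (isIntegral_algebraMap_iff (algebraMap ℚ ℂ).injective).1 h
  obtain ⟨y, hy⟩ := IsIntegrallyClosed.isIntegral_iff.1 h1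
  have hb' : (b : ℚ) ≠ 0 := Nat.cast_ne_zero.2 hb
  rw [eq_div_iff hb'] at hy
  have h3 : (y * b : ℤ) = a := by
    have : ((y * b : ℤ) : ℚ) = (a : ℤ) := by
      push_cast
      exact hy
    exact_mod_cast this
  have h4 : (b : ℤ) ∣ (a : ℤ) := ⟨y, by rw [← h3, mul_comm]⟩
  exact_mod_cast h4

/-- A complex number acting on a nonzero vector like an algebraic-integer combination of the
operators of a finite group representation is an algebraic integer. -/
theorem isIntegral_of_eq_sum {G : Type*} [Group G] [Finite G] {V : Type*} [AddCommGroup V]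
    [Module ℂ V] (ρ : Representation ℂ G V) [Nontrivial V] {ι : Type*} [Fintype ι]
    (a : ι → ℂ) (x : ι → G) (ha : ∀ i, IsIntegral ℤ (a i)) (s : ℂ)
    (hs : ∑ i, a i • ρ (x i) = s • (1 : Module.End ℂ V)) : IsIntegral ℤ s := by
  classical
  obtain ⟨v, hv⟩ := exists_ne (0 : V)
  let R := integralClosure ℤ ℂ
  let L : Submodule R V := Submodule.span R (Set.range fun g : G => ρ g v)
  have hmem : ∀ g : G, ρ g v ∈ L := fun g => Submodule.subset_span ⟨g, rfl⟩
  have hfg : L.FG := Submodule.fg_span (Set.finite_range _)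
  have hne : L ≠ ⊥ := by
    intro h
    have h1 := hmem 1
    rw [h, Submodule.mem_bot] at h1
    apply hv
    simpa using h1
  have key : ∀ n ∈ L, s • n ∈ L := by
    intro n hn
    induction hn using Submodule.span_induction with
    | mem n hn =>
      obtain ⟨g, rfl⟩ := hn
      have h1 : s • ρ g v = ∑ i, (⟨a i, ha i⟩ : R) • ρ (x i * g) v := by
        have h2 := congrArg (fun f : Module.End ℂ V => f (ρ g v)) hs
        simp only [LinearMap.sum_apply, LinearMap.smul_apply, Module.End.one_apply] at h2
        rw [← h2]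
        refine Finset.sum_congr rfl fun i _ => ?_
        rw [map_mul]
        rfl
      rw [h1]
      exact Submodule.sum_mem _ fun i _ => L.smul_mem _ (hmem _)
    | zero => rw [smul_zero]; exact L.zero_mem
    | add x y _ _ hx hy => rw [smul_add]; exact L.add_mem hx hy
    | smul r x _ hx =>
      rw [smul_comm]
      exact L.smul_mem _ hx
  have h1 : IsIntegral R s := isIntegral_of_smul_mem_submodule L hne hfg s key
  exact isIntegral_trans (A := R) s h1

/-- The degree of an irreducible representation of a finite group divides the index of any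
subgroup acting by scalars. -/
theorem degree_dvd_index_of_scalar {G : Type*} [Group G] [Finite G] {V : Type*} [AddCommGroup V]
    [Module ℂ V] [FiniteDimensional ℂ V] (ρ : Representation ℂ G V) (h : ρ.IsIrreducible)
    (K : Subgroup G) (hK : ∀ k ∈ K, ∃ c : ℂ, ρ k = c • (1 : Module.End ℂ V)) :
    finrank ℂ V ∣ K.index := by
  classical
  have := Fintype.ofFinite G
  have := Fintype.ofFinite (G ⧸ K)
  have hV : Nontrivial V := ((isIrreducible_iff ρ).1 h).1
  have hcard : (Nat.card G : ℂ) ≠ 0 := Nat.cast_ne_zero.2 Nat.card_pos.ne'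
  have hinv : Invertible (Nat.card G : ℂ) := invertibleOfNonzero hcard
  have hdim : (finrank ℂ V : ℂ) ≠ 0 := Nat.cast_ne_zero.2 (Module.finrank_pos).ne'
  -- orthogonality
  have horth : ∑ g : G, ρ.character g * ρ.character g⁻¹ = Nat.card G := by
    have h1 := char_orthonormal ρ ρ
    rw [if_pos ⟨Representation.Equiv.refl ρ⟩] at h1
    field_simp at h1
    exact h1
  set f : G → Module.End ℂ V := fun g => ρ.character g⁻¹ • ρ g with hf
  have hfK : ∀ g : G, ∀ k ∈ K, f (g * k) = f g := by
    intro g k hk
    obtain ⟨c, hc⟩ := hK k hk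
    have hc0 : c ≠ 0 := by
      rintro rfl
      have h1 : ρ k * ρ k⁻¹ = 1 := by rw [← map_mul, mul_inv_cancel, map_one]
      rw [hc, zero_smul, zero_mul] at h1
      exact zero_ne_one h1
    have hcinv : ρ k⁻¹ = c⁻¹ • (1 : Module.End ℂ V) := by
      have h1 : ρ k * ρ k⁻¹ = 1 := by rw [← map_mul, mul_inv_cancel, map_one]
      rw [hc, smul_mul_assoc, one_mul] at h1
      rw [← h1, smul_smul, inv_mul_cancel₀ hc0, one_smul]
    have h2 : ρ.character (g * k)⁻¹ = c⁻¹ * ρ.character g⁻¹ := by
      rw [mul_inv_rev]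
      show LinearMap.trace ℂ V (ρ (k⁻¹ * g⁻¹)) = c⁻¹ * LinearMap.trace ℂ V (ρ g⁻¹)
      rw [map_mul, hcinv, smul_mul_assoc, one_mul, map_smul, smul_eq_mul]
    rw [hf]
    simp only
    rw [h2, map_mul, hc, mul_smul_comm, mul_one, smul_smul, mul_right_comm,
      inv_mul_cancel₀ hc0, one_mul]
  -- total sum
  have hcomm : ∀ x : G, (∑ g : G, f g) * ρ x = ρ x * ∑ g : G, f g := by
    intro x
    rw [Finset.sum_mul, Finset.mul_sum]
    refine Fintype.sum_equiv (MulAut.conj x⁻¹).toEquiv _ _ fun g => ?_
    have h1 : (MulAut.conj x⁻¹).toEquiv g = x⁻¹ * g * x := by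
      show MulAut.conj x⁻¹ g = _
      rw [MulAut.conj_apply, inv_inv]
    rw [h1, hf]
    simp only
    have h2 : (x⁻¹ * g * x)⁻¹ = x⁻¹ * g⁻¹ * (x⁻¹)⁻¹ := by group
    rw [h2, char_conj, smul_mul_assoc, mul_smul_comm, ← map_mul, ← map_mul]
    congr 2
    group
  obtain ⟨c, hc⟩ := exists_smul_of_comm ρ h _ hcomm
  have hctr : c * finrank ℂ V = Nat.card G := by
    have h1 := congrArg (LinearMap.trace ℂ V) hc
    rw [map_sum, map_smul, LinearMap.trace_one, smul_eq_mul] at h1
    rw [← h1, ← horth]
    refine Finset.sum_congr rfl fun g _ => ?_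
    rw [hf]
    simp only [map_smul, smul_eq_mul]
    rw [mul_comm]
    rfl
  -- sum over cosets
  have hsum : ∑ g : G, f g = (Nat.card K : ℂ) • ∑ q : G ⧸ K, f q.out := by
    have h1 : ∑ g : G, f g = ∑ q : G ⧸ K, ∑ g ∈ Finset.univ.filter (fun g : G => (g : G ⧸ K) = q),
        f g := by
      rw [Finset.sum_fiberwise]
    rw [h1, Finset.smul_sum]
    refine Finset.sum_congr rfl fun q _ => ?_
    have h2 : ∀ g ∈ Finset.univ.filter (fun g : G => (g : G ⧸ K) = q), f g = f q.out := by
      intro g hg
      rw [Finset.mem_filter] at hg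
      have h3 : (q.out : G ⧸ K) = (g : G ⧸ K) := by rw [hg.2]; exact Quotient.out_eq q
      rw [QuotientGroup.eq] at h3
      have h4 := hfK q.out _ h3
      rw [mul_inv_cancel_left] at h4
      exact h4
    rw [Finset.sum_congr rfl h2, Finset.sum_const, ← Nat.cast_smul_eq_nsmul ℂ]
    congr 2
    obtain ⟨x, rfl⟩ := QuotientGroup.mk_surjective q
    have hinj : Function.Injective (fun k : K => x * (k : G)) :=
      fun a b hab => Subtype.ext (mul_left_cancel hab)
    have h5 : Finset.univ.filter (fun g : G => (g : G ⧸ K) = (x : G ⧸ K)) =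
        (Finset.univ : Finset K).map ⟨fun k : K => x * (k : G), hinj⟩ := by
      ext g
      simp only [Finset.mem_filter, Finset.mem_univ, true_and, Finset.mem_map,
        Function.Embedding.coeFn_mk]
      rw [eq_comm, QuotientGroup.eq]
      constructor
      · intro hg
        exact ⟨⟨_, hg⟩, by simp⟩
      · rintro ⟨k, rfl⟩
        simp
    rw [h5, Finset.card_map, Finset.card_univ, Nat.card_eq_fintype_card]
  have hcardK : (Nat.card K : ℂ) ≠ 0 := Nat.cast_ne_zero.2 Nat.card_pos.ne'
  have hz : ∑ q : G ⧸ K, ρ.character (q.out)⁻¹ • ρ q.out =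
      ((K.index : ℂ) / finrank ℂ V) • (1 : Module.End ℂ V) := by
    have h1 : (Nat.card K : ℂ) • ∑ q : G ⧸ K, f q.out = c • 1 := by rw [← hsum, hc]
    have h2 : c = (Nat.card K : ℂ) * ((K.index : ℂ) / finrank ℂ V) := by
      rw [mul_div_assoc', eq_div_iff hdim, hctr, ← Subgroup.card_mul_index K]
      push_cast
      ring
    rw [h2, ← smul_smul] at h1
    exact smul_right_injective _ hcardK h1
  have hint := isIntegral_of_eq_sum ρ (fun q : G ⧸ K => ρ.character (q.out)⁻¹)
    (fun q => q.out) (fun q => character_isIntegral ρ _) _ hz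
  exact dvd_of_isIntegral_div _ _ (Module.finrank_pos).ne' hint

end Cfsg.Agent.CharactersDeep.ScalarIndex
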