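import Mathlib
import Cfsg.Agent.CharactersDeep.InvRep
import Cfsg.Agent.CharactersDeep.ScalarIndex

/-!
# The finite covering group of the inertia group, and its action on the multiplicity space

`ρ` is an irreducible representation of the normal subgroup `N` of the finite group `G`.
`cover ρ` is the finite group of pairs `(g, A)` with `A ρ(n) = ρ(g n g⁻¹) A` and
`det A ^ |G| = 1`.  If `σ` is an irreducible representation of `G`, the space of intertwining maps
from `ρ` to `σ|N` is an irreducible representation of `cover ρ` (if it is nonzero).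
-/

set_option autoImplicit false

open Representation Module

namespace Cfsg.Agent.CharactersDeep.Cover

open Cfsg.Agent.CharactersDeep.InvRep Cfsg.Agent.CharactersDeep.ScalarIndex

variable {G : Type*} [Group G] {N : Subgroup G} [hN : N.Normal] {V : Type*} [AddCommGroup V]
  [Module ℂ V]

/-- The group of pairs `(g, A)` where `A` intertwines `ρ` and its conjugate by `g`, with
`det A ^ |G| = 1`. -/
noncomputable def cover (ρ : Representation ℂ N V) : Subgroup (G × (Module.End ℂ V)ˣ) where
  carrier := {x | (∀ n : N, (x.2 : Module.End ℂ V) * ρ n = ρ (MulAut.conjNormal x.1 n) * x.2) ∧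
    LinearMap.det (x.2 : Module.End ℂ V) ^ Nat.card G = 1}
  mul_mem' := by
    rintro ⟨g, A⟩ ⟨h, B⟩ ⟨h1, h2⟩ ⟨h3, h4⟩
    refine ⟨fun n => ?_, ?_⟩
    · simp only [Prod.mk_mul_mk, Units.val_mul] at h1 h3 ⊢
      have h5 : (MulAut.conjNormal (g * h) n : N) =
          MulAut.conjNormal g (MulAut.conjNormal h n) := by
        rw [map_mul]; rfl
      rw [h5, mul_assoc, h3, ← mul_assoc, h1, mul_assoc]
    · simp only [Prod.mk_mul_mk, Units.val_mul, map_mul, mul_pow] at h2 h4 ⊢
      rw [h2, h4, one_mul]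
  one_mem' := by
    refine ⟨fun n => ?_, ?_⟩
    · simp
    · simp
  inv_mem' := by
    rintro ⟨g, A⟩ ⟨h1, h2⟩
    refine ⟨fun n => ?_, ?_⟩
    · simp only [Prod.inv_mk] at h1 ⊢
      have h5 := h1 (MulAut.conjNormal g⁻¹ n)
      have h6 : (MulAut.conjNormal g (MulAut.conjNormal g⁻¹ n) : N) = n := by
        rw [← MulAut.mul_apply, ← map_mul, mul_inv_cancel, map_one, MulAut.one_apply]
      rw [h6] at h5
      rw [Units.inv_mul_eq_iff_eq_mul, ← mul_assoc, h5, Units.mul_inv_cancel_right]
    · simp only [Prod.inv_mk] at h2 ⊢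
      have h3 : LinearMap.det (A : Module.End ℂ V) * LinearMap.det ((A⁻¹ : (Module.End ℂ V)ˣ) :
          Module.End ℂ V) = 1 := by
        rw [← map_mul, Units.mul_inv, map_one]
      have h4 := congrArg (fun x => x ^ Nat.card G) h3
      simp only [mul_pow, one_pow] at h4
      rw [h2, one_mul] at h4
      exact h4

theorem mem_cover (ρ : Representation ℂ N V) (x : G × (Module.End ℂ V)ˣ) :
    x ∈ cover ρ ↔ (∀ n : N, (x.2 : Module.End ℂ V) * ρ n = ρ (MulAut.conjNormal x.1 n) * x.2) ∧
    LinearMap.det (x.2 : Module.End ℂ V) ^ Nat.card G = 1 := Iff.rfl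

/-- projection to `G` -/
noncomputable def proj (ρ : Representation ℂ N V) : cover ρ →* G :=
  (MonoidHom.fst _ _).comp (cover ρ).subtype

/-- the representation of the covering group on `V` -/
noncomputable def rep (ρ : Representation ℂ N V) : Representation ℂ (cover ρ) V :=
  (Units.coeHom _).comp ((MonoidHom.snd _ _).comp (cover ρ).subtype)

theorem rep_conj (ρ : Representation ℂ N V) (x : cover ρ) (n : N) :
    rep ρ x * ρ n = ρ (MulAut.conjNormal (proj ρ x) n) * rep ρ x := x.2.1 n

theorem rep_inv_conj (ρ : Representation ℂ N V) (x : cover ρ) (n : N) :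
    rep ρ x⁻¹ * ρ (MulAut.conjNormal (proj ρ x) n) = ρ n * rep ρ x⁻¹ := by
  have h := rep_conj ρ x⁻¹ (MulAut.conjNormal (proj ρ x) n)
  rw [h, map_inv, ← MulAut.mul_apply, ← map_mul, inv_mul_cancel, map_one, MulAut.one_apply]

section finite

variable [Finite G] [FiniteDimensional ℂ V]

omit [Finite G] in
/-- Elements of the cover over elements of `N` act on `V` as scalar multiples of `ρ`. -/
theorem rep_of_proj_mem (ρ : Representation ℂ N V) (hρ : ρ.IsIrreducible) (x : cover ρ)
    (n : N) (hx : proj ρ x = n) : ∃ c : ℂ, c ≠ 0 ∧ rep ρ x = c • ρ n := by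
  have hV : Nontrivial V := ((isIrreducible_iff ρ).1 hρ).1
  obtain ⟨c, hc⟩ := exists_smul_of_comm ρ hρ (ρ n⁻¹ * rep ρ x) (fun m => by
    rw [mul_assoc, rep_conj, hx, ← mul_assoc, ← mul_assoc, ← map_mul]
    congr 1
    rw [← map_mul]
    congr 1
    ext
    simp [mul_assoc])
  have h1 : rep ρ x = c • ρ n := by
    have := congrArg (fun y => ρ n * y) hc
    simp only [← mul_assoc, ← map_mul, mul_inv_cancel, map_one, one_mul] at this
    rw [this]
    simp
  refine ⟨c, ?_, h1⟩
  rintro rfl
  have h2 : rep ρ x * rep ρ x⁻¹ = 1 := by rw [← map_mul, mul_inv_cancel, map_one]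
  rw [h1, zero_smul, zero_mul] at h2
  exact zero_ne_one h2

theorem finite_cover (ρ : Representation ℂ N V) (hρ : ρ.IsIrreducible) : Finite (cover ρ) := by
  have hV : Nontrivial V := ((isIrreducible_iff ρ).1 hρ).1
  have h1 : Finite (cover ρ ⧸ (proj ρ).ker) :=
    Finite.of_injective _ (QuotientGroup.kerLift_injective (proj ρ))
  have h2 : Finite (proj ρ).ker := by
    set m := finrank ℂ V * Nat.card G with hm
    have hm0 : 0 < m := Nat.mul_pos Module.finrank_pos Nat.card_pos
    have hfin : {c : ℂ | c ^ m = 1}.Finite := by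
      have := (Polynomial.nthRoots m (1 : ℂ)).toFinset.finite_toSet
      refine this.subset fun c hc => ?_
      simp only [Finset.mem_coe, Multiset.mem_toFinset]
      rw [Polynomial.mem_nthRoots hm0]
      exact hc
    have hfin' : Finite {c : ℂ | c ^ m = 1} := hfin
    have key : ∀ x : (proj ρ).ker, ∃ c : {c : ℂ | c ^ m = 1},
        rep ρ (x : cover ρ) = (c : ℂ) • (1 : Module.End ℂ V) := by
      rintro ⟨x, hx⟩
      rw [MonoidHom.mem_ker] at hx
      obtain ⟨c, hc0, hc⟩ := rep_of_proj_mem ρ hρ x 1 (by rw [hx]; rfl)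
      rw [map_one] at hc
      refine ⟨⟨c, ?_⟩, hc⟩
      have h3 : LinearMap.det (rep ρ x) ^ Nat.card G = 1 := x.2.2
      rw [hc, LinearMap.det_smul, map_one, mul_one, ← pow_mul] at h3
      exact h3
    choose f hf using key
    refine Finite.of_injective f fun x y hxy => ?_
    have h3 : rep ρ (x : cover ρ) = rep ρ (y : cover ρ) := by rw [hf, hf, hxy]
    have hx := MonoidHom.mem_ker.1 x.2
    have hy := MonoidHom.mem_ker.1 y.2
    apply Subtype.ext
    apply Subtype.ext
    apply Prod.ext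
    · exact hx.trans hy.symm
    · apply Units.ext
      exact h3
  exact Finite.of_subgroup_quotient (proj ρ).ker

omit [Finite G] in
/-- Scaling an intertwiner to determinant one. -/
theorem exists_mem_cover (ρ : Representation ℂ N V) (hρ : ρ.IsIrreducible) (g : G)
    (B : (Module.End ℂ V)ˣ) (hB : ∀ n : N, (B : Module.End ℂ V) * ρ n =
      ρ (MulAut.conjNormal g n) * B) :
    ∃ x : cover ρ, proj ρ x = g ∧ ∃ c : ℂ, c ≠ 0 ∧ (B : Module.End ℂ V) = c • rep ρ x := by
  have hV : Nontrivial V := ((isIrreducible_iff ρ).1 hρ).1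
  have hd : 0 < finrank ℂ V := Module.finrank_pos
  have hdet : LinearMap.det (B : Module.End ℂ V) ≠ 0 := by
    have h1 : IsUnit (LinearMap.det (B : Module.End ℂ V)) := B.isUnit.map _
    exact h1.ne_zero
  obtain ⟨z, hz⟩ := IsAlgClosed.exists_pow_nat_eq (LinearMap.det (B : Module.End ℂ V))⁻¹ hd
  have hz0 : z ≠ 0 := by
    rintro rfl
    rw [zero_pow hd.ne'] at hz
    exact hdet (inv_eq_zero.1 hz.symm)
  set zu : (Module.End ℂ V)ˣ := Units.map (algebraMap ℂ (Module.End ℂ V)).toMonoidHom
    (Units.mk0 z hz0) with hzu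
  have hzuval : (zu : Module.End ℂ V) = algebraMap ℂ _ z := rfl
  have hval : ((zu * B : (Module.End ℂ V)ˣ) : Module.End ℂ V) = z • (B : Module.End ℂ V) := by
    rw [Units.val_mul, hzuval, ← Algebra.smul_def]
  have hmem : ((g, zu * B) : G × (Module.End ℂ V)ˣ) ∈ cover ρ := by
    rw [mem_cover]
    refine ⟨fun n => ?_, ?_⟩
    · simp only
      rw [hval, smul_mul_assoc, hB, mul_smul_comm]
    · simp only
      rw [hval, LinearMap.det_smul, hz, inv_mul_cancel₀ hdet, one_pow]
  refine ⟨⟨(g, zu * B), hmem⟩, rfl, z⁻¹, inv_ne_zero hz0, ?_⟩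
  show (B : Module.End ℂ V) = z⁻¹ • ((zu * B : (Module.End ℂ V)ˣ) : Module.End ℂ V)
  rw [hval, smul_smul, inv_mul_cancel₀ hz0, one_smul]

/-- The range of the projection is the inertia group. -/
theorem mem_range_proj (ρ : Representation ℂ N V) (hρ : ρ.IsIrreducible) (g : G) :
    g ∈ (proj ρ).range ↔
      ∀ n : N, ρ.character ⟨g * n * g⁻¹, hN.conj_mem (n : G) n.2 g⟩ = ρ.character n := by
  constructor
  · rintro ⟨x, rfl⟩ n
    have h1 := rep_conj ρ x n
    have h2 : ρ (MulAut.conjNormal (proj ρ x) n) = rep ρ x * ρ n * rep ρ x⁻¹ := by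
      rw [h1, mul_assoc, ← map_mul, mul_inv_cancel, map_one, mul_one]
    show LinearMap.trace ℂ V (ρ (MulAut.conjNormal (proj ρ x) n)) = LinearMap.trace ℂ V (ρ n)
    rw [h2, LinearMap.trace_mul_comm, ← mul_assoc, ← map_mul, inv_mul_cancel, map_one, one_mul]
  · intro h
    obtain ⟨T, hT⟩ := exists_intertwiner ρ hρ g h
    obtain ⟨x, hx, -⟩ := exists_mem_cover ρ hρ g T hT
    exact ⟨x, hx⟩

end finite

end Cfsg.Agent.CharactersDeep.Cover
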