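import Mathlib
import Cfsg.Prelude.Def_Characters
import Cfsg.Agent.Characters.Core
import Cfsg.Agent.Characters.Values
import Cfsg.Agent.CharactersDeep.NormalInd

/-!
# Class functions that are combinations of characters with algebraic integer coefficients

`IsRChar G f` : `f` is a class function all of whose inner products with irreducible characters
are algebraic integers.  These functions form a ring (`IsRChar.mul` etc.), closed under
pulling back along homomorphisms and under induction, and their values are algebraic integers.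
-/

set_option autoImplicit false
open scoped ComplexConjugate
open Cfsg Cfsg.Agent.Characters.Core

namespace Cfsg.Agent.CharactersDeep.RChar

/-- A class function whose inner products with the irreducible characters are algebraic
integers. -/
def IsRChar (G : Type*) [Group G] (f : G → ℂ) : Prop :=
  IsClassFunction G f ∧
    ∀ [Fintype G] (χ : G → ℂ), IsIrrCharacter G χ → IsIntegral ℤ (classInner f χ)

theorem isIntegral_natCast (n : ℕ) : IsIntegral ℤ (n : ℂ) := by
  have := isIntegral_algebraMap (R := ℤ) (A := ℂ) (x := (n : ℤ))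
  simpa using this

theorem isIntegral_intCast (n : ℤ) : IsIntegral ℤ (n : ℂ) := by
  have := isIntegral_algebraMap (R := ℤ) (A := ℂ) (x := n)
  simpa using this

theorem isIntegral_conj {z : ℂ} (hz : IsIntegral ℤ z) : IsIntegral ℤ (conj z) :=
  hz.map (starRingEnd ℂ).toIntAlgHom

/-- If an integer is `p` times an algebraic integer then it is divisible by `p`. -/
theorem dvd_of_isIntegral {p : ℕ} (hp : p ≠ 0) {m : ℤ} {z : ℂ} (hz : IsIntegral ℤ z)
    (h : (m : ℂ) = p * z) : (p : ℤ) ∣ m := by
  have hp' : (p : ℂ) ≠ 0 := by exact_mod_cast hp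
  have hz' : z = algebraMap ℚ ℂ ((m : ℚ) / p) := by
    rw [map_div₀]
    simp only [map_intCast, map_natCast]
    rw [h]
    field_simp
  rw [hz', isIntegral_algebraMap_iff (algebraMap ℚ ℂ).injective] at hz
  obtain ⟨k, hk⟩ := IsIntegrallyClosed.isIntegral_iff.1 hz
  refine ⟨k, ?_⟩
  have hp'' : (p : ℚ) ≠ 0 := by exact_mod_cast hp
  have h2 : (k : ℚ) = (m : ℚ) / p := by simpa using hk
  have h3 : (m : ℚ) = (p : ℚ) * k := by
    rw [h2]; field_simp
  exact_mod_cast h3

theorem isIntegral_character {G : Type*} [Group G] [Finite G] {χ : G → ℂ}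
    (hχ : IsCharacter G χ) (g : G) : IsIntegral ℤ (χ g) := by
  have := Fintype.ofFinite G
  obtain ⟨n, ρ, rfl⟩ := hχ
  exact Cfsg.Agent.Characters.Values.character_isIntegral ρ g

variable {G : Type*} [Group G] [Finite G]

omit [Finite G] in
theorem isRChar_of_isCharacter {χ : G → ℂ} (hχ : IsCharacter G χ) : IsRChar G χ := by
  refine ⟨isCharacter_isClassFunction hχ, fun ψ hψ => ?_⟩
  obtain ⟨n, hn⟩ := classInner_isNat hχ (isIrr_isCharacter hψ)
  rw [hn]
  exact isIntegral_natCast n

theorem IsRChar.classInner_isIntegral [Fintype G] {f χ : G → ℂ} (hf : IsRChar G f)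
    (hχ : IsCharacter G χ) : IsIntegral ℤ (classInner f χ) := by
  have := finite_irr (G := G)
  have := Fintype.ofFinite (IrrCharacter G)
  obtain ⟨m, hm⟩ := isCharacter_iff.1 hχ
  rw [hm, classInner_sum_right]
  refine IsIntegral.sum _ (fun ψ _ => ?_)
  rw [← Nat.cast_smul_eq_nsmul ℂ, classInner_smul_right, Complex.conj_natCast]
  exact (isIntegral_natCast _).mul (hf.2 _ ψ.2)

omit [Finite G] in
theorem isRChar_of_sum {ι : Type*} (s : Finset ι) (a : ι → ℂ) (χ : ι → G → ℂ)
    (ha : ∀ i ∈ s, IsIntegral ℤ (a i)) (hχ : ∀ i ∈ s, IsRChar G (χ i)) :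
    IsRChar G (∑ i ∈ s, a i • χ i) := by
  constructor
  · intro g h
    simp only [Finset.sum_apply, Pi.smul_apply]
    exact Finset.sum_congr rfl (fun i hi => by rw [(hχ i hi).1 g h])
  · intro _ ψ hψ
    rw [classInner_sum_left]
    refine IsIntegral.sum _ (fun i hi => ?_)
    rw [classInner_smul_left]
    exact (ha i hi).mul ((hχ i hi).2 ψ hψ)

theorem IsRChar.exists_sum {f : G → ℂ} [Fintype (IrrCharacter G)] (hf : IsRChar G f) :
    ∃ a : IrrCharacter G → ℂ, (∀ χ, IsIntegral ℤ (a χ)) ∧
      f = ∑ χ : IrrCharacter G, a χ • (χ : G → ℂ) := by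
  have := Fintype.ofFinite G
  exact ⟨fun χ => classInner f χ, fun χ => hf.2 _ χ.2, classFunction_eq_sum hf.1⟩

omit [Finite G] in
theorem isRChar_sum {ι : Type*} (s : Finset ι) (χ : ι → G → ℂ)
    (hχ : ∀ i ∈ s, IsRChar G (χ i)) : IsRChar G (∑ i ∈ s, χ i) := by
  have h := isRChar_of_sum s (fun _ => 1) χ (fun _ _ => isIntegral_one) hχ
  simpa using h

omit [Finite G] in
theorem isRChar_smul {a : ℂ} (ha : IsIntegral ℤ a) {f : G → ℂ} (hf : IsRChar G f) :
    IsRChar G (a • f) := by
  have h := isRChar_of_sum (Finset.univ : Finset Unit) (fun _ => a) (fun _ => f)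
    (fun _ _ => ha) (fun _ _ => hf)
  simpa using h

omit [Finite G] in
theorem isRChar_one : IsRChar G (1 : G → ℂ) := isRChar_of_isCharacter isCharacter_one

omit [Finite G] in
theorem isRChar_zero : IsRChar G (0 : G → ℂ) := by
  have h := isRChar_sum (∅ : Finset Unit) (fun _ => (0 : G → ℂ)) (fun i hi => by simp at hi)
  simpa using h

omit [Finite G] in
theorem IsRChar.add {f g : G → ℂ} (hf : IsRChar G f) (hg : IsRChar G g) : IsRChar G (f + g) := by
  have h := isRChar_sum (Finset.univ : Finset Bool) (fun b => cond b f g)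
    (fun b _ => by cases b <;> assumption)
  simpa using h

theorem IsRChar.mul {f g : G → ℂ} (hf : IsRChar G f) (hg : IsRChar G g) : IsRChar G (f * g) := by
  have := finite_irr (G := G)
  have := Fintype.ofFinite (IrrCharacter G)
  obtain ⟨a, ha, hfa⟩ := hf.exists_sum
  obtain ⟨b, hb, hgb⟩ := hg.exists_sum
  have key : f * g = ∑ p : IrrCharacter G × IrrCharacter G,
      (a p.1 * b p.2) • ((p.1 : G → ℂ) * (p.2 : G → ℂ)) := by
    conv_lhs => rw [hfa, hgb]
    rw [Finset.sum_mul_sum, ← Finset.univ_product_univ, Finset.sum_product]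
    refine Finset.sum_congr rfl (fun χ _ => Finset.sum_congr rfl (fun ψ _ => ?_))
    rw [smul_mul_smul_comm]
  rw [key]
  exact isRChar_of_sum _ _ _ (fun p _ => (ha _).mul (hb _)) (fun p _ =>
    isRChar_of_isCharacter (isCharacter_mul (isIrr_isCharacter p.1.2) (isIrr_isCharacter p.2.2)))

theorem IsRChar.pow {f : G → ℂ} (hf : IsRChar G f) (n : ℕ) : IsRChar G (f ^ n) := by
  induction n with
  | zero => rw [pow_zero]; exact isRChar_one
  | succ n ih => rw [pow_succ]; exact ih.mul hf

theorem IsRChar.comp {H : Type*} [Group H] [Finite H] (φ : H →* G) {f : G → ℂ}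
    (hf : IsRChar G f) : IsRChar H (f ∘ φ) := by
  have := finite_irr (G := G)
  have := Fintype.ofFinite (IrrCharacter G)
  obtain ⟨a, ha, hfa⟩ := hf.exists_sum
  have key : f ∘ φ = ∑ χ : IrrCharacter G, a χ • ((χ : G → ℂ) ∘ φ) := by
    funext h
    simp only [Function.comp, Finset.sum_apply, Pi.smul_apply]
    conv_lhs => rw [hfa]
    simp only [Finset.sum_apply, Pi.smul_apply]
  rw [key]
  exact isRChar_of_sum _ _ _ (fun p _ => ha _) (fun χ _ =>
    isRChar_of_isCharacter (isCharacter_comp φ (isIrr_isCharacter χ.2)))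

theorem IsRChar.restrict (H : Subgroup G) {f : G → ℂ}
    (hf : IsRChar G f) : IsRChar H (fun h : H => f h) :=
  hf.comp H.subtype

omit [Finite G] in
theorem isRChar_indFun [inst : Fintype G] (H : Subgroup G) {f : H → ℂ}
    (hf : IsRChar H f) : IsRChar G (indFun H f) := by
  refine ⟨NormalInd.indFun_isClassFunction H f, fun {inst'} χ hχ => ?_⟩
  obtain rfl : inst = inst' := Subsingleton.elim _ _
  have := Fintype.ofFinite H
  rw [NormalInd.classInner_indFun H f χ (isIrr_isClassFunction hχ)]
  exact hf.classInner_isIntegral (isCharacter_comp H.subtype (isIrr_isCharacter hχ))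

theorem IsRChar.isIntegral_apply {f : G → ℂ} (hf : IsRChar G f) (g : G) : IsIntegral ℤ (f g) := by
  have := finite_irr (G := G)
  have := Fintype.ofFinite (IrrCharacter G)
  obtain ⟨a, ha, hfa⟩ := hf.exists_sum
  rw [hfa]
  simp only [Finset.sum_apply, Pi.smul_apply, smul_eq_mul]
  exact IsIntegral.sum _ (fun χ _ => (ha χ).mul (isIntegral_character (isIrr_isCharacter χ.2) g))

theorem IsRChar.conj {f : G → ℂ} (hf : IsRChar G f) : IsRChar G (fun g => conj (f g)) := by
  have := finite_irr (G := G)
  have := Fintype.ofFinite (IrrCharacter G)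
  obtain ⟨a, ha, hfa⟩ := hf.exists_sum
  have key : (fun g => (starRingEnd ℂ) (f g)) = ∑ χ : IrrCharacter G,
      (starRingEnd ℂ (a χ)) • (fun g => (starRingEnd ℂ) ((χ : G → ℂ) g)) := by
    funext g
    conv_lhs => rw [hfa]
    simp only [Finset.sum_apply, Pi.smul_apply, smul_eq_mul, map_sum, map_mul]
  rw [key]
  exact isRChar_of_sum _ _ _ (fun χ _ => isIntegral_conj (ha χ)) (fun χ _ =>
    isRChar_of_isCharacter (isCharacter_conj (isIrr_isCharacter χ.2)))

/-- The inner product of two such functions is an algebraic integer. -/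
theorem IsRChar.classInner [Fintype G] {f g : G → ℂ} (hf : IsRChar G f) (hg : IsRChar G g) :
    IsIntegral ℤ (Cfsg.classInner f g) := by
  have := finite_irr (G := G)
  have := Fintype.ofFinite (IrrCharacter G)
  rw [classInner_eq_sum hf.1 hg.1]
  exact IsIntegral.sum _ (fun χ _ => (hf.2 _ χ.2).mul (isIntegral_conj (hg.2 _ χ.2)))

end Cfsg.Agent.CharactersDeep.RChar
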