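import Mathlib
import Cfsg.Prelude.Def_Characters
import Cfsg.Agent.Characters.Core
import Cfsg.Agent.CharactersDeep.RChar
import Cfsg.Agent.CharactersDeep.PElem

/-!
# Auxiliary results for Dade's theorem on `p`-elementary detection

* `orbit_sum` : the sum of an invariant function over a set on which a group acts with orbits of
  `p`-power size is divisible by `p` if the values at fixed points are.
* `average_indFun` : the pairing of an induced function with an invariant function on a normal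
  subgroup.
-/

set_option autoImplicit false
open scoped ComplexConjugate
open Cfsg Cfsg.Agent.Characters.Core Cfsg.Agent.CharactersDeep.RChar

namespace Cfsg.Agent.CharactersDeep.DadeAux

/-- `z` is `p` times an algebraic integer. -/
def PDiv (p : ℕ) (z : ℂ) : Prop := ∃ w : ℂ, IsIntegral ℤ w ∧ z = p * w

theorem PDiv.sum {ι : Type*} {p : ℕ} (s : Finset ι) (f : ι → ℂ) (h : ∀ i ∈ s, PDiv p (f i)) :
    PDiv p (∑ i ∈ s, f i) := by
  classical
  choose! w hw hf using h
  refine ⟨∑ i ∈ s, w i, IsIntegral.sum _ hw, ?_⟩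
  rw [Finset.mul_sum]
  exact Finset.sum_congr rfl hf

theorem PDiv.mul_left {p : ℕ} {a z : ℂ} (ha : IsIntegral ℤ a) (h : PDiv p z) : PDiv p (a * z) := by
  obtain ⟨w, hw, rfl⟩ := h
  exact ⟨a * w, ha.mul hw, by ring⟩

theorem PDiv.mul_right {p : ℕ} {a z : ℂ} (ha : IsIntegral ℤ a) (h : PDiv p z) :
    PDiv p (z * a) := by
  rw [mul_comm]; exact h.mul_left ha

theorem pDiv_natCast {p n : ℕ} (h : p ∣ n) : PDiv p (n : ℂ) := by
  obtain ⟨m, rfl⟩ := h
  exact ⟨m, RChar.isIntegral_natCast m, by push_cast; ring⟩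

/-- A group acting with orbits of `p`-power size: the sum of an invariant function is divisible
by `p` if its values at the fixed points are. -/
theorem orbit_sum {X E : Type*} [Group E] [MulAction E X] [Fintype X] {p : ℕ}
    (horb : ∀ x : X, ∃ j : ℕ, (MulAction.orbit E x).ncard = p ^ j) (F : X → ℂ)
    (hF : ∀ (e : E) (x : X), F (e • x) = F x) (hint : ∀ x, IsIntegral ℤ (F x))
    (hfix : ∀ x, (∀ e : E, e • x = x) → PDiv p (F x)) : PDiv p (∑ x, F x) := by
  classical
  have h1 : ∑ x, F x = ∑ ω : MulAction.orbitRel.Quotient E X,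
      ∑ x ∈ Finset.univ.filter (fun x => (Quotient.mk'' x : MulAction.orbitRel.Quotient E X) = ω),
        F x := (Finset.sum_fiberwise _ _ _).symm
  rw [h1]
  refine PDiv.sum _ _ (fun ω _ => ?_)
  induction ω using Quotient.inductionOn' with
  | h x =>
    have h2 : ∀ y ∈ Finset.univ.filter (fun y => (Quotient.mk'' y :
        MulAction.orbitRel.Quotient E X) = Quotient.mk'' x), F y = F x := by
      intro y hy
      rw [Finset.mem_filter] at hy
      have h3 : y ∈ MulAction.orbit E x := MulAction.orbitRel_apply.1 (Quotient.exact' hy.2)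
      obtain ⟨e, rfl⟩ := h3
      exact hF e x
    rw [Finset.sum_congr rfl h2, Finset.sum_const, nsmul_eq_mul]
    have h4 : (Finset.univ.filter (fun y => (Quotient.mk'' y :
        MulAction.orbitRel.Quotient E X) = Quotient.mk'' x)).card =
        (MulAction.orbit E x).ncard := by
      rw [← Set.ncard_coe_finset]
      congr 1
      ext y
      simp only [Finset.coe_filter, Finset.mem_univ, true_and, Set.mem_ofPred_eq]
      rw [← MulAction.orbitRel_apply]
      exact ⟨fun h => Quotient.exact' h, fun h => Quotient.sound' h⟩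
    rw [h4]
    obtain ⟨j, hj⟩ := horb x
    rcases Nat.eq_zero_or_pos j with h0 | h0
    · subst h0
      rw [pow_zero] at hj
      refine (hfix x (fun e => ?_)).mul_left (RChar.isIntegral_natCast _)
      rw [Set.ncard_eq_one] at hj
      obtain ⟨a, ha⟩ := hj
      have h5 : e • x ∈ MulAction.orbit E x := MulAction.mem_orbit x e
      have h6 : x ∈ MulAction.orbit E x := MulAction.mem_orbit_self x
      rw [ha] at h5 h6
      rw [Set.mem_singleton_iff] at h5 h6
      rw [h5, h6]
    · refine (pDiv_natCast ?_).mul_right (hint x)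
      rw [hj]
      exact dvd_pow_self p h0.ne'

section action

variable {M E : Type*} [Group M] [Group E] (α : E →* MulAut M)

/-- The action on irreducible characters induced by an action by automorphisms. -/
@[reducible] noncomputable def irrAction : MulAction E (IrrCharacter M) where
  smul e φ := ⟨fun m => φ.1 ((α e)⁻¹ m), isIrr_comp ((α e)⁻¹ : MulAut M).toMonoidHom
    ((α e)⁻¹ : MulAut M).surjective φ.2⟩
  one_smul φ := by
    apply Subtype.ext
    funext m
    show φ.1 ((α 1)⁻¹ m) = φ.1 m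
    rw [map_one]
    rfl
  mul_smul a b φ := by
    apply Subtype.ext
    funext m
    show φ.1 ((α (a * b))⁻¹ m) = φ.1 ((α b)⁻¹ ((α a)⁻¹ m))
    rw [map_mul, mul_inv_rev]
    rfl

/-- Invariant class functions pair to a multiple of `p`, if the second one is a character whose
multiplicities at the invariant irreducible characters are divisible by `p` and the group acts
through a `p`-group. -/
theorem pDiv_classInner [Fintype M] [Finite E] {p : ℕ} (hp : p.Prime) (K : Subgroup E)
    (hK : ∃ j, K.index = p ^ j)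
    (hKtriv : ∀ k ∈ K, ∀ φ : M → ℂ, IsClassFunction M φ → ∀ m, φ (α k m) = φ m)
    {η θ : M → ℂ} (hη : IsRChar M η) (hθ : IsCharacter M θ)
    (hηinv : ∀ e m, η (α e m) = η m) (hθinv : ∀ e m, θ (α e m) = θ m)
    (hfix : ∀ φ : M → ℂ, IsIrrCharacter M φ → (∀ e m, φ (α e m) = φ m) →
      PDiv p (classInner θ φ)) : PDiv p (classInner η θ) := by
  have := finite_irr (G := M)
  have := Fintype.ofFinite (IrrCharacter M)
  rw [classInner_eq_sum hη.1 (isCharacter_isClassFunction hθ)]
  have hreal : ∀ φ : IrrCharacter M, conj (classInner θ (φ : M → ℂ)) = classInner θ φ := by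
    intro φ
    obtain ⟨n, hn⟩ := classInner_isNat hθ (isIrr_isCharacter φ.2)
    rw [hn, Complex.conj_natCast]
  simp only [hreal]
  let _ : MulAction E (IrrCharacter M) := irrAction α
  have hcl : ∀ (f : M → ℂ), (∀ e m, f (α e m) = f m) → ∀ (e : E) (φ : IrrCharacter M),
      classInner f ((e • φ : IrrCharacter M) : M → ℂ) = classInner f φ := by
    intro f hf e φ
    show (Nat.card M : ℂ)⁻¹ * ∑ m, f m * conj (φ.1 ((α e)⁻¹ m)) =
      (Nat.card M : ℂ)⁻¹ * ∑ m, f m * conj (φ.1 m)
    congr 1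
    refine Fintype.sum_equiv ((α e)⁻¹ : MulAut M).toEquiv _ _ (fun m => ?_)
    show f m * conj (φ.1 ((α e)⁻¹ m)) = f ((α e)⁻¹ m) * conj (φ.1 ((α e)⁻¹ m))
    rw [← map_inv, hf]
  refine orbit_sum (E := E) ?_ _ ?_ ?_ ?_
  · intro φ
    obtain ⟨j, hj⟩ := hK
    rw [← MulAction.index_stabilizer]
    have h1 : K ≤ MulAction.stabilizer E φ := by
      intro k hk
      rw [MulAction.mem_stabilizer_iff]
      apply Subtype.ext
      funext m
      show φ.1 ((α k)⁻¹ m) = φ.1 m
      rw [← map_inv, hKtriv _ (K.inv_mem hk) φ.1 (isIrr_isClassFunction φ.2)]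
    have h2 := Subgroup.index_dvd_of_le h1
    rw [hj] at h2
    obtain ⟨i, _, hi⟩ := (Nat.dvd_prime_pow hp).1 h2
    exact ⟨i, hi⟩
  · intro e φ
    rw [hcl η hηinv, hcl θ hθinv]
  · intro φ
    refine (hη.2 _ φ.2).mul ?_
    obtain ⟨n, hn⟩ := classInner_isNat hθ (isIrr_isCharacter φ.2)
    rw [hn]
    exact RChar.isIntegral_natCast n
  · intro φ hφ
    refine (hfix φ φ.2 (fun e m => ?_)).mul_left (hη.2 _ φ.2)
    have h1 := congrArg (fun ψ : IrrCharacter M => ψ.1 (α e m)) (hφ e)
    have h2 : φ.1 ((α e)⁻¹ (α e m)) = φ.1 (α e m) := h1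
    rw [MulAut.inv_apply_self] at h2
    exact h2.symm

end action

section avg

variable {G : Type*} [Group G] [Fintype G]

theorem index_sup_formula (E N : Subgroup G) [hN : N.Normal] :
    ((E ⊔ N).index : ℂ) * ((Nat.card ↥(E ⊓ N) : ℂ)⁻¹) =
      (Nat.card G : ℂ) * (Nat.card N : ℂ)⁻¹ * (Nat.card E : ℂ)⁻¹ := by
  have h1 : N.relIndex (E ⊔ N) * (E ⊔ N).index = N.index :=
    Subgroup.relIndex_mul_index le_sup_right
  rw [Subgroup.relIndex_sup_right, ← Subgroup.inf_relIndex_left] at h1
  have h2 : Nat.card ↥(E ⊓ N) * (E ⊓ N).relIndex E = Nat.card E := by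
    have := Subgroup.card_mul_index ((E ⊓ N).subgroupOf E)
    rw [Nat.card_congr (Subgroup.subgroupOfEquivOfLe (inf_le_left : E ⊓ N ≤ E)).toEquiv] at this
    exact this
  have h3 : Nat.card N * N.index = Nat.card G := Subgroup.card_mul_index N
  have e1 : (Nat.card ↥(E ⊓ N) : ℂ) ≠ 0 := by exact_mod_cast Nat.card_pos.ne'
  have e2 : (Nat.card N : ℂ) ≠ 0 := by exact_mod_cast Nat.card_pos.ne'
  have e3 : (Nat.card E : ℂ) ≠ 0 := by exact_mod_cast Nat.card_pos.ne'
  have h1' : ((E ⊓ N).relIndex E : ℂ) * (E ⊔ N).index = N.index := by exact_mod_cast h1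
  have h2' : (Nat.card ↥(E ⊓ N) : ℂ) * (E ⊓ N).relIndex E = Nat.card E := by exact_mod_cast h2
  have h3' : (Nat.card N : ℂ) * N.index = Nat.card G := by exact_mod_cast h3
  rw [← h3', ← h1', ← h2']
  rw [← h2'] at e3
  have e4 : ((E ⊓ N).relIndex E : ℂ) ≠ 0 := right_ne_zero_of_mul e3
  field_simp

/-- Pairing of an induced function with an invariant function on a normal subgroup. -/
theorem average_indFun (E N : Subgroup G) [hN : N.Normal] [Fintype N] [Fintype ↥(E ⊓ N)]
    (ψ : E → ℂ) (w : N → ℂ)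
    (hw : ∀ (g : G) (n : N), w ⟨g * n * g⁻¹, hN.conj_mem (n : G) n.2 g⟩ = w n) :
    (Nat.card N : ℂ)⁻¹ * ∑ n : N, indFun E ψ n * w n =
      (E ⊔ N).index * ((Nat.card ↥(E ⊓ N) : ℂ)⁻¹ *
        ∑ m : ↥(E ⊓ N), ψ ⟨m, m.2.1⟩ * w ⟨m, m.2.2⟩) := by
  classical
  have : Fintype E := Fintype.ofFinite E
  -- extend `conj w` by zero
  set W : G → ℂ := extendByZero N (fun n => conj (w n)) with hW
  have hWcl : IsClassFunction G W := by
    intro g h
    by_cases hg : g ∈ N
    · have hg' : h * g * h⁻¹ ∈ N := hN.conj_mem g hg h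
      rw [hW, NormalInd.extendByZero_of_mem _ _ hg', NormalInd.extendByZero_of_mem _ _ hg]
      congr 1
      exact hw h ⟨g, hg⟩
    · have hg' : h * g * h⁻¹ ∉ N := by
        intro hh
        apply hg
        have := hN.conj_mem _ hh h⁻¹
        simpa [mul_assoc] using this
      rw [hW, NormalInd.extendByZero_of_not_mem _ _ hg', NormalInd.extendByZero_of_not_mem _ _ hg]
  have h1 := NormalInd.classInner_indFun E ψ W hWcl
  have h2 : ∑ g : G, indFun E ψ g * conj (W g) = ∑ n : N, indFun E ψ n * w n := by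
    have := NormalInd.sum_extendByZero N (fun n => indFun E ψ n * w n)
    rw [← this]
    refine Finset.sum_congr rfl (fun g _ => ?_)
    by_cases hg : g ∈ N
    · rw [hW, NormalInd.extendByZero_of_mem _ _ hg, NormalInd.extendByZero_of_mem _ _ hg]
      simp
    · rw [hW, NormalInd.extendByZero_of_not_mem _ _ hg, NormalInd.extendByZero_of_not_mem _ _ hg]
      simp
  have h3 : ∑ e : E, ψ e * conj (W e) = ∑ m : ↥(E ⊓ N), ψ ⟨m, m.2.1⟩ * w ⟨m, m.2.2⟩ := by
    have hinj : Function.Injective (Subgroup.inclusion (inf_le_left : E ⊓ N ≤ E)) :=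
      Subgroup.inclusion_injective _
    rw [← Finset.sum_subset (Finset.subset_univ
      ((Finset.univ : Finset ↥(E ⊓ N)).map ⟨_, hinj⟩))]
    · rw [Finset.sum_map]
      refine Finset.sum_congr rfl (fun m _ => ?_)
      show ψ ⟨m, m.2.1⟩ * conj (W (m : G)) = _
      rw [hW, NormalInd.extendByZero_of_mem _ _ m.2.2]
      simp
    · intro e _ he
      have : (e : G) ∉ N := by
        intro hh
        apply he
        rw [Finset.mem_map]
        exact ⟨⟨e, e.2, hh⟩, Finset.mem_univ _, rfl⟩
      rw [hW, NormalInd.extendByZero_of_not_mem _ _ this]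
      simp
  change (Nat.card G : ℂ)⁻¹ * ∑ g : G, indFun E ψ g * conj (W g) =
    (Nat.card E : ℂ)⁻¹ * ∑ e : E, ψ e * conj (W e) at h1
  rw [h2, h3] at h1
  have e1 : (Nat.card G : ℂ) ≠ 0 := by exact_mod_cast Nat.card_pos.ne'
  rw [← mul_assoc, index_sup_formula]
  rw [inv_mul_eq_iff_eq_mul₀ e1] at h1
  rw [h1]
  ring

end avg

end Cfsg.Agent.CharactersDeep.DadeAux
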