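import Mathlib
import Cfsg.Prelude.Def_Characters

/-!
# Extension of linear characters

* `exists_ext_of_injective` : homomorphisms to `ℂˣ` extend along injective homomorphisms into a
  finite abelian group.
* `exists_linear_extension` : extension of a linear character to a `p`-elementary group.
-/

set_option autoImplicit false
open Cfsg

namespace Cfsg.Agent.CharactersDeep.ElemExt

/-- Linear characters extend along injective homomorphisms into a finite abelian group. -/
theorem exists_ext_of_injective {A B : Type*} [Group A] [Finite A] [Group B]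
    (hcomm : ∀ a b : A, a * b = b * a) (j : B →* A) (hj : Function.Injective j) (β : B →* ℂˣ) :
    ∃ β' : A →* ℂˣ, ∀ b, β' (j b) = β b := by
  let _ : CommGroup A := { (inferInstance : Group A) with mul_comm := hcomm }
  let e : B ≃* j.range := MonoidHom.ofInjective hj
  obtain ⟨β', hβ'⟩ := MonoidHom.domRestrict_surjective (M := ℂ) j.range (β.comp e.symm.toMonoidHom)
  refine ⟨β', fun b => ?_⟩
  have h1 := DFunLike.congr_fun hβ' (e b)
  have h2 : (β.comp e.symm.toMonoidHom) (e b) = β b := by simp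
  rw [h2] at h1
  exact h1

/-- Extension of a linear character of a subgroup of a `p`-elementary group. -/
theorem exists_linear_extension {E : Type*} [Group E] [Finite E] {p : ℕ} [hp : Fact p.Prime]
    (z : E) (hz : z ∈ Subgroup.center E) (hzp : (orderOf z).Coprime p)
    (hzi : ∃ k, (Subgroup.zpowers z).index = p ^ k) (M : Subgroup E) (hzM : z ∈ M)
    (S : Sylow p E)
    (hlin : ∀ β : ↥(M ⊓ (S : Subgroup E)) →* ℂˣ, ∃ μ : (S : Subgroup E) →* ℂˣ,
      ∀ s : ↥(M ⊓ (S : Subgroup E)), μ ⟨s, s.2.2⟩ = β s)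
    (φ : M →* ℂˣ) : ∃ χ : E →* ℂˣ, ∀ m : M, χ m = φ m := by
  have hcomm : ∀ (a : Subgroup.zpowers z) (s : (S : Subgroup E)),
      Commute ((Subgroup.zpowers z).subtype a) ((S : Subgroup E).subtype s) := by
    rintro ⟨a, ha⟩ ⟨s, hs⟩
    obtain ⟨i, rfl⟩ := Subgroup.mem_zpowers_iff.1 ha
    exact (show Commute z s from (Subgroup.mem_center_iff.1 hz s).symm).zpow_left i
  let f : Subgroup.zpowers z × (S : Subgroup E) →* E :=
    MonoidHom.noncommCoprod (Subgroup.zpowers z).subtype (S : Subgroup E).subtype hcomm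
  have hf : ∀ a s, f (a, s) = a * s := fun a s => rfl
  have hdisj : Disjoint (Subgroup.zpowers z) (S : Subgroup E) := by
    apply Subgroup.disjoint_of_coprime_natCard
    obtain ⟨k, hk⟩ := IsPGroup.iff_card.1 S.isPGroup'
    rw [Nat.card_zpowers, hk]
    exact Nat.Coprime.pow_right k hzp
  have hinj : Function.Injective f := by
    rw [injective_iff_map_eq_one]
    rintro ⟨⟨a, ha⟩, ⟨s, hs⟩⟩ h
    rw [hf] at h
    have h1 : a = s⁻¹ := eq_inv_of_mul_eq_one_left h
    have h2 : a ∈ Subgroup.zpowers z ⊓ (S : Subgroup E) :=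
      ⟨ha, h1 ▸ Subgroup.inv_mem _ hs⟩
    rw [hdisj.eq_bot, Subgroup.mem_bot] at h2
    have h3 : s = 1 := by rw [h2] at h1; exact (inv_eq_one.1 h1.symm)
    subst h3
    subst h2
    rfl
  have hsurj : Function.Surjective f := by
    rw [← MonoidHom.range_eq_top, ← Subgroup.index_eq_one]
    obtain ⟨k, hk⟩ := hzi
    have h1 : f.range.index ∣ p ^ k := by
      rw [← hk]
      apply Subgroup.index_dvd_of_le
      intro a ha
      exact ⟨(⟨a, ha⟩, 1), by rw [hf]; simp⟩
    have h2 : f.range.index ∣ (S : Subgroup E).index := by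
      apply Subgroup.index_dvd_of_le
      intro s hs
      exact ⟨(1, ⟨s, hs⟩), by rw [hf]; simp⟩
    obtain ⟨j, _, hj⟩ := (Nat.dvd_prime_pow hp.out).1 h1
    rcases Nat.eq_zero_or_pos j with h0 | h0
    · rw [hj, h0, pow_zero]
    · exfalso
      apply S.not_dvd_index
      exact ((dvd_pow_self p h0.ne').trans (hj ▸ dvd_rfl)).trans h2
  let e : Subgroup.zpowers z × (S : Subgroup E) ≃* E := MulEquiv.ofBijective f ⟨hinj, hsurj⟩
  have hzle : Subgroup.zpowers z ≤ M := (Subgroup.zpowers_le).2 hzM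
  obtain ⟨μ, hμ⟩ := hlin (φ.comp (Subgroup.inclusion inf_le_left))
  let χ0 : Subgroup.zpowers z × (S : Subgroup E) →* ℂˣ :=
    MonoidHom.coprod (φ.comp (Subgroup.inclusion hzle)) μ
  refine ⟨χ0.comp e.symm.toMonoidHom, fun m => ?_⟩
  obtain ⟨⟨a, s⟩, has⟩ := hsurj (m : E)
  have h1 : e.symm (m : E) = (a, s) := by
    rw [MulEquiv.symm_apply_eq]
    exact has.symm
  rw [MonoidHom.comp_apply]
  show χ0 (e.symm (m : E)) = φ m
  rw [h1]
  have haM : (a : E) ∈ M := hzle a.2
  have hsM : (s : E) ∈ M := by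
    have h2 : (s : E) = (a : E)⁻¹ * m := by rw [← has, hf]; group
    rw [h2]
    exact M.mul_mem (M.inv_mem haM) m.2
  have h3 := hμ ⟨s, hsM, s.2⟩
  have h4 : χ0 (a, s) = φ ⟨a, haM⟩ * μ s := rfl
  have h5 : μ s = φ ⟨s, hsM⟩ := h3
  rw [h4, h5, ← map_mul]
  congr 1
  apply Subtype.ext
  rw [← has, hf]
  rfl

end Cfsg.Agent.CharactersDeep.ElemExt
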