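import Mathlib.RepresentationTheory.Character
import Mathlib.RepresentationTheory.Irreducible
import Mathlib.Analysis.Complex.Basic
import Mathlib.Analysis.Complex.Polynomial.Basic
import Mathlib.LinearAlgebra.Determinant
import Cfsg.Prelude.Def_Characters
import Cfsg.Prelude.Def_CharExt

/-!
# Equivalence of representations with the same irreducible character, and the determinant

* `exists_equiv_of_character_eq` : a representation with the same character as an irreducible one is
  equivalent to it.
* `exists_commute_scalar` : Schur's lemma.
* `detChar_eq_det` : the determinantal character of an irreducible character is the determinant of any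
  representation affording it.
* `isIrreducible_of_restrict` : irreducibility may be tested on a subgroup.
-/

set_option autoImplicit false

namespace Cfsg.Agent.CharactersDeep.IrrEquiv

universe u v w

open Representation Module

/-- A representation with the same character as an irreducible one is equivalent to it. -/
theorem exists_equiv_of_character_eq {G : Type u} [Group G] [Finite G] {V : Type v} {W : Type w}
    [AddCommGroup V] [Module ℂ V] [FiniteDimensional ℂ V]
    [AddCommGroup W] [Module ℂ W] [FiniteDimensional ℂ W]
    (ρ : Representation ℂ G V) (τ : Representation ℂ G W) (hρ : ρ.IsIrreducible)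
    (h : ρ.character = τ.character) : Nonempty (Representation.Equiv ρ τ) := by
  classical
  have := Fintype.ofFinite G
  have hne : (Nat.card G : ℂ) ≠ 0 := by exact_mod_cast Nat.card_pos.ne'
  have : Invertible (Nat.card G : ℂ) := invertibleOfNonzero hne
  have h1 := card_inv_mul_sum_char_mul_char_eq_finrank ρ τ
  have h2 := card_inv_mul_sum_char_mul_char_eq_finrank ρ ρ
  rw [← h, h2, IsIrreducible.finrank_intertwiningMap_self] at h1
  have h3 : finrank ℂ (IntertwiningMap ρ τ) = 1 := by exact_mod_cast h1.symm
  have h4 : ∃ f : IntertwiningMap ρ τ, f ≠ 0 := by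
    by_contra hcon
    push Not at hcon
    have : Subsingleton (IntertwiningMap ρ τ) := ⟨fun a b => by rw [hcon a, hcon b]⟩
    rw [finrank_zero_of_subsingleton] at h3
    exact zero_ne_one h3
  obtain ⟨f, hf⟩ := h4
  have hinj : Function.Injective f := (IsIrreducible.injective_or_eq_zero f).resolve_right hf
  have hdim : finrank ℂ V = finrank ℂ W := by
    have h5 : ρ.character 1 = τ.character 1 := by rw [h]
    rw [char_one, char_one] at h5
    exact_mod_cast h5
  have hbij : Function.Bijective f.toLinearMap :=
    ⟨hinj, (LinearMap.injective_iff_surjective_of_finrank_eq_finrank hdim).mp hinj⟩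
  exact ⟨f.ofBijective hbij⟩

/-- Schur's lemma: a linear map commuting with an irreducible representation is a scalar. -/
theorem exists_commute_scalar {G : Type u} [Group G] {V : Type v}
    [AddCommGroup V] [Module ℂ V] [FiniteDimensional ℂ V]
    (ρ : Representation ℂ G V) (hρ : ρ.IsIrreducible) (A : Module.End ℂ V)
    (h : ∀ g, A * ρ g = ρ g * A) : ∃ z : ℂ, A = z • (1 : Module.End ℂ V) := by
  have hA : ∀ g v, A (ρ g v) = ρ g (A v) := fun g v => LinearMap.congr_fun (h g) v
  let f : IntertwiningMap ρ ρ := ⟨A, fun g => h g⟩
  have hb : Function.Bijective (algebraMap ℂ (IntertwiningMap ρ ρ)) :=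
    IsIrreducible.algebraMap_intertwiningMap_bijective_of_isAlgClosed
  obtain ⟨z, hz⟩ := hb.2 f
  refine ⟨z, ?_⟩
  ext v
  have := congrArg (fun F : IntertwiningMap ρ ρ => F v) hz
  have h3 : f v = z • v := by simpa using this.symm
  exact h3

/-- The determinantal character of an irreducible character. -/
theorem detChar_eq_det {G : Type u} [Group G] [Finite G] {n : ℕ}
    (ρ : Representation ℂ G (Fin n → ℂ)) (hρ : ρ.IsIrreducible) (g : G) :
    Cfsg.detChar ρ.character g = LinearMap.det (ρ g) := by
  classical
  have hc : Cfsg.IsCharacter G ρ.character := ⟨n, ρ, rfl⟩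
  have h0 : Cfsg.detChar ρ.character = fun g =>
      LinearMap.det ((Classical.choose (Classical.choose_spec hc)) g) := by
    delta Cfsg.detChar
    exact dif_pos hc
  rw [h0]
  have h1 := Classical.choose_spec (Classical.choose_spec hc)
  obtain ⟨e⟩ := exists_equiv_of_character_eq ρ _ hρ h1.symm
  have h2 := Equiv.conj_apply_self g e
  change LinearMap.det ((Classical.choose (Classical.choose_spec hc)) g) = _
  rw [← h2]
  exact LinearMap.det_conj (ρ g) e.toLinearEquiv

/-- Irreducibility may be tested on a subgroup (or after pulling back along a homomorphism). -/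
theorem isIrreducible_of_comp {G : Type u} {H : Type w} [Group G] [Group H] {V : Type v}
    [AddCommGroup V] [Module ℂ V] (σ : Representation ℂ G V) (f : H →* G)
    (h : Representation.IsIrreducible (MonoidHom.comp σ f : Representation ℂ H V)) :
    σ.IsIrreducible := by
  have hn : Nontrivial (Subrepresentation (MonoidHom.comp σ f : Representation ℂ H V)) := h.toNontrivial
  let F : Subrepresentation σ → Subrepresentation (MonoidHom.comp σ f : Representation ℂ H V) := fun S =>
    ⟨S.toSubmodule, fun g v hv => S.apply_mem_toSubmodule (f g) hv⟩
  have hF : ∀ S, (F S).toSubmodule = S.toSubmodule := fun _ => rfl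
  have hne : (⊥ : Subrepresentation σ) ≠ ⊤ := by
    intro hcon
    have h1 : (⊥ : Submodule ℂ V) = ⊤ := congrArg Subrepresentation.toSubmodule hcon
    have h2 : (⊥ : Subrepresentation (MonoidHom.comp σ f : Representation ℂ H V)) ≠ ⊤ := bot_ne_top
    exact h2 (Subrepresentation.toSubmodule_injective h1)
  have : Nontrivial (Subrepresentation σ) := ⟨⟨_, _, hne⟩⟩
  refine ⟨fun S => ?_⟩
  rcases h.eq_bot_or_eq_top (F S) with h1 | h1
  · left
    have h2 : (F S).toSubmodule = ⊥ := by rw [h1]; rfl
    exact Subrepresentation.toSubmodule_injective h2
  · right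
    have h2 : (F S).toSubmodule = ⊤ := by rw [h1]; rfl
    exact Subrepresentation.toSubmodule_injective h2

end Cfsg.Agent.CharactersDeep.IrrEquiv
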