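import Mathlib.RepresentationTheory.Character
import Mathlib.RepresentationTheory.Irreducible
import Mathlib.Analysis.Complex.Basic
import Mathlib.GroupTheory.Index
import Mathlib.GroupTheory.Transfer
import Mathlib.GroupTheory.GroupAction.ConjAct
import Mathlib.LinearAlgebra.Determinant
import Mathlib.Algebra.Group.Subgroup.ZPowers.Basic
import Mathlib.RingTheory.PrincipalIdealDomain
import Cfsg.Prelude.Def_Characters
import Cfsg.Prelude.Def_CharExt
import Cfsg.Agent.CharactersDeep.LinearExt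
import Cfsg.Agent.CharactersDeep.IrrEquiv

/-!
# The group of pairs attached to an invariant irreducible representation of a normal subgroup

For `N` normal in `G` and a representation `ρ` of `N` on `V`, `extGroup N ρ` is the group of pairs
`(g, A)` with `A * ρ x = ρ (g * x * g⁻¹) * A` for all `x` in `N`.
-/

set_option autoImplicit false

namespace Cfsg.Agent.CharactersDeep.ExtGroup

universe u v

open Representation Module

variable {G : Type u} [Group G] (N : Subgroup G) [hN : N.Normal] {V : Type v} [AddCommGroup V]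
  [Module ℂ V]

/-- The group of pairs `(g, A)` with `A` intertwining `ρ` and its conjugate by `g`. -/
def extGroup (ρ : Representation ℂ N V) : Subgroup (G × (Module.End ℂ V)ˣ) where
  carrier := {e | ∀ x : N, (e.2 : Module.End ℂ V) * ρ x = ρ (MulAut.conjNormal e.1 x) * e.2}
  mul_mem' := by
    intro a b ha hb x
    change (a.2 * b.2 : Module.End ℂ V) * ρ x = ρ (MulAut.conjNormal (a.1 * b.1) x) * (a.2 * b.2)
    rw [mul_assoc, hb x, ← mul_assoc, ha, map_mul, MulAut.mul_apply, mul_assoc]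
  one_mem' := by
    intro x
    simp
  inv_mem' := by
    intro a ha x
    have h1 := ha (MulAut.conjNormal a.1⁻¹ x)
    have h2 : MulAut.conjNormal a.1 (MulAut.conjNormal a.1⁻¹ x) = x := by
      rw [← MulAut.mul_apply, ← map_mul, mul_inv_cancel, map_one, MulAut.one_apply]
    rw [h2] at h1
    change ((a.2⁻¹ : (Module.End ℂ V)ˣ) : Module.End ℂ V) * ρ x =
      ρ (MulAut.conjNormal a.1⁻¹ x) * ((a.2⁻¹ : (Module.End ℂ V)ˣ) : Module.End ℂ V)
    rw [Units.inv_mul_eq_iff_eq_mul, ← mul_assoc, h1, mul_assoc, Units.mul_inv, mul_one]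

theorem mem_extGroup {ρ : Representation ℂ N V} {e : G × (Module.End ℂ V)ˣ} :
    e ∈ extGroup N ρ ↔
      ∀ x : N, (e.2 : Module.End ℂ V) * ρ x = ρ (MulAut.conjNormal e.1 x) * e.2 := Iff.rfl

/-- Scalar times a value of the representation, as a unit. -/
noncomputable def scal (ρ : Representation ℂ N V) (n : N) (z : ℂˣ) : (Module.End ℂ V)ˣ :=
  Units.map (algebraMap ℂ (Module.End ℂ V)).toMonoidHom z * asGroupHom ρ n

omit hN in
theorem scal_val (ρ : Representation ℂ N V) (n : N) (z : ℂˣ) :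
    (scal N ρ n z : Module.End ℂ V) = (z : ℂ) • ρ n := by
  have h1 : (scal N ρ n z : Module.End ℂ V) = algebraMap ℂ (Module.End ℂ V) (z : ℂ) * ρ n := rfl
  rw [h1, Algebra.algebraMap_eq_smul_one, smul_mul_assoc, one_mul]

theorem scal_mem (ρ : Representation ℂ N V) (n : N) (z : ℂˣ) :
    ((n : G), scal N ρ n z) ∈ extGroup N ρ := by
  intro x
  change (scal N ρ n z : Module.End ℂ V) * ρ x = _ * (scal N ρ n z : Module.End ℂ V)
  have h1 : MulAut.conjNormal (n : G) x = n * x * n⁻¹ := by
    apply Subtype.ext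
    simp
  rw [scal_val, h1, smul_mul_assoc, mul_smul_comm, ← map_mul, ← map_mul]
  simp

/-- Surjectivity of the projection of `extGroup N ρ` to `G` for invariant irreducible `ρ`. -/
theorem exists_mem [Finite G] [FiniteDimensional ℂ V] (ρ : Representation ℂ N V)
    (hρ : ρ.IsIrreducible)
    (hinv : ∀ (g : G) (n : N), ρ.character (MulAut.conjNormal g n) = ρ.character n) (g : G) :
    ∃ A, (g, A) ∈ extGroup N ρ := by
  let τ : Representation ℂ N V :=
    MonoidHom.comp ρ ((MulAut.conjNormal g : MulAut N) : N →* N)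
  have hτ : ∀ x, τ x = ρ (MulAut.conjNormal g x) := fun _ => rfl
  have hch : ρ.character = τ.character := by
    funext x
    exact (hinv g x).symm
  obtain ⟨e⟩ := IrrEquiv.exists_equiv_of_character_eq ρ τ hρ hch
  refine ⟨⟨e.toLinearEquiv.toLinearMap, e.toLinearEquiv.symm.toLinearMap, ?_, ?_⟩, ?_⟩
  · ext v
    exact e.toLinearEquiv.apply_symm_apply v
  · ext v
    exact e.toLinearEquiv.symm_apply_apply v
  · intro x
    change e.toLinearEquiv.toLinearMap * ρ x = ρ (MulAut.conjNormal g x) * e.toLinearEquiv.toLinearMap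
    ext v
    have h2 : e.toIntertwiningMap (ρ x v) = τ x (e.toIntertwiningMap v) :=
      IntertwiningMap.isIntertwining _ _ e.toIntertwiningMap x v
    exact h2

/-- The elements of `extGroup N ρ` over `N` are the scalar multiples of values of `ρ`. -/
theorem eq_scal [FiniteDimensional ℂ V] (ρ : Representation ℂ N V) (hρ : ρ.IsIrreducible)
    (n : N) (A : (Module.End ℂ V)ˣ) (h : ((n : G), A) ∈ extGroup N ρ) :
    ∃ z : ℂˣ, A = scal N ρ n z := by
  have hnt : Nontrivial V := by
    by_contra hcon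
    rw [not_nontrivial_iff_subsingleton] at hcon
    have h1 : (⊥ : Subrepresentation ρ) ≠ ⊤ := by
      have := hρ.toNontrivial
      exact bot_ne_top
    apply h1
    apply Subrepresentation.toSubmodule_injective
    exact Subsingleton.elim _ _
  have h1 : (1, A * (asGroupHom ρ n)⁻¹) ∈ extGroup N ρ := by
    have h2 := (extGroup N ρ).mul_mem h ((extGroup N ρ).inv_mem (scal_mem N ρ n 1))
    have h3 : ((n : G), A) * ((n : G), scal N ρ n 1)⁻¹ = (1, A * (asGroupHom ρ n)⁻¹) := by
      have h4 : scal N ρ n 1 = asGroupHom ρ n := by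
        unfold scal
        rw [map_one, one_mul]
      rw [h4]
      ext <;> simp
    rwa [h3] at h2
  obtain ⟨z, hz⟩ := IrrEquiv.exists_commute_scalar ρ hρ
    ((A * (asGroupHom ρ n)⁻¹ : (Module.End ℂ V)ˣ) : Module.End ℂ V) (by
      intro x
      have h2 := h1 x
      change ((A * (asGroupHom ρ n)⁻¹ : (Module.End ℂ V)ˣ) : Module.End ℂ V) * ρ x = _ at h2
      rw [h2]
      simp)
  have hz0 : z ≠ 0 := by
    rintro rfl
    rw [zero_smul] at hz
    exact (A * (asGroupHom ρ n)⁻¹).ne_zero hz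
  refine ⟨Units.mk0 z hz0, ?_⟩
  apply Units.ext
  rw [scal_val, Units.val_mk0]
  have h5 : (A : Module.End ℂ V) =
      ((A * (asGroupHom ρ n)⁻¹ : (Module.End ℂ V)ˣ) : Module.End ℂ V) * ρ n := by
    rw [Units.val_mul, mul_assoc, ← asGroupHom_apply ρ n, Units.inv_mul, mul_one]
  rw [h5, hz, smul_mul_assoc, one_mul]

theorem nontrivial_of_isIrreducible {H : Type u} [Group H] (ρ : Representation ℂ H V)
    (hρ : ρ.IsIrreducible) : Nontrivial V := by
  by_contra hcon
  rw [not_nontrivial_iff_subsingleton] at hcon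
  have h1 : (⊥ : Subrepresentation ρ) ≠ ⊤ := by
    have := hρ.toNontrivial
    exact bot_ne_top
  apply h1
  apply Subrepresentation.toSubmodule_injective
  exact Subsingleton.elim _ _

/-- The embedding of the scalars is injective. -/
theorem scalar_injective [Nontrivial V] :
    Function.Injective (Units.map (algebraMap ℂ (Module.End ℂ V)).toMonoidHom) := by
  intro a b hab
  apply Units.ext
  have h1 := congrArg (fun u : (Module.End ℂ V)ˣ => (u : Module.End ℂ V)) hab
  exact (algebraMap ℂ (Module.End ℂ V)).injective h1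

omit hN in
theorem scal_injective [Nontrivial V] (ρ : Representation ℂ N V) (n : N) :
    Function.Injective (scal N ρ n) := by
  intro a b hab
  exact scalar_injective (V := V) (mul_right_cancel hab)

/-- The projection to the group. -/
def proj (ρ : Representation ℂ N V) : extGroup N ρ →* G :=
  (MonoidHom.fst G (Module.End ℂ V)ˣ).comp (extGroup N ρ).subtype

theorem proj_apply (ρ : Representation ℂ N V) (e : extGroup N ρ) :
    proj N ρ e = (e : G × (Module.End ℂ V)ˣ).1 := rfl

/-- The exponents `k` such that the `k`-th power on scalars extends to the group of pairs, trivially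
on the canonical copy of `N`. -/
def expo (ρ : Representation ℂ N V) : AddSubgroup ℤ where
  carrier := {k | ∃ f : extGroup N ρ →* ℂˣ, ∀ (n : N) (z : ℂˣ),
    f ⟨((n : G), scal N ρ n z), scal_mem N ρ n z⟩ = z ^ k}
  zero_mem' := ⟨1, fun n z => by simp⟩
  add_mem' := by
    rintro a b ⟨f, hf⟩ ⟨f', hf'⟩
    exact ⟨f * f', fun n z => by rw [MonoidHom.mul_apply, hf, hf', zpow_add]⟩
  neg_mem' := by
    rintro a ⟨f, hf⟩
    exact ⟨f⁻¹, fun n z => by rw [MonoidHom.inv_apply, hf, zpow_neg]⟩

theorem mem_expo {ρ : Representation ℂ N V} {k : ℤ} :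
    k ∈ expo N ρ ↔ ∃ f : extGroup N ρ →* ℂˣ, ∀ (n : N) (z : ℂˣ),
    f ⟨((n : G), scal N ρ n z), scal_mem N ρ n z⟩ = z ^ k := Iff.rfl

omit hN in
theorem scal_one_one (ρ : Representation ℂ N V) : scal N ρ 1 1 = 1 := by
  apply Units.ext
  rw [scal_val]
  simp

/-- If the exponent one occurs, the representation extends. -/
theorem exists_extension_of_one_mem [Finite G] [FiniteDimensional ℂ V] (ρ : Representation ℂ N V)
    (hρ : ρ.IsIrreducible)
    (hinv : ∀ (g : G) (n : N), ρ.character (MulAut.conjNormal g n) = ρ.character n)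
    (h1 : (1 : ℤ) ∈ expo N ρ) :
    ∃ σ : Representation ℂ G V, ∀ n : N, σ n = ρ n := by
  obtain ⟨f, hf⟩ := (mem_expo N).mp h1
  have hnt : Nontrivial V := nontrivial_of_isIrreducible ρ hρ
  let π : f.ker →* G := (proj N ρ).comp f.ker.subtype
  have hinj : Function.Injective π := by
    rw [injective_iff_map_eq_one]
    intro a ha
    obtain ⟨⟨⟨g, A⟩, hE⟩, hk⟩ := a
    change g = 1 at ha
    subst ha
    have hE' : (((1 : N) : G), A) ∈ extGroup N ρ := hE
    obtain ⟨z, hz⟩ := eq_scal N ρ hρ 1 A hE'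
    subst hz
    have h2 : f ⟨(((1 : N) : G), scal N ρ 1 z), scal_mem N ρ 1 z⟩ = 1 := hk
    rw [hf, zpow_one] at h2
    subst h2
    apply Subtype.ext
    apply Subtype.ext
    change ((1 : G), scal N ρ 1 1) = 1
    rw [scal_one_one]
    rfl
  have hsurj : Function.Surjective π := by
    intro g
    obtain ⟨A, hA⟩ := exists_mem N ρ hρ hinv g
    let a : extGroup N ρ := ⟨(g, A), hA⟩
    let b : extGroup N ρ := ⟨(((1 : N) : G), scal N ρ 1 (f a)⁻¹), scal_mem N ρ 1 (f a)⁻¹⟩
    have hb : f (b * a) = 1 := by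
      rw [map_mul]
      change f ⟨(((1 : N) : G), scal N ρ 1 (f a)⁻¹), scal_mem N ρ 1 (f a)⁻¹⟩ * f a = 1
      rw [hf, zpow_one, inv_mul_cancel]
    refine ⟨⟨b * a, hb⟩, ?_⟩
    change ((1 : N) : G) * g = g
    simp
  let e : f.ker ≃* G := MulEquiv.ofBijective π ⟨hinj, hsurj⟩
  let σ : Representation ℂ G V :=
    (Units.coeHom (Module.End ℂ V)).comp ((MonoidHom.snd G (Module.End ℂ V)ˣ).comp
      ((extGroup N ρ).subtype.comp (f.ker.subtype.comp (e.symm : G →* f.ker))))
  refine ⟨σ, ?_⟩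
  intro n
  have hn : f ⟨((n : G), scal N ρ n 1), scal_mem N ρ n 1⟩ = 1 := by
    rw [hf, one_zpow]
  have h3 : e ⟨⟨((n : G), scal N ρ n 1), scal_mem N ρ n 1⟩, hn⟩ = n := rfl
  have h4 : e.symm (n : G) = ⟨⟨((n : G), scal N ρ n 1), scal_mem N ρ n 1⟩, hn⟩ :=
    e.symm_apply_eq.mpr h3.symm
  change ((((e.symm (n : G) : f.ker) : extGroup N ρ) : G × (Module.End ℂ V)ˣ).2 :
    Module.End ℂ V) = ρ n
  rw [h4]
  change (scal N ρ n 1 : Module.End ℂ V) = ρ n
  rw [scal_val]
  simp

/-- If the determinant extends to `G`, the dimension occurs as an exponent. -/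
theorem finrank_mem [FiniteDimensional ℂ V] (ρ : Representation ℂ N V)
    (μ : G →* ℂˣ) (hμ : ∀ n : N, (μ n : ℂ) = LinearMap.det (ρ n)) :
    ((finrank ℂ V : ℕ) : ℤ) ∈ expo N ρ := by
  refine ⟨((Units.map (LinearMap.det : Module.End ℂ V →* ℂ)).comp
    ((MonoidHom.snd G (Module.End ℂ V)ˣ).comp (extGroup N ρ).subtype)) *
      (μ.comp (proj N ρ))⁻¹, ?_⟩
  intro n z
  apply Units.ext
  rw [MonoidHom.mul_apply, MonoidHom.inv_apply, Units.val_mul, zpow_natCast,
    Units.val_pow_eq_pow_val]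
  change LinearMap.det (scal N ρ n z : Module.End ℂ V) * (((μ (n : G))⁻¹ : ℂˣ) : ℂ) = _
  rw [scal_val, LinearMap.det_smul, ← hμ, mul_assoc, Units.mul_inv, mul_one]

/-- The pair given by an extension to a larger subgroup. -/
theorem ext_mem (ρ : Representation ℂ N V) (P : Subgroup G) (hNP : N ≤ P)
    (τ : Representation ℂ P V) (hτ : ∀ n : N, τ ⟨n, hNP n.2⟩ = ρ n) (x : P) :
    ((x : G), asGroupHom τ x) ∈ extGroup N ρ := by
  intro n
  change (asGroupHom τ x : Module.End ℂ V) * ρ n = ρ (MulAut.conjNormal (x : G) n) *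
    (asGroupHom τ x : Module.End ℂ V)
  rw [asGroupHom_apply, ← hτ, ← hτ, ← map_mul, ← map_mul]
  congr 1
  apply Subtype.ext
  simp

/-- If the representation extends to `P`, the index of `P` occurs as an exponent. -/
theorem index_mem [Finite G] [FiniteDimensional ℂ V] (ρ : Representation ℂ N V)
    (hρ : ρ.IsIrreducible)
    (hinv : ∀ (g : G) (n : N), ρ.character (MulAut.conjNormal g n) = ρ.character n)
    (P : Subgroup G) (hNP : N ≤ P)
    (τ : Representation ℂ P V) (hτ : ∀ n : N, τ ⟨n, hNP n.2⟩ = ρ n) :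
    ((P.index : ℕ) : ℤ) ∈ expo N ρ := by
  have hnt : Nontrivial V := nontrivial_of_isIrreducible ρ hρ
  have hsurj : Function.Surjective (proj N ρ) := by
    intro g
    obtain ⟨A, hA⟩ := exists_mem N ρ hρ hinv g
    exact ⟨⟨(g, A), hA⟩, rfl⟩
  let EP : Subgroup (extGroup N ρ) := P.comap (proj N ρ)
  let M : Subgroup (extGroup N ρ) := N.comap (proj N ρ)
  have hMn : M.Normal := hN.comap _
  have hMEP : M ≤ EP := Subgroup.comap_mono hNP
  have hidx : EP.index = P.index := Subgroup.index_comap_of_surjective P hsurj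
  have hfin : EP.FiniteIndex := ⟨by rw [hidx]; exact P.index_ne_zero_of_finite⟩
  have hex : ∀ e : EP, ∃ z : ℂˣ, (e : extGroup N ρ).1.2 =
      Units.map (algebraMap ℂ (Module.End ℂ V)).toMonoidHom z *
        asGroupHom τ ⟨(e : extGroup N ρ).1.1, e.2⟩ := by
    intro e
    have h1 := ext_mem N ρ P hNP τ hτ ⟨(e : extGroup N ρ).1.1, e.2⟩
    have h2 := (extGroup N ρ).mul_mem (e : extGroup N ρ).2 ((extGroup N ρ).inv_mem h1)
    have h3 : ((e : extGroup N ρ) : G × (Module.End ℂ V)ˣ) *
        (((⟨(e : extGroup N ρ).1.1, e.2⟩ : P) : G),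
          asGroupHom τ ⟨(e : extGroup N ρ).1.1, e.2⟩)⁻¹ =
        (((1 : N) : G), (e : extGroup N ρ).1.2 *
          (asGroupHom τ ⟨(e : extGroup N ρ).1.1, e.2⟩)⁻¹) := by
      ext <;> simp
    rw [h3] at h2
    obtain ⟨z, hz⟩ := eq_scal N ρ hρ 1 _ h2
    refine ⟨z, ?_⟩
    rw [mul_inv_eq_iff_eq_mul] at hz
    rw [hz]
    congr 1
    unfold scal
    rw [map_one, mul_one]
  choose z hz using hex
  let fP : EP →* ℂˣ := MonoidHom.mk' z (by
    intro a b
    apply scalar_injective (V := V)
    have h1 := hz (a * b)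
    have h2 : (((a * b : EP) : extGroup N ρ) : G × (Module.End ℂ V)ˣ).2 =
      (a : extGroup N ρ).1.2 * (b : extGroup N ρ).1.2 := rfl
    have h3 : asGroupHom τ ⟨((a * b : EP) : extGroup N ρ).1.1, (a * b).2⟩ =
      asGroupHom τ ⟨(a : extGroup N ρ).1.1, a.2⟩ * asGroupHom τ ⟨(b : extGroup N ρ).1.1, b.2⟩ := by
      rw [← map_mul]
      rfl
    rw [h2, h3, hz a, hz b] at h1
    rw [map_mul]
    have hcomm : ∀ (w : ℂˣ) (A : (Module.End ℂ V)ˣ),
        A * Units.map (algebraMap ℂ (Module.End ℂ V)).toMonoidHom w =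
        Units.map (algebraMap ℂ (Module.End ℂ V)).toMonoidHom w * A := by
      intro w A
      apply Units.ext
      exact (Algebra.commutes (w : ℂ) (A : Module.End ℂ V)).symm
    have h4 : Units.map (algebraMap ℂ (Module.End ℂ V)).toMonoidHom (z a) *
        asGroupHom τ ⟨(a : extGroup N ρ).1.1, a.2⟩ *
        (Units.map (algebraMap ℂ (Module.End ℂ V)).toMonoidHom (z b) *
        asGroupHom τ ⟨(b : extGroup N ρ).1.1, b.2⟩) =
        (Units.map (algebraMap ℂ (Module.End ℂ V)).toMonoidHom (z a) *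
        Units.map (algebraMap ℂ (Module.End ℂ V)).toMonoidHom (z b)) *
        (asGroupHom τ ⟨(a : extGroup N ρ).1.1, a.2⟩ *
          asGroupHom τ ⟨(b : extGroup N ρ).1.1, b.2⟩) := by
      rw [mul_assoc, ← mul_assoc (asGroupHom τ _), hcomm, mul_assoc, mul_assoc, ]
    rw [h4] at h1
    exact (mul_right_cancel h1).symm)
  have hfP : ∀ e, fP e = z e := fun _ => rfl
  have hval : ∀ (n : N) (w : ℂˣ) (h : (⟨((n : G), scal N ρ n w), scal_mem N ρ n w⟩ :
      extGroup N ρ) ∈ EP), fP ⟨⟨((n : G), scal N ρ n w), scal_mem N ρ n w⟩, h⟩ = w := by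
    intro n w h
    rw [hfP]
    apply scalar_injective (V := V)
    have h1 := hz ⟨⟨((n : G), scal N ρ n w), scal_mem N ρ n w⟩, h⟩
    change scal N ρ n w = _ * asGroupHom τ ⟨(n : G), _⟩ at h1
    have h2 : asGroupHom τ ⟨(n : G), hNP n.2⟩ = asGroupHom ρ n := by
      apply Units.ext
      rw [asGroupHom_apply, asGroupHom_apply, hτ]
    rw [h2] at h1
    exact (mul_right_cancel h1).symm
  have hform : ∀ m : extGroup N ρ, m ∈ M → ∃ (n : N) (w : ℂˣ),
      m = ⟨((n : G), scal N ρ n w), scal_mem N ρ n w⟩ := by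
    rintro ⟨⟨g, A⟩, hE⟩ hm
    have hg : g ∈ N := hm
    obtain ⟨w, hw⟩ := eq_scal N ρ hρ ⟨g, hg⟩ A hE
    exact ⟨⟨g, hg⟩, w, by subst hw; rfl⟩
  refine ⟨MonoidHom.transfer fP, ?_⟩
  intro n w
  have hmem : (⟨((n : G), scal N ρ n w), scal_mem N ρ n w⟩ : extGroup N ρ) ∈ M := n.2
  rw [LinearExt.transfer_apply_of_invariant M EP hMEP fP ?_ _ hmem, hval, hidx, zpow_natCast]
  intro g m hm hgm
  obtain ⟨n', w', rfl⟩ := hform m hm
  rw [hval]
  have hconj : g * ⟨((n' : G), scal N ρ n' w'), scal_mem N ρ n' w'⟩ * g⁻¹ =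
      (⟨((MulAut.conjNormal g.1.1 n' : N), scal N ρ (MulAut.conjNormal g.1.1 n') w'),
        scal_mem N ρ _ w'⟩ : extGroup N ρ) := by
    apply Subtype.ext
    apply Prod.ext
    · change g.1.1 * n' * g.1.1⁻¹ = _
      simp
    · change g.1.2 * scal N ρ n' w' * g.1.2⁻¹ = _
      rw [mul_inv_eq_iff_eq_mul]
      apply Units.ext
      rw [Units.val_mul, Units.val_mul, scal_val, scal_val, mul_smul_comm, smul_mul_assoc]
      congr 1
      exact g.2 n'
  have h5 : ∀ (x : extGroup N ρ) (hx : x ∈ EP), x =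
      (⟨((MulAut.conjNormal g.1.1 n' : N), scal N ρ (MulAut.conjNormal g.1.1 n') w'),
        scal_mem N ρ _ w'⟩ : extGroup N ρ) → fP ⟨x, hx⟩ = w' := by
    intro x hx hxe
    subst hxe
    exact hval _ _ _
  exact h5 _ _ hconj

/-- Two exponents criterion in the form of a condition at every prime. -/
theorem one_mem_of_forall_prime (K : AddSubgroup ℤ)
    (h : ∀ p : ℕ, p.Prime → ∃ k ∈ K, ¬ (p : ℤ) ∣ k) : (1 : ℤ) ∈ K := by
  obtain ⟨d, hd⟩ := Int.subgroup_cyclic K
  have hdvd : ∀ k ∈ K, d ∣ k := by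
    intro k hk
    rw [hd, AddSubgroup.mem_closure_singleton] at hk
    obtain ⟨m, hm⟩ := hk
    exact ⟨m, by rw [← hm, smul_eq_mul, mul_comm]⟩
  have hdK : d ∈ K := by
    rw [hd]
    exact AddSubgroup.subset_closure (Set.mem_singleton d)
  have hone : d.natAbs = 1 := by
    by_contra hne
    obtain ⟨p, hp, hpd⟩ := Nat.exists_prime_and_dvd hne
    obtain ⟨k, hk, hpk⟩ := h p hp
    exact hpk ((Int.natCast_dvd.mpr hpd).trans (hdvd k hk))
  rcases Int.natAbs_eq d with h | h
  · rw [hone] at h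
    simpa [h] using hdK
  · rw [hone] at h
    have := K.neg_mem hdK
    simpa [h] using this

/-- An invariant irreducible character of a normal subgroup extends to the whole group if for every
prime `p` either it extends to a subgroup of index prime to `p`, or its degree is prime to `p` and its
determinantal character extends. -/
theorem extends_of_local [Finite G] (ϑ : N → ℂ)
    (hϑ : Cfsg.IsIrrCharacter N ϑ)
    (hinv : ∀ (g : G) (n : N), ϑ ⟨g * n * g⁻¹, hN.conj_mem (n : G) n.2 g⟩ = ϑ n)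
    (d : ℕ) (hd : ϑ 1 = d)
    (h : ∀ p : ℕ, p.Prime →
      (∃ (P : Subgroup G) (hNP : N ≤ P) (η : P → ℂ), Nat.Coprime P.index p ∧
        Cfsg.IsIrrCharacter P η ∧ ∀ n : N, η ⟨(n : G), hNP n.2⟩ = ϑ n) ∨
      (Nat.Coprime d p ∧ ∃ μ : G → ℂ, Cfsg.IsCharacter G μ ∧ μ 1 = 1 ∧
        ∀ n : N, μ n = Cfsg.detChar ϑ n)) :
    ∃ χ : G → ℂ, Cfsg.IsIrrCharacter G χ ∧ ∀ n : N, χ n = ϑ n := by
  obtain ⟨m, ρ, hρ, rfl⟩ := hϑ
  have hinv' : ∀ (g : G) (n : N), ρ.character (MulAut.conjNormal g n) = ρ.character n := by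
    intro g n
    rw [← hinv g n]
    congr 1
  have hdm : d = m := by
    rw [Representation.char_one] at hd
    simp only [finrank_fintype_fun_eq_card, Fintype.card_fin] at hd
    exact_mod_cast hd.symm
  subst hdm
  have h1 : (1 : ℤ) ∈ expo N ρ := by
    apply one_mem_of_forall_prime
    intro p hp
    rcases h p hp with ⟨P, hNP, η, hcop, hη, hres⟩ | ⟨hcop, μ, hμ, hμ1, hres⟩
    · refine ⟨(P.index : ℤ), ?_, ?_⟩
      · obtain ⟨m', τ, hτ, rfl⟩ := hη
        have hch : ρ.character = Representation.character (MonoidHom.comp τ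
            (Subgroup.inclusion hNP) : Representation ℂ N (Fin m' → ℂ)) := by
          funext n
          exact (hres n).symm
        obtain ⟨e⟩ := IrrEquiv.exists_equiv_of_character_eq ρ _ hρ hch
        let L : (Fin d → ℂ) ≃ₗ[ℂ] (Fin m' → ℂ) := e.toLinearEquiv
        let τ' : Representation ℂ P (Fin d → ℂ) :=
          { toFun := fun x => L.symm.toLinearMap ∘ₗ τ x ∘ₗ L.toLinearMap
            map_one' := by
              refine LinearMap.ext fun v => ?_
              simp
            map_mul' := by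
              intro a b
              refine LinearMap.ext fun v => ?_
              simp }
        refine index_mem N ρ hρ hinv' P hNP τ' ?_
        intro n
        have h5 : ∀ v, L (ρ n v) = τ (Subgroup.inclusion hNP n) (L v) := fun v =>
          IntertwiningMap.isIntertwining _ _ e.toIntertwiningMap n v
        refine LinearMap.ext fun v => ?_
        change L.symm (τ (Subgroup.inclusion hNP n) (L v)) = ρ n v
        rw [← h5, LinearEquiv.symm_apply_apply]
      · intro hdv
        have hdv' : p ∣ P.index := by exact_mod_cast hdv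
        have := Nat.dvd_gcd hdv' (dvd_refl p)
        rw [hcop] at this
        exact hp.one_lt.ne' (Nat.dvd_one.mp this)
    · obtain ⟨ν, hν⟩ := LinearExt.exists_hom_of_isCharacter hμ hμ1
      refine ⟨(d : ℤ), ?_, ?_⟩
      · have h2 := finrank_mem N ρ ν (by
          intro n
          rw [hν, hres, IrrEquiv.detChar_eq_det ρ hρ])
        simpa using h2
      · intro hdv
        have hdv' : p ∣ d := by exact_mod_cast hdv
        have := Nat.dvd_gcd hdv' (dvd_refl p)
        rw [hcop] at this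
        exact hp.one_lt.ne' (Nat.dvd_one.mp this)
  obtain ⟨σ, hσ⟩ := exists_extension_of_one_mem N ρ hρ hinv' h1
  have hcomp : (MonoidHom.comp σ N.subtype : Representation ℂ N (Fin d → ℂ)) = ρ := by
    ext n : 1
    exact hσ n
  refine ⟨σ.character, ⟨d, σ, ?_, rfl⟩, ?_⟩
  · apply IrrEquiv.isIrreducible_of_comp σ N.subtype
    rw [hcomp]
    exact hρ
  · intro n
    change LinearMap.trace ℂ _ (σ n) = LinearMap.trace ℂ _ (ρ n)
    rw [hσ]

end Cfsg.Agent.CharactersDeep.ExtGroup
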