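import Mathlib
import Cfsg.Prelude.Def_Characters
import Cfsg.Prelude.Def_CharExt

/-!
# Uniqueness of extensions of irreducible characters

* `exists_linearEquiv_of_character_eq` : representations of a finite group with the same character,
  one of them irreducible, are equivalent.
* `exists_hom_mul_of_restrict_eq` : two extensions to `G` of an irreducible character of a normal
  subgroup `N` differ by a homomorphism `β : G →* ℂˣ` trivial on `N`.
* `detChar_of_rep` : the determinantal character of an irreducible character is the determinant of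
  any representation affording it.
* `isIrr_mul_hom`, `detChar_mul_hom`: twisting by a linear character.
-/

set_option autoImplicit false

namespace Cfsg.Agent.CharactersDeep.ExtUnique

open Cfsg

/-- Representations of a finite group with the same character, the first one irreducible, are
equivalent. -/
theorem exists_linearEquiv_of_character_eq {G : Type*} [Group G] [Finite G] {V W : Type*}
    [AddCommGroup V] [Module ℂ V] [FiniteDimensional ℂ V] [AddCommGroup W] [Module ℂ W]
    [FiniteDimensional ℂ W] (ρ : Representation ℂ G V) (σ : Representation ℂ G W)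
    (hρ : ρ.IsIrreducible) (h : ρ.character = σ.character) :
    ∃ T : V ≃ₗ[ℂ] W, ∀ g v, T (ρ g v) = σ g (T v) := by
  classical
  have := Fintype.ofFinite G
  have hcard : (Nat.card G : ℂ) ≠ 0 := Nat.cast_ne_zero.2 Nat.card_pos.ne'
  have : Invertible (Nat.card G : ℂ) := invertibleOfNonzero hcard
  have h1 := Representation.card_inv_mul_sum_char_mul_char_eq_finrank ρ σ
  have h2 := Representation.card_inv_mul_sum_char_mul_char_eq_finrank ρ ρ
  rw [← h, h2, Representation.IsIrreducible.finrank_intertwiningMap_self] at h1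
  have h3 : 0 < Module.finrank ℂ (Representation.IntertwiningMap ρ σ) := by
    have : (Module.finrank ℂ (Representation.IntertwiningMap ρ σ) : ℂ) = ((1 : ℕ) : ℂ) := h1.symm
    rw [Nat.cast_inj] at this
    omega
  obtain ⟨T, hT⟩ := Module.finrank_pos_iff_exists_ne_zero.1 h3
  have hinj : Function.Injective T :=
    (Representation.IsIrreducible.injective_or_eq_zero T).resolve_right hT
  have hdim : Module.finrank ℂ V = Module.finrank ℂ W := by
    have := congrFun h 1
    rw [Representation.char_one, Representation.char_one, Nat.cast_inj] at this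
    exact this
  have hinj' : Function.Injective T.toLinearMap := hinj
  have hsurj : Function.Surjective T.toLinearMap :=
    (LinearMap.injective_iff_surjective_of_finrank_eq_finrank hdim).1 hinj'
  refine ⟨LinearEquiv.ofBijective T.toLinearMap ⟨hinj', hsurj⟩, fun g v => ?_⟩
  exact Representation.IntertwiningMap.isIntertwining _ _ T g v

/-- Schur: an endomorphism commuting with an irreducible representation is a scalar. -/
theorem exists_smul_of_comm {G : Type*} [Group G] {V : Type*} [AddCommGroup V] [Module ℂ V]
    [FiniteDimensional ℂ V] (ρ : Representation ℂ G V) (hρ : ρ.IsIrreducible) (A : V →ₗ[ℂ] V)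
    (hA : ∀ g v, A (ρ g v) = ρ g (A v)) : ∃ c : ℂ, ∀ v, A v = c • v := by
  obtain ⟨c, hc⟩ := (Representation.IsIrreducible.algebraMap_intertwiningMap_bijective_of_isAlgClosed
    (ρ := ρ)).2 (A.intertwiningMap_of_isIntertwiningMap ρ ρ hA)
  refine ⟨c, fun v => ?_⟩
  have h1 : (A.intertwiningMap_of_isIntertwiningMap ρ ρ hA) v = A v := rfl
  rw [← h1, ← hc]
  rfl

theorem nontrivial_of_irr {G : Type*} [Group G] {V : Type*} [AddCommGroup V] [Module ℂ V]
    (ρ : Representation ℂ G V) (hρ : ρ.IsIrreducible) : Nontrivial V := by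
  by_contra hV
  rw [not_nontrivial_iff_subsingleton] at hV
  have hne : (⊥ : Subrepresentation ρ) ≠ ⊤ := bot_ne_top
  exact hne (Subrepresentation.toSubmodule_injective (Subsingleton.elim _ _))

/-- Two representations of `G` on the same space which agree on a normal subgroup `N` and are
irreducible there differ by a homomorphism to `ℂˣ`, trivial on `N`. -/
theorem exists_hom_of_restrict_eq {G : Type*} [Group G] (N : Subgroup G) [hN : N.Normal]
    {V : Type*} [AddCommGroup V] [Module ℂ V] [FiniteDimensional ℂ V]
    (ρ σ : Representation ℂ G V) (τ : Representation ℂ N V) (hτ : τ.IsIrreducible)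
    (hρ : ∀ n : N, ρ n = τ n) (hσ : ∀ n : N, σ n = τ n) :
    ∃ β : G →* ℂˣ, (∀ n ∈ N, β n = 1) ∧ ∀ g, σ g = (β g : ℂ) • ρ g := by
  have hV := nontrivial_of_irr τ hτ
  obtain ⟨v₀, hv₀⟩ := exists_ne (0 : V)
  -- conjugation
  have hconj : ∀ (μ : Representation ℂ G V), (∀ n : N, μ n = τ n) → ∀ (g : G) (n : N) (v : V),
      μ g (τ n v) = τ ⟨g * n * g⁻¹, hN.conj_mem n n.2 g⟩ (μ g v) := by
    intro μ hμ g n v
    have h1 : μ (g * n * g⁻¹) (μ g v) = μ (g * n) v := by
      rw [← Module.End.mul_apply, ← map_mul]
      congr 2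
      group
    have h2 : μ ((⟨g * n * g⁻¹, hN.conj_mem n n.2 g⟩ : N) : G) (μ g v) = μ (g * n) v := h1
    rw [hμ] at h2
    rw [h2, map_mul, Module.End.mul_apply, hμ]
  have hcomm : ∀ g : G, ∃ c : ℂ, ∀ v, σ g v = c • ρ g v := by
    intro g
    obtain ⟨c, hc⟩ := exists_smul_of_comm τ hτ (ρ g⁻¹ * σ g) (fun n v => by
      rw [Module.End.mul_apply, Module.End.mul_apply, hconj σ hσ, hconj ρ hρ]
      congr 2
      apply Subtype.ext
      simp [mul_assoc])
    refine ⟨c, fun v => ?_⟩
    have h1 := congrArg (ρ g) (hc v)
    rw [Module.End.mul_apply, ← Module.End.mul_apply, ← map_mul, mul_inv_cancel, map_one,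
      map_smul] at h1
    exact h1
  choose b hb using hcomm
  have hinj : ∀ (c c' : ℂ) (g : G), c • ρ g v₀ = c' • ρ g v₀ → c = c' := by
    intro c c' g h
    have h2 : ρ g v₀ ≠ 0 := by
      intro h3
      apply hv₀
      have h4 := congrArg (ρ g⁻¹) h3
      rw [← Module.End.mul_apply, ← map_mul, inv_mul_cancel, map_one, map_zero] at h4
      exact h4
    exact smul_left_injective ℂ h2 h
  let β' : G →* ℂ :=
    { toFun := b
      map_one' := by
        apply hinj _ _ 1
        rw [← hb, map_one, map_one, one_smul]
      map_mul' := by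
        intro g h
        apply hinj _ _ (g * h)
        rw [← hb, map_mul, map_mul, Module.End.mul_apply, Module.End.mul_apply, hb h, map_smul,
          hb g, smul_smul, mul_comm] }
  refine ⟨MonoidHom.toHomUnits β', ?_, ?_⟩
  · intro n hn
    apply Units.ext
    show b n = 1
    apply hinj _ _ n
    rw [← hb, one_smul, hσ ⟨n, hn⟩, hρ ⟨n, hn⟩]
  · intro g
    ext v
    exact hb g v

/-- Transport of a representation along a linear equivalence. -/
def transport {G : Type*} [Group G] {V W : Type*} [AddCommGroup V] [Module ℂ V]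
    [AddCommGroup W] [Module ℂ W] (ρ : Representation ℂ G W) (T : V ≃ₗ[ℂ] W) :
    Representation ℂ G V where
  toFun g := T.symm.conj (ρ g)
  map_one' := by
    rw [map_one]
    ext v
    simp
  map_mul' g h := by
    rw [map_mul]
    ext v
    simp

theorem transport_apply {G : Type*} [Group G] {V W : Type*} [AddCommGroup V] [Module ℂ V]
    [AddCommGroup W] [Module ℂ W] (ρ : Representation ℂ G W) (T : V ≃ₗ[ℂ] W) (g : G) :
    transport ρ T g = T.symm.conj (ρ g) := rfl

theorem transport_character {G : Type*} [Group G] {V W : Type*} [AddCommGroup V] [Module ℂ V]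
    [AddCommGroup W] [Module ℂ W] (ρ : Representation ℂ G W) (T : V ≃ₗ[ℂ] W) :
    (transport ρ T).character = ρ.character := by
  ext g
  show LinearMap.trace ℂ V (T.symm.conj (ρ g)) = LinearMap.trace ℂ W (ρ g)
  exact LinearMap.trace_conj' _ _

/-- Two extensions of an irreducible character of a normal subgroup differ by a linear character
of the quotient group. -/
theorem exists_hom_mul_of_restrict_eq {G : Type*} [Group G] [Finite G] (N : Subgroup G)
    [hN : N.Normal] {χ χ' : G → ℂ} (hχ : IsCharacter G χ) (hχ' : IsCharacter G χ')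
    {ϑ : N → ℂ} (hirr : IsIrrCharacter N ϑ) (h1 : ∀ n : N, χ n = ϑ n) (h2 : ∀ n : N, χ' n = ϑ n) :
    ∃ β : G →* ℂˣ, (∀ n ∈ N, β n = 1) ∧ ∀ g, χ' g = χ g * β g := by
  obtain ⟨a, ρ, rfl⟩ := hχ
  obtain ⟨b, σ, rfl⟩ := hχ'
  obtain ⟨c, τ, hτ, rfl⟩ := hirr
  obtain ⟨T, hT⟩ := exists_linearEquiv_of_character_eq τ (ρ.comp N.subtype) hτ
    (funext fun n => (h1 n).symm)
  obtain ⟨S, hS⟩ := exists_linearEquiv_of_character_eq τ (σ.comp N.subtype) hτ
    (funext fun n => (h2 n).symm)
  obtain ⟨β, hβ1, hβ2⟩ := exists_hom_of_restrict_eq N (transport ρ T) (transport σ S) τ hτ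
    (fun n => by
      refine LinearMap.ext fun v => ?_
      rw [transport_apply]
      apply T.injective
      rw [hT]
      simp)
    (fun n => by
      refine LinearMap.ext fun v => ?_
      rw [transport_apply]
      apply S.injective
      rw [hS]
      simp)
  refine ⟨β, hβ1, fun g => ?_⟩
  rw [← transport_character ρ T, ← transport_character σ S]
  show LinearMap.trace ℂ _ (transport σ S g) = LinearMap.trace ℂ _ (transport ρ T g) * β g
  rw [hβ2, map_smul, smul_eq_mul, mul_comm]

/-- The determinantal character of an irreducible character. -/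
theorem detChar_of_rep {G : Type*} [Group G] [Finite G] {n : ℕ}
    (ρ : Representation ℂ G (Fin n → ℂ)) (hρ : ρ.IsIrreducible) :
    detChar ρ.character = fun g => LinearMap.det (ρ g) := by
  have h : IsCharacter G ρ.character := ⟨n, ρ, rfl⟩
  have hspec := Classical.choose_spec (Classical.choose_spec h)
  obtain ⟨T, hT⟩ := exists_linearEquiv_of_character_eq ρ _ hρ hspec.symm
  funext g
  have e1 : detChar ρ.character g =
      LinearMap.det ((Classical.choose (Classical.choose_spec h)) g) := by
    unfold detChar
    rw [dif_pos h]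
  rw [e1]
  have e2 : (Classical.choose (Classical.choose_spec h)) g = T.conj (ρ g) := by
    refine LinearMap.ext fun v => ?_
    obtain ⟨w, rfl⟩ := T.surjective v
    rw [← hT]
    simp
  rw [e2, LinearEquiv.conj_apply]
  rw [LinearMap.comp_assoc]
  exact LinearMap.det_conj _ _

/-- The twist of a representation by a linear character. -/
def twist {G : Type*} [Group G] {V : Type*} [AddCommGroup V] [Module ℂ V]
    (ρ : Representation ℂ G V) (ν : G →* ℂˣ) : Representation ℂ G V where
  toFun g := (ν g : ℂ) • ρ g
  map_one' := by simp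
  map_mul' g h := by
    rw [map_mul, map_mul, Units.val_mul, smul_mul_smul_comm]

theorem twist_apply {G : Type*} [Group G] {V : Type*} [AddCommGroup V] [Module ℂ V]
    (ρ : Representation ℂ G V) (ν : G →* ℂˣ) (g : G) : twist ρ ν g = (ν g : ℂ) • ρ g := rfl

theorem twist_character {G : Type*} [Group G] {V : Type*} [AddCommGroup V] [Module ℂ V]
    (ρ : Representation ℂ G V) (ν : G →* ℂˣ) :
    (twist ρ ν).character = fun g => ρ.character g * ν g := by
  ext g
  show LinearMap.trace ℂ _ ((ν g : ℂ) • ρ g) = LinearMap.trace ℂ _ (ρ g) * ν g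
  rw [map_smul, smul_eq_mul, mul_comm]

theorem twist_irr {G : Type*} [Group G] {V : Type*} [AddCommGroup V] [Module ℂ V]
    (ρ : Representation ℂ G V) (hρ : ρ.IsIrreducible) (ν : G →* ℂˣ) :
    (twist ρ ν).IsIrreducible := by
  have hV := nontrivial_of_irr ρ hρ
  exact
    { exists_pair_ne := ⟨⊥, ⊤, fun h => by
        have : (⊥ : Submodule ℂ V) = ⊤ := congrArg Subrepresentation.toSubmodule h
        exact bot_ne_top this⟩
      eq_bot_or_eq_top := fun W => by
        have hW : ∀ g, ∀ v ∈ W.toSubmodule, ρ g v ∈ W.toSubmodule := by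
          intro g v hv
          have h1 := W.apply_mem_toSubmodule g hv
          rw [twist_apply, LinearMap.smul_apply] at h1
          exact (W.toSubmodule.smul_mem_iff (ν g).ne_zero).1 h1
        rcases hρ.eq_bot_or_eq_top ⟨W.toSubmodule, fun g v hv => hW g v hv⟩ with h | h
        · left
          have h' : W.toSubmodule = (⊥ : Submodule ℂ V) := congrArg Subrepresentation.toSubmodule h
          exact Subrepresentation.toSubmodule_injective h'
        · right
          have h' : W.toSubmodule = (⊤ : Submodule ℂ V) := congrArg Subrepresentation.toSubmodule h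
          exact Subrepresentation.toSubmodule_injective h' }

/-- The product of an irreducible character with a linear character is irreducible. -/
theorem isIrr_mul_hom {G : Type*} [Group G] {χ : G → ℂ} (hχ : IsIrrCharacter G χ) (ν : G →* ℂˣ) :
    IsIrrCharacter G (fun g => χ g * ν g) := by
  obtain ⟨n, ρ, hρ, rfl⟩ := hχ
  exact ⟨n, twist ρ ν, twist_irr ρ hρ ν, twist_character ρ ν⟩

/-- The determinantal character of a twist. -/
theorem detChar_mul_hom {G : Type*} [Group G] [Finite G] {χ : G → ℂ} (hχ : IsIrrCharacter G χ)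
    {d : ℕ} (hd : χ 1 = d) (ν : G →* ℂˣ) :
    detChar (fun g => χ g * ν g) = fun g => detChar χ g * (ν g : ℂ) ^ d := by
  obtain ⟨n, ρ, hρ, rfl⟩ := hχ
  have hn : n = d := by
    rw [Representation.char_one] at hd
    simpa using hd
  subst hn
  rw [← twist_character, detChar_of_rep _ (twist_irr ρ hρ ν), detChar_of_rep ρ hρ]
  funext g
  rw [twist_apply, LinearMap.det_smul, mul_comm]
  simp

/-- The determinantal character is a homomorphism to `ℂˣ`. -/
theorem exists_hom_detChar {G : Type*} [Group G] [Finite G] {χ : G → ℂ}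
    (hχ : IsIrrCharacter G χ) : ∃ δ : G →* ℂˣ, ∀ g, detChar χ g = δ g := by
  obtain ⟨n, ρ, hρ, rfl⟩ := hχ
  let D : ((Fin n → ℂ) →ₗ[ℂ] (Fin n → ℂ)) →* ℂ := LinearMap.det
  refine ⟨MonoidHom.toHomUnits (D.comp ρ), fun g => ?_⟩
  rw [detChar_of_rep ρ hρ]
  rfl

/-- The determinantal character of a character which is irreducible on a subgroup restricts to
the determinantal character of the restriction. -/
theorem detChar_restrict {G : Type*} [Group G] [Finite G] (H : Subgroup G) {χ : G → ℂ}
    (hχ : IsIrrCharacter G χ) {ϑ : H → ℂ} (hϑ : IsIrrCharacter H ϑ) (hres : ∀ h : H, χ h = ϑ h)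
    (h : H) : detChar χ h = detChar ϑ h := by
  obtain ⟨n, ρ, hρ, rfl⟩ := hχ
  obtain ⟨m, τ, hτ, rfl⟩ := hϑ
  obtain ⟨T, hT⟩ := exists_linearEquiv_of_character_eq τ (ρ.comp H.subtype) hτ
    (funext fun n => (hres n).symm)
  rw [detChar_of_rep ρ hρ, detChar_of_rep τ hτ]
  show LinearMap.det (ρ (h : G)) = LinearMap.det (τ h)
  have e2 : ρ (h : G) = T.conj (τ h) := by
    refine LinearMap.ext fun v => ?_
    obtain ⟨w, rfl⟩ := T.surjective v
    have := hT h w
    simp only [LinearEquiv.conj_apply_apply, LinearEquiv.symm_apply_apply]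
    rw [this]
    rfl
  rw [e2, LinearEquiv.conj_apply, LinearMap.comp_assoc]
  exact LinearMap.det_conj _ _

end Cfsg.Agent.CharactersDeep.ExtUnique
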