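import Cfsg.Prelude.Def_Characters
import Cfsg.Prelude.Def_Transfer
import Cfsg.Agent.Characters.Core
import Cfsg.Agent.Characters.Linear
import Cfsg.Agent.OddOrderCharacters.ClassSum
import Mathlib.Tactic

/-!
# Central characters and characters of extraspecial groups
-/

set_option autoImplicit false
open scoped ComplexConjugate commutatorElement
open Cfsg

namespace Cfsg.Agent.CharactersDeep.Extraspecial

universe u

variable {P : Type u} [Group P]

/-! ### Group theory -/

/-- If `P' ≤ Z(P)` and `x` is not central then `x` is conjugate to `x * z` for some nontrivial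
central `z`. -/
theorem exists_conj_eq_mul_center (h : commutator P ≤ Subgroup.center P) {x : P}
    (hx : x ∉ Subgroup.center P) :
    ∃ g z : P, z ∈ Subgroup.center P ∧ z ≠ 1 ∧ g * x * g⁻¹ = x * z := by
  rw [Subgroup.mem_center_iff] at hx
  push Not at hx
  obtain ⟨g, hg⟩ := hx
  refine ⟨g, x⁻¹ * (g * x * g⁻¹), h ?_, ?_, ?_⟩
  · have : x⁻¹ * (g * x * g⁻¹) = ⁅x⁻¹, g⁆ := by
      rw [commutatorElement_def]; group
    rw [this]
    exact Subgroup.commutator_mem_commutator (Subgroup.mem_top _) (Subgroup.mem_top _)
  · intro h1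
    apply hg
    have : g * x * g⁻¹ = x := by
      rw [inv_mul_eq_one] at h1; exact h1.symm
    exact mul_inv_eq_iff_eq_mul.1 this
  · group

/-- A homomorphism on a group of prime order that is not trivial does not take the value `1`
away from `1`. -/
theorem hom_ne_one_of_prime_card {Z M : Type*} [Group Z] [Group M] {p : ℕ} [Fact p.Prime]
    (hZ : Nat.card Z = p) (c : Z →* M) (hc : c ≠ 1) {z : Z} (hz : z ≠ 1) : c z ≠ 1 := by
  intro h
  apply hc
  ext a
  obtain ⟨k, rfl⟩ := Subgroup.mem_zpowers_iff.1 (mem_zpowers_of_prime_card (g' := a) hZ hz)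
  rw [map_zpow, h, one_zpow]
  rfl

/-! ### The central character -/

section rep

variable {V : Type*} [AddCommGroup V] [Module ℂ V]

theorem nontrivial_of_isIrreducible (ρ : Representation ℂ P V) (hρ : ρ.IsIrreducible) :
    Nontrivial V := by
  by_contra hn
  rw [not_nontrivial_iff_subsingleton] at hn
  obtain ⟨a, b, hab⟩ := hρ.exists_pair_ne
  apply hab
  apply Subrepresentation.toSubmodule_injective
  exact Subsingleton.elim _ _

/-- The centre acts by scalars in an irreducible representation. -/
theorem exists_central_hom_rep [FiniteDimensional ℂ V] (ρ : Representation ℂ P V)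
    (hρ : ρ.IsIrreducible) :
    ∃ c : Subgroup.center P →* ℂˣ, ∀ z : Subgroup.center P,
      ρ z = (c z : ℂ) • (LinearMap.id : V →ₗ[ℂ] V) := by
  have hcomm : ∀ z : Subgroup.center P, ∀ g : P, (ρ z) ∘ₗ ρ g = ρ g ∘ₗ (ρ z) := by
    intro z g
    have h1 : (z : P) * g = g * z := (Subgroup.mem_center_iff.1 z.2 g).symm
    have h2 := congrArg ρ h1
    rwa [map_mul, map_mul] at h2
  choose c hc using fun z : Subgroup.center P =>
    OddOrderCharacters.ClassSum.schur_scalar ρ hρ (ρ z) (hcomm z)
  have hnt : Nontrivial V := nontrivial_of_isIrreducible ρ hρ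
  have hinj : ∀ a b : ℂ, a • (LinearMap.id : V →ₗ[ℂ] V) =
      b • (LinearMap.id : V →ₗ[ℂ] V) → a = b := by
    intro a b hab
    obtain ⟨v, hv⟩ := exists_ne (0 : V)
    have h1 := LinearMap.congr_fun hab v
    simp only [LinearMap.smul_apply, LinearMap.id_apply] at h1
    exact smul_left_injective ℂ hv h1
  let cM : Subgroup.center P →* ℂ :=
    { toFun := c
      map_one' := by
        apply hinj
        rw [← hc 1]
        simp only [OneMemClass.coe_one, map_one, one_smul]
        rfl
      map_mul' := by
        intro a b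
        apply hinj
        rw [← hc (a * b)]
        simp only [Subgroup.coe_mul, map_mul]
        rw [hc a, hc b]
        ext v
        simp only [Module.End.mul_apply, LinearMap.smul_apply, LinearMap.id_apply, smul_smul] }
  refine ⟨cM.toHomUnits, fun z => ?_⟩
  rw [MonoidHom.coe_toHomUnits]
  exact hc z

/-- If the operators of an irreducible representation commute then it has dimension one. -/
theorem finrank_eq_one_of_commute [FiniteDimensional ℂ V] (ρ : Representation ℂ P V)
    (hρ : ρ.IsIrreducible) (h : ∀ g k : P, ρ g ∘ₗ ρ k = ρ k ∘ₗ ρ g) :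
    Module.finrank ℂ V = 1 := by
  have hnt : Nontrivial V := nontrivial_of_isIrreducible ρ hρ
  choose c hc using fun g : P =>
    OddOrderCharacters.ClassSum.schur_scalar ρ hρ (ρ g) (h g)
  obtain ⟨v, hv⟩ := exists_ne (0 : V)
  rw [finrank_eq_one_iff_of_nonzero v hv]
  let W : Subrepresentation ρ :=
    { toSubmodule := Submodule.span ℂ {v}
      apply_mem_toSubmodule := by
        intro g w hw
        rw [hc g]
        exact Submodule.smul_mem _ _ hw }
  rcases hρ.eq_bot_or_eq_top W with h1 | h1
  · exfalso
    have h2 : Submodule.span ℂ {v} = (⊥ : Submodule ℂ V) :=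
      congrArg Subrepresentation.toSubmodule h1
    rw [Submodule.span_singleton_eq_bot] at h2
    exact hv h2
  · exact congrArg Subrepresentation.toSubmodule h1

end rep

/-- The restriction of an irreducible character to the centre is a multiple of a linear
character, and it is multiplicative on cosets of the centre.  If the linear character is
trivial on the commutator subgroup, the character has degree one. -/
theorem exists_central_hom {χ : P → ℂ} (hχ : IsIrrCharacter P χ) :
    ∃ c : Subgroup.center P →* ℂˣ, (∀ (x : P) (z : Subgroup.center P),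
      χ (x * z) = χ x * (c z : ℂ)) ∧
      (commutator P ≤ Subgroup.center P → c = 1 → χ 1 = 1) := by
  obtain ⟨n, ρ, hρ, rfl⟩ := hχ
  obtain ⟨c, hc⟩ := exists_central_hom_rep ρ hρ
  refine ⟨c, fun x z => ?_, ?_⟩
  · change LinearMap.trace ℂ _ (ρ (x * z)) = LinearMap.trace ℂ _ (ρ x) * c z
    rw [map_mul, hc z]
    have : ρ x * ((c z : ℂ) • LinearMap.id) = (c z : ℂ) • ρ x := by
      ext v; simp
    rw [this, map_smul, smul_eq_mul, mul_comm]
  · intro hle h1
    have hfr : Module.finrank ℂ (Fin n → ℂ) = 1 := by
      apply finrank_eq_one_of_commute ρ hρ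
      intro g k
      have hz : ⁅g, k⁆ ∈ Subgroup.center P :=
        hle (Subgroup.commutator_mem_commutator (Subgroup.mem_top _) (Subgroup.mem_top _))
      have h2 := hc ⟨⁅g, k⁆, hz⟩
      rw [h1] at h2
      have h3 : g * k = ⁅g, k⁆ * (k * g) := by
        rw [commutatorElement_def]; group
      have h4 := congrArg ρ h3
      rw [map_mul, map_mul, map_mul] at h4
      simp only [MonoidHom.one_apply, Units.val_one, one_smul] at h2
      rw [h2] at h4
      exact h4
    rw [Representation.char_one, hfr, Nat.cast_one]

/-- A class function which is multiplicative on cosets of the centre for a function which is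
not `1` at nontrivial elements vanishes outside the centre, in a group of class two. -/
theorem eq_zero_of_notMem_center (h : commutator P ≤ Subgroup.center P) {f : P → ℂ}
    (hf : IsClassFunction P f) (c : Subgroup.center P → ℂ)
    (hc : ∀ z : Subgroup.center P, z ≠ 1 → c z ≠ 1)
    (hfc : ∀ (x : P) (z : Subgroup.center P), f (x * z) = f x * c z) {x : P}
    (hx : x ∉ Subgroup.center P) : f x = 0 := by
  obtain ⟨g, z, hz, hz1, hgz⟩ := exists_conj_eq_mul_center h hx
  have h1 := hf x g
  have hz1' : (⟨z, hz⟩ : Subgroup.center P) ≠ 1 := by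
    intro h; exact hz1 (congrArg Subtype.val h)
  rw [hgz, hfc x ⟨z, hz⟩] at h1
  have h2 : f x * (c ⟨z, hz⟩ - 1) = 0 := by rw [mul_sub, h1]; ring
  rcases mul_eq_zero.1 h2 with h3 | h3
  · exact h3
  · exact absurd (sub_eq_zero.1 h3) (hc _ hz1')

/-- The norm of a function supported on the centre and of the form `d * c z` there. -/
theorem classInner_of_center [Fintype P] {f : P → ℂ} (d : ℂ) (c : Subgroup.center P →* ℂˣ)
    (hf0 : ∀ x ∉ Subgroup.center P, f x = 0) (hfc : ∀ z : Subgroup.center P, f z = d * c z) :
    classInner f f = (Nat.card P : ℂ)⁻¹ * (Nat.card (Subgroup.center P) * (d * conj d)) := by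
  classical
  change (Nat.card P : ℂ)⁻¹ * ∑ g : P, f g * conj (f g) = _
  congr 1
  have h1 : ∑ g : P, f g * conj (f g) = ∑ z : Subgroup.center P, f z * conj (f z) := by
    refine (Fintype.sum_of_injective (Subtype.val : Subgroup.center P → P)
      Subtype.val_injective _ _ ?_ ?_).symm
    · intro g hg
      have hg' : g ∉ Subgroup.center P := fun h => hg ⟨⟨g, h⟩, rfl⟩
      rw [hf0 g hg', zero_mul]
    · intro h
      rfl
  rw [h1]
  have h2 : ∀ z : Subgroup.center P, f z * conj (f z) = d * conj d := by
    intro z
    have h3 : (c z : ℂ) * conj (c z : ℂ) = 1 := by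
      rw [Complex.mul_conj, Complex.normSq_eq_norm_sq, Characters.Linear.norm_hom_apply]
      simp
    rw [hfc z, map_mul]
    calc d * (c z : ℂ) * (conj d * conj (c z : ℂ))
        = (d * conj d) * ((c z : ℂ) * conj (c z : ℂ)) := by ring
      _ = _ := by rw [h3, mul_one]
  rw [Finset.sum_congr rfl (fun z _ => h2 z), Finset.sum_const, Finset.card_univ,
    nsmul_eq_mul, Nat.card_eq_fintype_card]

end Cfsg.Agent.CharactersDeep.Extraspecial
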