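import Mathlib.LinearAlgebra.FiniteDimensional.Basic
import Cfsg.Agent.CharactersDeep.Tifn

/-!
# Counting classes and characters for a T.I. subgroup with Frobenius normalizer

`K` a subgroup of the finite group `G` meeting its conjugates by elements outside
`N = N_G(K)` trivially and containing the centralizers of its non-identity elements; `S` the
irreducible characters of `N` not having `K` in the kernel.
* `card_add_one_le`: `|S| + 1` is at most the number of classes of `G` meeting `K`
* `card_irr_ge`: if at least `e` classes of `G` do not meet `K`, then `e + 1 + |S| ≤ |Irr G|`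
-/

set_option autoImplicit false

open Cfsg

namespace Cfsg.Agent.CharactersDeep.FeitClassCount

open Cfsg.Agent.CharactersDeep.Tifn

universe u

variable {G : Type u} [Group G]

/-- `|S| + 1` is at most the number of classes of `G` meeting `K`. -/
theorem card_add_one_le [Fintype G] (K : Subgroup G)
    (hTI : ∀ g : G, g ∉ Subgroup.normalizer (K : Set G) → ∀ k ∈ K, g * k * g⁻¹ ∈ K → k = 1)
    (hC : ∀ k ∈ K, k ≠ 1 → Subgroup.centralizer ({k} : Set G) ≤ K) :
    Nat.card {χ : ↥(Subgroup.normalizer (K : Set G)) → ℂ //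
      IsIrrCharacter ↥(Subgroup.normalizer (K : Set G)) χ ∧
        ∃ k : ↥(Subgroup.normalizer (K : Set G)), (k : G) ∈ K ∧ χ k ≠ χ 1} + 1 ≤
      Nat.card {C : ConjClasses G // ∃ g : G, ConjClasses.mk g = C ∧ g ∈ K} := by
  classical
  set N : Subgroup G := Subgroup.normalizer (K : Set G) with hN
  have hKN : K ≤ N := Subgroup.le_normalizer
  let T := {χ : N → ℂ // IsIrrCharacter N χ ∧ ∃ k : N, (k : G) ∈ K ∧ χ k ≠ χ 1}
  let A := {C : ConjClasses G // ∃ g : G, ConjClasses.mk g = C ∧ g ∈ K}
  have := Characters.Core.finite_irr (G := N)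
  let ι : T → IrrCharacter N := fun χ => ⟨χ.1, χ.2.1⟩
  have hι : Function.Injective ι := by
    intro χ ψ h
    apply Subtype.ext
    exact congrArg (fun z : IrrCharacter N => (z : N → ℂ)) h
  have hTfin : Finite T := Finite.of_injective ι hι
  let _ : Fintype T := Fintype.ofFinite T
  have hAfin : Finite A := inferInstance
  let _ : Fintype A := Fintype.ofFinite A
  choose rep hrep hrepK using fun C : A => C.2
  let F : Option T → (A → ℂ) := fun o => match o with
    | none => fun _ => 1
    | some χ => fun C => χ.1 ⟨rep C, hKN (hrepK C)⟩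
  have hlin : LinearIndependent ℂ F := by
    rw [Fintype.linearIndependent_iff]
    intro c hc
    -- the relation holds at every element of `K`
    have hrel : ∀ k : N, (k : G) ∈ K → c none + ∑ χ : T, c (some χ) * χ.1 k = 0 := by
      intro k hk
      let C : A := ⟨ConjClasses.mk (k : G), k, rfl, hk⟩
      have h1 := congrFun hc C
      rw [Finset.sum_apply, Fintype.sum_option] at h1
      have h2 : IsConj (rep C) (k : G) := ConjClasses.mk_eq_mk_iff_isConj.1 (hrep C)
      obtain ⟨x, hx⟩ := isConj_iff.1 h2
      have h3 : ∀ χ : T, χ.1 ⟨rep C, hKN (hrepK C)⟩ = χ.1 k := by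
        intro χ
        by_cases hxN : x ∈ N
        · have h4 := Characters.Core.isIrr_isClassFunction χ.2.1 ⟨rep C, hKN (hrepK C)⟩ ⟨x, hxN⟩
          rw [← h4]
          exact congrArg χ.1 (Subtype.ext hx)
        · have h5 : rep C = 1 := hTI x hxN _ (hrepK C) (by rw [hx]; exact hk)
          have h6 : (k : G) = 1 := by rw [← hx, h5]; simp
          exact congrArg χ.1 (Subtype.ext (h5.trans h6.symm))
      have h7 : c none * 1 + ∑ χ : T, c (some χ) * χ.1 ⟨rep C, hKN (hrepK C)⟩ = 0 := h1
      rw [mul_one] at h7
      rw [← h7]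
      congr 1
      exact Finset.sum_congr rfl (fun χ _ => by rw [h3 χ])
    -- the constant has coefficient zero
    have hnone : c none = 0 := by
      let _ : Fintype ↥(kerN K) := Fintype.ofFinite _
      have h1 : ∑ k : kerN K, (c none + ∑ χ : T, c (some χ) * χ.1 (k : N)) = 0 :=
        Finset.sum_eq_zero fun k _ => hrel k ((mem_kerN K).1 k.2)
      rw [Finset.sum_add_distrib, Finset.sum_comm, Finset.sum_const, nsmul_eq_mul] at h1
      have h2 : ∑ χ : T, ∑ k : kerN K, c (some χ) * χ.1 (k : N) = 0 := by
        refine Finset.sum_eq_zero fun χ _ => ?_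
        rw [← Finset.mul_sum, sum_kernel_eq_zero K χ.2.1 χ.2.2, mul_zero]
      rw [h2, add_zero] at h1
      rcases mul_eq_zero.1 h1 with h | h
      · exfalso
        have : (Finset.univ : Finset ↥(kerN K)).card = 0 := by exact_mod_cast h
        rw [Finset.card_eq_zero] at this
        exact absurd (Finset.mem_univ (1 : ↥(kerN K))) (by rw [this]; simp)
      · exact h
    have hsum : ∑ χ : T, c (some χ) • χ.1 = 0 := by
      funext x
      rw [Finset.sum_apply]
      by_cases hx : (x : G) ∈ K
      · have h1 := hrel x hx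
        rw [hnone, zero_add] at h1
        exact h1
      · refine Finset.sum_eq_zero fun χ _ => ?_
        show c (some χ) * χ.1 x = 0
        rw [apply_eq_zero_of_notMem K hC χ.2.1 χ.2.2 x hx, mul_zero]
    have hindep : LinearIndependent ℂ (fun χ : T => χ.1) :=
      (Characters.Core.irr_linearIndependent (G := N)).comp ι hι
    rw [Fintype.linearIndependent_iff] at hindep
    intro o
    cases o with
    | none => exact hnone
    | some χ => exact hindep (fun χ => c (some χ)) hsum χ
  have hcard := hlin.fintype_card_le_finrank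
  rw [Fintype.card_option, Module.finrank_fintype_fun_eq_card] at hcard
  rw [Nat.card_eq_fintype_card, Nat.card_eq_fintype_card]
  exact hcard

/-- If at least `e` classes of `G` do not meet `K` then `G` has at least `e + 1 + |S|` irreducible
characters. -/
theorem card_irr_ge [Fintype G] (K : Subgroup G)
    (hTI : ∀ g : G, g ∉ Subgroup.normalizer (K : Set G) → ∀ k ∈ K, g * k * g⁻¹ ∈ K → k = 1)
    (hC : ∀ k ∈ K, k ≠ 1 → Subgroup.centralizer ({k} : Set G) ≤ K)
    (e : ℕ) (hcl : e ≤ Nat.card {C : ConjClasses G // ∀ g : G, ConjClasses.mk g = C → g ∉ K}) :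
    e + 1 + Nat.card {χ : ↥(Subgroup.normalizer (K : Set G)) → ℂ //
      IsIrrCharacter ↥(Subgroup.normalizer (K : Set G)) χ ∧
        ∃ k : ↥(Subgroup.normalizer (K : Set G)), (k : G) ∈ K ∧ χ k ≠ χ 1} ≤
      Nat.card (IrrCharacter G) := by
  classical
  have h1 := card_add_one_le K hTI hC
  have h2 : Nat.card {C : ConjClasses G // ∃ g : G, ConjClasses.mk g = C ∧ g ∈ K} +
      Nat.card {C : ConjClasses G // ¬ ∃ g : G, ConjClasses.mk g = C ∧ g ∈ K} =
      Nat.card (ConjClasses G) := by
    rw [← Nat.card_sum]
    exact Nat.card_congr (Equiv.sumCompl _)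
  have h3 : Nat.card {C : ConjClasses G // ¬ ∃ g : G, ConjClasses.mk g = C ∧ g ∈ K} =
      Nat.card {C : ConjClasses G // ∀ g : G, ConjClasses.mk g = C → g ∉ K} := by
    refine Nat.card_congr (Equiv.subtypeEquivRight fun C => ?_)
    push Not
    rfl
  rw [Characters.Core.card_irr]
  omega

end Cfsg.Agent.CharactersDeep.FeitClassCount
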