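import Mathlib
import Cfsg.Prelude.Def_Characters
import Cfsg.Agent.Characters.Core
import Cfsg.Agent.Characters.Values
import Cfsg.Agent.CharDeep.FrobKernel
import Cfsg.Agent.OddOrderCharacters.ClassSum

/-!
# Irreducible characters with a normal subgroup containing all commutators in the kernel
-/

set_option autoImplicit false

open scoped ComplexConjugate
open Cfsg

namespace Cfsg.Agent.CharactersDeep.FeitLinear

open Cfsg.Agent.Characters

variable {L : Type*} [Group L] [Finite L]

/-- An irreducible character constant on a subgroup containing all commutators is linear. -/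
theorem apply_one_eq_one (K : Subgroup L) (hcomm : ∀ x y : L, x * y * x⁻¹ * y⁻¹ ∈ K)
    {ζ : L → ℂ} (hζ : IsIrrCharacter L ζ) (h : ∀ k ∈ K, ζ k = ζ 1) : ζ 1 = 1 := by
  classical
  let _ : Fintype L := Fintype.ofFinite L
  have hnorm := Core.classInner_irr_self hζ
  obtain ⟨n, ρ, hρ, rfl⟩ := hζ
  have h1 : ρ.character 1 = (Module.finrank ℂ (Fin n → ℂ) : ℂ) := Representation.char_one ρ
  have hk : ∀ k ∈ K, ρ k = LinearMap.id := by
    intro k hk
    rw [← Values.character_eq_finrank_iff, h k hk, h1]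
  have hc : ∀ x y : L, ρ x ∘ₗ ρ y = ρ y ∘ₗ ρ x := by
    intro x y
    have h2 : ρ (x * y) = ρ (y * x) := by
      have h3 : x * y = (x * y * x⁻¹ * y⁻¹) * (y * x) := by group
      rw [h3, map_mul, hk _ (hcomm x y)]
      rfl
    rw [map_mul, map_mul] at h2
    exact h2
  have hn : ∀ x : L, ‖ρ.character x‖ = (Module.finrank ℂ (Fin n → ℂ) : ℝ) := by
    intro x
    rw [Values.norm_character_eq_iff]
    exact OddOrderCharacters.ClassSum.schur_scalar ρ hρ (ρ x) (fun g => hc x g)
  have h2 : classInner ρ.character ρ.character = ((Module.finrank ℂ (Fin n → ℂ) : ℂ)) ^ 2 := by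
    rw [Core.classInner_def]
    have h3 : ∀ x : L, ρ.character x * conj (ρ.character x) =
        ((Module.finrank ℂ (Fin n → ℂ) : ℂ)) ^ 2 := by
      intro x
      rw [Complex.mul_conj, Complex.normSq_eq_norm_sq, hn x]
      push_cast
      ring
    rw [Finset.sum_congr rfl (fun x _ => h3 x), Finset.sum_const, Finset.card_univ, nsmul_eq_mul,
      ← Nat.card_eq_fintype_card, ← mul_assoc, inv_mul_cancel₀ Core.card_ne_zero_complex, one_mul]
  rw [hnorm] at h2
  have h3 : (Module.finrank ℂ (Fin n → ℂ)) ^ 2 = 1 := by exact_mod_cast h2.symm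
  have h4 : Module.finrank ℂ (Fin n → ℂ) = 1 := by
    exact (pow_eq_one_iff.mp h3).resolve_right two_ne_zero
  rw [h1, h4]
  norm_num

open scoped Classical in
/-- The number of irreducible characters constant on `K` is the index of `K`, if `K` contains all
commutators. -/
theorem card_const_eq_index [Fintype (IrrCharacter L)] (K : Subgroup L) [K.Normal]
    (hcomm : ∀ x y : L, x * y * x⁻¹ * y⁻¹ ∈ K) :
    (Finset.univ.filter (fun ζ : IrrCharacter L =>
        ¬ ∃ k ∈ K, (ζ : L → ℂ) k ≠ (ζ : L → ℂ) 1)).card = K.index := by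
  let _ : Fintype L := Fintype.ofFinite L
  have h1 := CharDeep.FrobKernel.sum_degree_mul_apply_of_const K (1 : L)
  rw [if_pos (one_mem K)] at h1
  have h2 : ∀ ζ ∈ Finset.univ.filter (fun ζ : IrrCharacter L =>
        ¬ ∃ k ∈ K, (ζ : L → ℂ) k ≠ (ζ : L → ℂ) 1), (ζ : L → ℂ) 1 * (ζ : L → ℂ) 1 = 1 := by
    intro ζ hζ
    have h3 := (Finset.mem_filter.1 hζ).2
    push Not at h3
    rw [apply_one_eq_one K hcomm ζ.2 h3, one_mul]
  rw [Finset.sum_congr rfl h2, Finset.sum_const, nsmul_eq_mul, mul_one] at h1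
  exact_mod_cast h1

open scoped Classical in
/-- The average over `K` of a class function is the sum of its multiplicities at the characters
constant on `K`, if `K` contains all commutators. -/
theorem average_eq_sum [Fintype L] [Fintype (IrrCharacter L)] (K : Subgroup L) [K.Normal]
    [Fintype K]
    (hcomm : ∀ x y : L, x * y * x⁻¹ * y⁻¹ ∈ K) {f : L → ℂ} (hf : IsClassFunction L f) :
    (Nat.card K : ℂ)⁻¹ * ∑ k : K, f k =
      ∑ ζ ∈ Finset.univ.filter (fun ζ : IrrCharacter L =>
        ¬ ∃ k ∈ K, (ζ : L → ℂ) k ≠ (ζ : L → ℂ) 1), classInner f (ζ : L → ℂ) := by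
  have hK : (Nat.card K : ℂ) ≠ 0 := Core.card_ne_zero_complex
  have h1 : ∀ k : K, f k = ∑ ζ : IrrCharacter L, classInner f (ζ : L → ℂ) * (ζ : L → ℂ) k := by
    intro k
    have h2 := congrFun (Core.classFunction_eq_sum hf) k
    rw [Finset.sum_apply] at h2
    exact h2
  rw [Finset.sum_congr rfl (fun k _ => h1 k), Finset.sum_comm, Finset.sum_filter, Finset.mul_sum]
  refine Finset.sum_congr rfl (fun ζ _ => ?_)
  rw [← Finset.mul_sum]
  by_cases h : ∃ k ∈ K, (ζ : L → ℂ) k ≠ (ζ : L → ℂ) 1
  · rw [if_neg (not_not.2 h), CharDeep.FrobKernel.sum_apply_eq_zero K ζ.2 h]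
    ring
  · rw [if_pos h]
    push Not at h
    rw [Finset.sum_congr rfl (fun (k : K) _ => h k k.2), apply_one_eq_one K hcomm ζ.2 h,
      Finset.sum_const, Finset.card_univ, nsmul_eq_mul, ← Nat.card_eq_fintype_card]
    field_simp

end Cfsg.Agent.CharactersDeep.FeitLinear
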