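import Mathlib
import Cfsg.Prelude.Def_Characters
import Cfsg.Prelude.Def_OddOrderChar
import Cfsg.Agent.Characters.Core
import Cfsg.Agent.Characters.GaloisBasic
import Cfsg.Agent.CharDeep.TIFN
import Cfsg.Agent.CharactersDeep.Tifn
import Cfsg.Agent.CharactersDeep.NormalInd
import Cfsg.Agent.CharactersDeep.FeitLinear
import Cfsg.Agent.S0145
import Cfsg.Agent.S0852

/-!
# The coherent case of Feit's theorem on Zassenhaus groups, in an abstract setting

`K` is a T.I. subgroup with Frobenius normalizer `N`, `N / K` is abelian of order `e`, `K` has order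
`h > 2 e + 1`, `N` has index `h + 1` in `G`, the induced characters from `N / K` behave as for a
2-transitive action, and `G` has at least `e + 1` more irreducible characters than there are
exceptional ones.  If the exceptional characters are coherent, this is a contradiction.
-/

set_option autoImplicit false

open scoped ComplexConjugate
open Cfsg

namespace Cfsg.Agent.CharactersDeep.FeitCoherent

open Cfsg.Agent.Characters

/-- Restriction of a character to a subgroup. -/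
theorem isCharacter_res {G : Type*} [Group G] (N : Subgroup G) {χ : G → ℂ}
    (hχ : IsCharacter G χ) : IsCharacter N (fun x : N => χ x) :=
  Core.isCharacter_comp N.subtype hχ

/-- Arithmetic: the integer `m` of the exceptional characters is zero. -/
theorem eq_zero_of_nonneg {m : ℤ} {e h : ℤ} (he : 0 < e) (hlt : 2 * e + 1 < h)
    (hm : 0 ≤ 2 * m * e - m ^ 2 * (h - 1)) : m = 0 := by
  by_contra hne
  rcases lt_or_gt_of_ne hne with h0 | h0
  · have h1 : m ≤ -1 := by omega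
    nlinarith [mul_pos he (show (0:ℤ) < h - 1 by omega), sq_nonneg m, mul_nonneg (sq_nonneg m) (show (0:ℤ) ≤ h - 1 by omega)]
  · have h1 : 1 ≤ m := by omega
    have h2 : m ^ 2 * (h - 1) ≥ m * (h - 1) := by
      have : m ^ 2 ≥ m := by nlinarith
      exact mul_le_mul_of_nonneg_right this (by omega)
    have h3 : m * (h - 1) > m * (2 * e) := by
      exact mul_lt_mul_of_pos_left (by omega) (by omega)
    nlinarith

theorem coherent_false {G : Type*} [Group G] [Fintype G] (K : Subgroup G)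
    (hTI : ∀ g : G, g ∉ Subgroup.normalizer (K : Set G) → ∀ k ∈ K, g * k * g⁻¹ ∈ K → k = 1)
    (hlt : K < Subgroup.normalizer (K : Set G))
    (hC : ∀ k ∈ K, k ≠ 1 → Subgroup.centralizer ({k} : Set G) ≤ K)
    [Fintype ↥(Subgroup.normalizer (K : Set G))]
    (S : Set (↥(Subgroup.normalizer (K : Set G)) → ℂ))
    (hS : S = {χ : ↥(Subgroup.normalizer (K : Set G)) → ℂ |
      Cfsg.IsIrrCharacter ↥(Subgroup.normalizer (K : Set G)) χ ∧
        ∃ k : ↥(Subgroup.normalizer (K : Set G)), (k : G) ∈ K ∧ χ k ≠ χ 1})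
    (htwo : ∃ χ ∈ S, ∃ ξ ∈ S, χ ≠ ξ)
    (star : (↥(Subgroup.normalizer (K : Set G)) → ℂ) → (G → ℂ))
    (hstar : Cfsg.IsLinearIsometryOn (Cfsg.zspan S) star)
    (hext : ∀ α ∈ Cfsg.zspanOn S ({1}ᶜ : Set ↥(Subgroup.normalizer (K : Set G))),
      star α = Cfsg.indFun (Subgroup.normalizer (K : Set G)) α)
    (h e : ℕ) (hh : Nat.card K = h)
    (he : (K.subgroupOf (Subgroup.normalizer (K : Set G))).index = e)
    (hN : (Subgroup.normalizer (K : Set G)).index = h + 1)
    (hcomm : ∀ x ∈ Subgroup.normalizer (K : Set G), ∀ y ∈ Subgroup.normalizer (K : Set G),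
      x * y * x⁻¹ * y⁻¹ ∈ K)
    (he1 : 1 < e) (hlt2 : 2 * e + 1 < h)
    (hlin : ∃ χ ∈ S, χ 1 = (e : ℂ))
    (hind : ∀ μ : ↥(Subgroup.normalizer (K : Set G)) → ℂ,
      Cfsg.IsCharacter ↥(Subgroup.normalizer (K : Set G)) μ → μ 1 = 1 →
      (∀ u : ↥(Subgroup.normalizer (K : Set G)), (u : G) ∈ K → μ u = 1) → μ ≠ (fun _ => 1) →
      Cfsg.IsIrrCharacter G (Cfsg.indFun (Subgroup.normalizer (K : Set G)) μ) ∧
        ∀ u ∈ K, u ≠ 1 → Cfsg.indFun (Subgroup.normalizer (K : Set G)) μ u = 1)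
    (hSt : ∃ St : G → ℂ, Cfsg.IsIrrCharacter G St ∧
      Cfsg.indFun (Subgroup.normalizer (K : Set G)) (fun _ => 1) = 1 + St ∧
        ∀ u ∈ K, u ≠ 1 → St u = 0)
    (hcard : e + 1 + Nat.card {χ : ↥(Subgroup.normalizer (K : Set G)) → ℂ //
      Cfsg.IsIrrCharacter ↥(Subgroup.normalizer (K : Set G)) χ ∧
        ∃ k : ↥(Subgroup.normalizer (K : Set G)), (k : G) ∈ K ∧ χ k ≠ χ 1} ≤
      Nat.card (Cfsg.IrrCharacter G)) : False := by
  classical
  have hmain := S0852.result K hTI hlt hC S hS htwo star hstar hext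
  obtain ⟨m, hm⟩ := CharDeep.TIFN.exists_int_main hTI hC hS
    (by obtain ⟨χ, hχ, -⟩ := htwo; exact ⟨χ, hχ⟩) hstar hext
  have hcentN := CharDeep.TIFN.centralizer_subgroupOf K hC
  have hvan : ∀ χ ∈ S, ∀ x : ↥(Subgroup.normalizer (K : Set G)), (x : G) ∉ K → χ x = 0 := by
    intro χ hχ x hx
    rw [hS] at hχ
    exact Tifn.apply_eq_zero_of_notMem K hC hχ.1 hχ.2 x hx
  have hind1 : ∀ α : ↥(Subgroup.normalizer (K : Set G)) → ℂ,
      indFun (Subgroup.normalizer (K : Set G)) α 1 = (h + 1 : ℂ) * α 1 := by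
    intro α
    rw [NormalInd.indFun_one, hN]
    push_cast
    rfl
  have hfrob : ∀ (α : ↥(Subgroup.normalizer (K : Set G)) → ℂ) (χ : G → ℂ), IsClassFunction G χ →
      classInner χ (indFun (Subgroup.normalizer (K : Set G)) α) =
        classInner (fun x : ↥(Subgroup.normalizer (K : Set G)) => χ x) α := by
    intro α χ hχ
    rw [← Core.classInner_conj_symm, NormalInd.classInner_indFun _ _ _ hχ,
      Core.classInner_conj_symm]
  have hKle : K ≤ Subgroup.normalizer (K : Set G) := hlt.le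
  -- abbreviate
  generalize hNdef : Subgroup.normalizer (K : Set G) = N at *
  let _ : (K.subgroupOf N).Normal := by
    rw [← hNdef]
    exact Subgroup.normal_in_normalizer
  set K' : Subgroup N := K.subgroupOf N with hK'
  have hK'mem : ∀ x : N, x ∈ K' ↔ (x : G) ∈ K := fun x => Subgroup.mem_subgroupOf
  have hK'card : Nat.card K' = h := by
    rw [← hh]
    exact Nat.card_congr (Subgroup.subgroupOfEquivOfLe hKle).toEquiv
  have hcomm' : ∀ x y : N, x * y * x⁻¹ * y⁻¹ ∈ K' := by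
    intro x y
    rw [hK'mem]
    exact hcomm x x.2 y y.2
  have := Core.finite_irr (G := G)
  have := Core.finite_irr (G := N)
  let _ : Fintype (IrrCharacter G) := Fintype.ofFinite _
  let _ : Fintype (IrrCharacter N) := Fintype.ofFinite _
  let _ : Fintype K' := Fintype.ofFinite _
  have he0 : (e : ℂ) ≠ 0 := Nat.cast_ne_zero.2 (by omega)
  have hh0 : (h : ℂ) ≠ 0 := Nat.cast_ne_zero.2 (by omega)
  have hh1 : (h : ℂ) - 1 ≠ 0 := by
    have : ((h - 1 : ℕ) : ℂ) ≠ 0 := Nat.cast_ne_zero.2 (by omega)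
    rwa [Nat.cast_sub (by omega), Nat.cast_one] at this
  -- a non-identity element of `K`
  obtain ⟨u, huK, hu1⟩ : ∃ u ∈ K, u ≠ 1 := by
    have h1 : 1 < Nat.card K := by omega
    have : Nontrivial K := Finite.one_lt_card_iff_nontrivial.mp h1
    obtain ⟨u, hu⟩ := exists_ne (1 : K)
    exact ⟨u, u.2, fun h => hu (Subtype.ext h)⟩
  let u' : N := ⟨u, hKle huK⟩
  have hu'K : u' ∈ K' := (hK'mem _).mpr huK
  have hu'1 : u' ≠ 1 := fun h => hu1 (congrArg Subtype.val h)
  -- the predicate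
  let P : IrrCharacter N → Prop := fun ζ => ∃ k ∈ K', (ζ : N → ℂ) k ≠ (ζ : N → ℂ) 1
  have hPS : ∀ ζ : IrrCharacter N, P ζ ↔ (ζ : N → ℂ) ∈ S := by
    intro ζ
    rw [hS]
    exact ⟨fun ⟨k, hk, hk'⟩ => ⟨ζ.2, k, hk, hk'⟩, fun ⟨_, k, hk, hk'⟩ => ⟨k, hk, hk'⟩⟩
  let FP : Finset (IrrCharacter N) := Finset.univ.filter P
  let FQ : Finset (IrrCharacter N) := Finset.univ.filter (fun ζ => ¬ P ζ)
  have hFPcard : FP.card = Nat.card {χ : N → ℂ // IsIrrCharacter N χ ∧
        ∃ k : N, (k : G) ∈ K ∧ χ k ≠ χ 1} := by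
    rw [← Fintype.card_subtype, ← Nat.card_eq_fintype_card]
    refine Nat.card_congr ⟨fun ζ => ⟨ζ.1.1, ζ.1.2, ζ.2⟩, fun χ => ⟨⟨χ.1, χ.2.1⟩, χ.2.2⟩,
      fun _ => rfl, fun _ => rfl⟩
  have hFQcard : FQ.card = e := by
    rw [← he]
    convert FeitLinear.card_const_eq_index K' hcomm'
  have hlin1 : ∀ ζ : IrrCharacter N, ¬ P ζ → ∀ k ∈ K', (ζ : N → ℂ) k = 1 := by
    intro ζ hζ k hk
    have h1 : ∀ k ∈ K', (ζ : N → ℂ) k = (ζ : N → ℂ) 1 := by
      intro k hk
      by_contra hne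
      exact hζ ⟨k, hk, hne⟩
    rw [h1 k hk]
    exact FeitLinear.apply_one_eq_one K' hcomm' ζ.2 h1
  -- sums over `FP`
  have hsum1 : ∑ ζ ∈ FP, (ζ : N → ℂ) 1 * (ζ : N → ℂ) u' = -(e : ℂ) := by
    rw [← he]
    convert CharDeep.FrobKernel.sum_degree_mul_apply_of_ne K' hu'K hu'1
  have hsum2 : ∑ ζ ∈ FP, (ζ : N → ℂ) 1 * (ζ : N → ℂ) 1 = (e : ℂ) * (h - 1) := by
    rw [← he, ← hK'card]
    convert CharDeep.FrobKernel.sum_degree_sq_of_ne K'
  -- the exceptional characters
  have hex : ∀ ζ : IrrCharacter N, ∃ (θ : IrrCharacter G) (s : ℂ), P ζ →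
      (s = 1 ∨ s = -1) ∧ star ζ = fun g => s * (θ : G → ℂ) g := by
    intro ζ
    by_cases hζ : P ζ
    · have hζS := (hPS ζ).mp hζ
      have hz : (ζ : N → ℂ) ∈ zspan S := Submodule.subset_span hζS
      have e2 : classInner (star ζ) (star ζ) = 1 := by
        rw [hstar.2.2.1 _ hz _ hz]
        exact Core.classInner_irr_self ζ.2
      rcases Core.isIrr_of_generalized (hstar.2.2.2 _ hz) e2 with h1 | h1
      · refine ⟨⟨_, h1⟩, 1, fun _ => ⟨Or.inl rfl, ?_⟩⟩
        funext g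
        rw [one_mul]
      · refine ⟨⟨_, h1⟩, -1, fun _ => ⟨Or.inr rfl, ?_⟩⟩
        funext g
        show star ζ g = -1 * (-star ζ g)
        ring
    · exact ⟨⟨1, Core.isIrr_one⟩, 1, fun h => absurd h hζ⟩
  choose X s hXs using hex
  have hXinj : Set.InjOn X FP := by
    intro ζ hζ ξ hξ hXX
    have hζP : P ζ := (Finset.mem_filter.1 hζ).2
    have hξP : P ξ := (Finset.mem_filter.1 hξ).2
    by_contra hne
    have hne' : (ζ : N → ℂ) ≠ ξ := fun h => hne (Subtype.ext h)
    have e1 : classInner (star ζ) (star ξ) = 0 := by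
      rw [hstar.2.2.1 _ (Submodule.subset_span ((hPS ζ).mp hζP)) _
        (Submodule.subset_span ((hPS ξ).mp hξP))]
      exact Core.classInner_irr_ne ζ.2 ξ.2 hne'
    have e2 : star ζ = s ζ • (X ζ : G → ℂ) := by
      rw [(hXs ζ hζP).2]
      rfl
    have e3 : star ξ = s ξ • (X ζ : G → ℂ) := by
      rw [(hXs ξ hξP).2, ← hXX]
      rfl
    rw [e2, e3, Core.classInner_smul_left, Core.classInner_smul_right,
      Core.classInner_irr_self (X ζ).2] at e1
    rcases (hXs ζ hζP).1 with h1 | h1 <;> rcases (hXs ξ hξP).1 with h2 | h2 <;>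
      rw [h1, h2] at e1 <;> norm_num at e1
  let Ex : Finset (IrrCharacter G) := FP.image X
  have hExcard : Ex.card = FP.card := Finset.card_image_of_injOn hXinj
  have hconst : ∀ θ : IrrCharacter G, θ ∉ Ex → ∀ a ∈ K, ∀ b ∈ K, a ≠ 1 → b ≠ 1 →
      (θ : G → ℂ) a = (θ : G → ℂ) b := by
    intro θ hθ a ha b hb ha1 hb1
    by_contra hne
    obtain ⟨χ, hχ, h1⟩ := (hmain θ θ.2).2 ⟨a, ha, b, hb, ha1, hb1, hne⟩
    have hχi : IsIrrCharacter N χ := by
      rw [hS] at hχ
      exact hχ.1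
    let ζ : IrrCharacter N := ⟨χ, hχi⟩
    have hζP : P ζ := (hPS ζ).mpr hχ
    apply hθ
    rw [Finset.mem_image]
    refine ⟨ζ, Finset.mem_filter.2 ⟨Finset.mem_univ _, hζP⟩, ?_⟩
    by_contra hne2
    have e0 := Core.classInner_irr_ne (X ζ).2 θ.2 (fun h => hne2 (Subtype.ext h))
    have e2 : star χ = s ζ • (X ζ : G → ℂ) := by
      have := (hXs ζ hζP).2
      rw [show star χ = star ζ from rfl, this]
      rfl
    have e3 : classInner (star χ) (θ : G → ℂ) = 0 := by
      rw [e2, Core.classInner_smul_left, e0, mul_zero]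
    rcases h1 with h1 | h1
    · rw [← h1, Core.classInner_irr_self θ.2] at e3
      exact one_ne_zero e3
    · have h2 : star χ = -(θ : G → ℂ) := by rw [h1, neg_neg]
      rw [h2, Core.classInner_neg_left, Core.classInner_irr_self θ.2] at e3
      norm_num at e3
  have hExnc : ∀ θ ∈ Ex, ∃ a ∈ K, ∃ b ∈ K, a ≠ 1 ∧ b ≠ 1 ∧ (θ : G → ℂ) a ≠ (θ : G → ℂ) b := by
    intro θ hθ
    obtain ⟨ζ, hζ, rfl⟩ := Finset.mem_image.1 hθ
    have hζP : P ζ := (Finset.mem_filter.1 hζ).2
    refine (hmain (X ζ) (X ζ).2).1 ⟨ζ, (hPS ζ).mp hζP, ?_⟩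
    rcases (hXs ζ hζP).1 with h1 | h1
    · left
      rw [(hXs ζ hζP).2, h1]
      funext g
      rw [one_mul]
    · right
      rw [(hXs ζ hζP).2, h1]
      funext g
      rw [Pi.neg_apply]
      ring
  -- the principal character and the Steinberg character
  let one : IrrCharacter G := ⟨1, Core.isIrr_one⟩
  obtain ⟨St, hStirr, hSt1, hSt0⟩ := hSt
  let st : IrrCharacter G := ⟨St, hStirr⟩
  have hst1 : (st : G → ℂ) 1 = h := by
    have h1 := congrFun hSt1 1
    rw [hind1] at h1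
    simp only [Pi.add_apply, Pi.one_apply] at h1
    show St 1 = h
    linear_combination -h1
  have hone_st : one ≠ st := by
    intro h1
    have h2 : (one : G → ℂ) u = (st : G → ℂ) u := by rw [h1]
    have h3 : (1 : ℂ) = St u := h2
    rw [hSt0 u huK hu1] at h3
    exact one_ne_zero h3
  -- the induced linear characters
  have hM0 : ∀ ζ : IrrCharacter N, ∃ θ : IrrCharacter G, (¬ P ζ ∧ (ζ : N → ℂ) ≠ 1) →
      (θ : G → ℂ) = indFun N ζ ∧ (∀ v ∈ K, v ≠ 1 → (θ : G → ℂ) v = 1) := by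
    intro ζ
    by_cases hζ : ¬ P ζ ∧ (ζ : N → ℂ) ≠ 1
    · have h1 := hind ζ (Core.isIrr_isCharacter ζ.2) (hlin1 ζ hζ.1 1 (one_mem _))
        (fun v hv => hlin1 ζ hζ.1 v hv) hζ.2
      exact ⟨⟨_, h1.1⟩, fun _ => ⟨rfl, h1.2⟩⟩
    · exact ⟨one, fun h => absurd h hζ⟩
  choose M hM using hM0
  let FL : Finset (IrrCharacter N) := Finset.univ.filter (fun ζ => ¬ P ζ ∧ (ζ : N → ℂ) ≠ 1)
  let oneN : IrrCharacter N := ⟨1, Core.isIrr_one⟩
  have hFQ : FQ = insert oneN FL := by
    ext ζ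
    simp only [FQ, FL, Finset.mem_insert, Finset.mem_filter, Finset.mem_univ, true_and]
    constructor
    · intro hζ
      by_cases h1 : (ζ : N → ℂ) = 1
      · exact Or.inl (Subtype.ext h1)
      · exact Or.inr ⟨hζ, h1⟩
    · rintro (rfl | hζ)
      · rintro ⟨k, _, hk⟩
        exact hk rfl
      · exact hζ.1
  have honeFL : oneN ∉ FL := by
    intro h1
    exact (Finset.mem_filter.1 h1).2.2 rfl
  have hFLcard : FL.card + 1 = e := by
    rw [← hFQcard, hFQ, Finset.card_insert_of_notMem honeFL]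
  let FM : Finset (IrrCharacter G) := FL.image M
  have hFMval : ∀ θ ∈ FM, (θ : G → ℂ) 1 = h + 1 ∧ ∀ v ∈ K, v ≠ 1 → (θ : G → ℂ) v = 1 := by
    intro θ hθ
    obtain ⟨ζ, hζ, rfl⟩ := Finset.mem_image.1 hθ
    have hζP := (Finset.mem_filter.1 hζ).2
    refine ⟨?_, (hM ζ hζP).2⟩
    rw [(hM ζ hζP).1, hind1, hlin1 ζ hζP.1 1 (one_mem _), mul_one]
  -- the averages over `K`
  have havg : ∀ θ : IrrCharacter G, (h : ℂ)⁻¹ * ∑ k : K', (θ : G → ℂ) (k : N) =
      (if θ = one then 1 else 0) + (if θ = st then 1 else 0) +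
        ((FL.filter (fun ζ => M ζ = θ)).card : ℂ) := by
    intro θ
    have hθc := Core.isIrr_isClassFunction θ.2
    have hθN : IsClassFunction N (fun x : N => (θ : G → ℂ) x) := fun x y => hθc x y
    have h1 := FeitLinear.average_eq_sum K' hcomm' hθN
    rw [hK'card] at h1
    rw [h1]
    have h2 : (Finset.univ.filter (fun ζ : IrrCharacter N =>
        ¬ ∃ k ∈ K', (ζ : N → ℂ) k ≠ (ζ : N → ℂ) 1)) = insert oneN FL := by
      rw [← hFQ]
    rw [h2, Finset.sum_insert honeFL]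
    congr 1
    · rw [← hfrob _ _ hθc, show ((oneN : IrrCharacter N) : N → ℂ) = (fun _ => 1) from rfl, hSt1,
        Core.classInner_add_right]
      congr 1
      · rw [Core.classInner_irr θ.2 Core.isIrr_one]
        by_cases h3 : θ = one
        · rw [if_pos h3, if_pos (congrArg Subtype.val h3)]
        · rw [if_neg h3, if_neg (fun h4 => h3 (Subtype.ext h4))]
      · rw [Core.classInner_irr θ.2 hStirr]
        by_cases h3 : θ = st
        · rw [if_pos h3, if_pos (congrArg Subtype.val h3)]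
        · rw [if_neg h3, if_neg (fun h4 => h3 (Subtype.ext h4))]
    · rw [Finset.card_filter]
      push_cast
      refine Finset.sum_congr rfl (fun ζ hζ => ?_)
      have hζP := (Finset.mem_filter.1 hζ).2
      rw [← hfrob _ _ hθc, ← (hM ζ hζP).1, Core.classInner_irr θ.2 (M ζ).2]
      by_cases h3 : M ζ = θ
      · rw [if_pos h3, if_pos (congrArg Subtype.val h3.symm)]
      · rw [if_neg h3, if_neg (fun h4 => h3 (Subtype.ext h4.symm))]
  -- the sum over `K` of a function constant off the identity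
  have hsumK : ∀ (f : G → ℂ) (c : ℂ), (∀ v ∈ K, v ≠ 1 → f v = c) →
      ∑ k : K', f (k : N) = f 1 + (h - 1) * c := by
    intro f c hf
    rw [← Finset.add_sum_erase Finset.univ _ (Finset.mem_univ (1 : K'))]
    congr 1
    rw [Finset.sum_congr rfl (g := fun _ => c) (fun k hk => ?_), Finset.sum_const,
      Finset.card_erase_of_mem (Finset.mem_univ _), Finset.card_univ, nsmul_eq_mul,
      ← Nat.card_eq_fintype_card, hK'card, Nat.cast_sub (by omega), Nat.cast_one]
    refine hf _ ((hK'mem _).mp k.2) ?_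
    intro h1
    exact (Finset.mem_erase.1 hk).1 (Subtype.ext (Subtype.ext h1))
  -- each induced linear character comes from two linear characters
  have hFMne : ∀ θ ∈ FM, θ ≠ one ∧ θ ≠ st := by
    intro θ hθ
    obtain ⟨hv1, hv2⟩ := hFMval θ hθ
    refine ⟨?_, ?_⟩
    · rintro rfl
      have h1 : (1 : ℂ) = h + 1 := hv1
      apply hh0
      linear_combination -h1
    · rintro rfl
      rw [hst1] at hv1
      have h1 : (0 : ℂ) = 1 := by linear_combination hv1
      exact zero_ne_one h1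
  have hfib : ∀ θ ∈ FM, (FL.filter (fun ζ => M ζ = θ)).card = 2 := by
    intro θ hθ
    have h1 := havg θ
    obtain ⟨hv1, hv2⟩ := hFMval θ hθ
    rw [hsumK θ 1 hv2, hv1, if_neg (hFMne θ hθ).1, if_neg (hFMne θ hθ).2] at h1
    have h3 : (h : ℂ)⁻¹ * (h + 1 + (h - 1) * 1) = 2 := by
      field_simp
      ring
    have h2 : ((FL.filter (fun ζ => M ζ = θ)).card : ℂ) = 2 := by
      linear_combination h3 - h1
    exact_mod_cast h2
  have hFLFM : FL.card = 2 * FM.card := by
    rw [Finset.card_eq_sum_card_fiberwise (f := M) (t := FM)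
      (fun ζ hζ => Finset.mem_image_of_mem _ hζ), Finset.sum_congr rfl hfib, Finset.sum_const,
      smul_eq_mul, mul_comm]
  -- the remaining irreducible characters
  let FR : Finset (IrrCharacter G) :=
    Finset.univ.filter (fun θ => θ ∉ Ex ∧ θ ≠ one ∧ θ ≠ st ∧ θ ∉ FM)
  have honeEx : one ∉ Ex := by
    intro h1
    obtain ⟨a, _, b, _, _, _, hab⟩ := hExnc one h1
    exact hab rfl
  have hstEx : st ∉ Ex := by
    intro h1
    obtain ⟨a, ha, b, hb, ha1, hb1, hab⟩ := hExnc st h1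
    apply hab
    show St a = St b
    rw [hSt0 a ha ha1, hSt0 b hb hb1]
  have hFMEx : ∀ θ ∈ FM, θ ∉ Ex := by
    intro θ hθ h1
    obtain ⟨a, ha, b, hb, ha1, hb1, hab⟩ := hExnc θ h1
    apply hab
    rw [(hFMval θ hθ).2 a ha ha1, (hFMval θ hθ).2 b hb hb1]
  have hsplit : ∀ F : IrrCharacter G → ℂ, ∑ θ, F θ =
      ∑ θ ∈ Ex, F θ + F one + F st + ∑ θ ∈ FM, F θ + ∑ θ ∈ FR, F θ := by
    intro F
    have hU : (Finset.univ : Finset (IrrCharacter G)) =
        Ex ∪ (insert one (insert st (FM ∪ FR))) := by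
      ext θ
      simp only [Finset.mem_univ, Finset.mem_union, Finset.mem_insert, FR, Finset.mem_filter,
        true_and, true_iff]
      by_cases h1 : θ ∈ Ex
      · exact Or.inl h1
      · by_cases h2 : θ = one
        · exact Or.inr (Or.inl h2)
        · by_cases h3 : θ = st
          · exact Or.inr (Or.inr (Or.inl h3))
          · by_cases h4 : θ ∈ FM
            · exact Or.inr (Or.inr (Or.inr (Or.inl h4)))
            · exact Or.inr (Or.inr (Or.inr (Or.inr ⟨h1, h2, h3, h4⟩)))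
    have hd1 : Disjoint FM FR := by
      rw [Finset.disjoint_left]
      intro θ h1 h2
      exact (Finset.mem_filter.1 h2).2.2.2.2 h1
    have hd2 : st ∉ FM ∪ FR := by
      rw [Finset.mem_union]
      rintro (h1 | h1)
      · exact (hFMne st h1).2 rfl
      · exact (Finset.mem_filter.1 h1).2.2.2.1 rfl
    have hd3 : one ∉ insert st (FM ∪ FR) := by
      rw [Finset.mem_insert, Finset.mem_union]
      rintro (h1 | h1 | h1)
      · exact hone_st h1
      · exact (hFMne one h1).1 rfl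
      · exact (Finset.mem_filter.1 h1).2.2.1 rfl
    have hd4 : Disjoint Ex (insert one (insert st (FM ∪ FR))) := by
      rw [Finset.disjoint_left]
      intro θ h1 h2
      rw [Finset.mem_insert, Finset.mem_insert, Finset.mem_union] at h2
      rcases h2 with h2 | h2 | h2 | h2
      · rw [h2] at h1
        exact honeEx h1
      · rw [h2] at h1
        exact hstEx h1
      · exact hFMEx θ h2 h1
      · exact (Finset.mem_filter.1 h2).2.1 h1
    rw [hU, Finset.sum_union hd4, Finset.sum_insert hd3, Finset.sum_insert hd2,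
      Finset.sum_union hd1]
    ring
  have hR : ∀ θ ∈ FR, ∃ a : ℕ, 0 < a ∧ (θ : G → ℂ) 1 = a * (h - 1) ∧ (θ : G → ℂ) u = -(a : ℂ) := by
    intro θ hθ
    obtain ⟨hθE, hθ1, hθ2, hθM⟩ := (Finset.mem_filter.1 hθ).2
    have hc := hconst θ hθE
    have h1 := havg θ
    have h0 : (FL.filter (fun ζ => M ζ = θ)) = ∅ := by
      rw [Finset.filter_eq_empty_iff]
      intro ζ hζ hζ'
      exact hθM (Finset.mem_image.2 ⟨ζ, hζ, hζ'⟩)
    rw [if_neg hθ1, if_neg hθ2, h0, hsumK θ ((θ : G → ℂ) u)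
      (fun v hv hv1 => hc v hv u huK hv1 hu1), Finset.card_empty, Nat.cast_zero, add_zero,
      add_zero] at h1
    have h2 : (θ : G → ℂ) 1 + (h - 1) * (θ : G → ℂ) u = 0 := by
      rcases mul_eq_zero.1 h1 with h3 | h3
      · exact absurd h3 (inv_ne_zero hh0)
      · exact h3
    obtain ⟨d, hd, hθd⟩ := Core.isIrr_apply_one θ.2
    have h3 : (θ : G → ℂ) u = ((-(d : ℚ) / ((h : ℚ) - 1) : ℚ) : ℂ) := by
      push_cast
      rw [eq_div_iff hh1]
      rw [hθd] at h2
      linear_combination h2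
    obtain ⟨z, hz⟩ := GaloisBasic.exists_int_of_rat (Core.isIrr_isCharacter θ.2) u ⟨_, h3⟩
    rw [hθd, hz] at h2
    have h4 : (d : ℤ) + ((h : ℤ) - 1) * z = 0 := by exact_mod_cast h2
    have h5 : z < 0 := by
      by_contra h6
      push Not at h6
      have h7 : 0 ≤ ((h : ℤ) - 1) * z := mul_nonneg (by omega) h6
      omega
    obtain ⟨b, rfl⟩ : ∃ b : ℕ, z = -(b : ℤ) := ⟨z.natAbs, by omega⟩
    refine ⟨b, by omega, ?_, ?_⟩
    · rw [hθd]
      push_cast at h2
      linear_combination h2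
    · rw [hz]
      push_cast
      ring
  choose! a ha using hR
  -- counting
  have hcount : FM.card ≤ FR.card := by
    have h1 := hsplit (fun _ => 1)
    simp only [Finset.sum_const, nsmul_eq_mul, mul_one] at h1
    have h2 : (Finset.univ : Finset (IrrCharacter G)).card =
        Ex.card + 1 + 1 + FM.card + FR.card := by exact_mod_cast h1
    rw [← hFPcard, Nat.card_eq_fintype_card, ← Finset.card_univ, h2, hExcard] at hcard
    omega
  have heM : e = 2 * FM.card + 1 := by omega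
  -- the column of `u`
  have hcent : Nat.card (Subgroup.centralizer ({u'} : Set N)) =
      Nat.card (Subgroup.centralizer ({u} : Set G)) := by
    refine Nat.card_congr ⟨fun c => ⟨(c.1 : G), ?_⟩, fun c => ⟨⟨c.1, hKle (hC u huK hu1 c.2)⟩, ?_⟩,
      fun _ => rfl, fun _ => rfl⟩
    · have h1 := (Subgroup.mem_centralizer_singleton_iff).1 c.2
      rw [Subgroup.mem_centralizer_singleton_iff]
      exact congrArg Subtype.val h1
    · have h1 := (Subgroup.mem_centralizer_singleton_iff).1 c.2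
      rw [Subgroup.mem_centralizer_singleton_iff]
      exact Subtype.ext h1
  have hcolG := S0145.sum_irr_mul_conj u u
  have hcolN := S0145.sum_irr_mul_conj u' u'
  rw [if_pos (IsConj.refl _)] at hcolG hcolN
  rw [hcent, ← Finset.sum_filter_add_sum_filter_not Finset.univ P] at hcolN
  have hFQsum : ∑ ζ ∈ FQ, (ζ : N → ℂ) u' * conj ((ζ : N → ℂ) u') = e := by
    rw [Finset.sum_congr rfl (g := fun _ => (1 : ℂ)) (fun ζ hζ => ?_), Finset.sum_const,
      nsmul_eq_mul, mul_one, hFQcard]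
    rw [hlin1 ζ (Finset.mem_filter.1 hζ).2 u' hu'K, map_one, one_mul]
  have hFPsum : ∑ ζ ∈ FP, (ζ : N → ℂ) u' * conj ((ζ : N → ℂ) u') =
      (Nat.card (Subgroup.centralizer ({u} : Set G)) : ℂ) - e := by
    rw [← hcolN, ← hFQsum]
    simp only [FP, FQ]
    ring
  have hstaru : ∀ ζ ∈ FP, star ζ u = (ζ : N → ℂ) u' + (m / e : ℂ) * (ζ : N → ℂ) 1 := by
    intro ζ hζ
    have h1 := hm ζ ((hPS ζ).mp (Finset.mem_filter.1 hζ).2) u' huK hu'1
    rw [he] at h1
    have h2 : star ζ u = star ζ (u' : G) := rfl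
    rw [h2]
    linear_combination h1
  have hExsum : ∑ θ ∈ Ex, (θ : G → ℂ) u * conj ((θ : G → ℂ) u) =
      (Nat.card (Subgroup.centralizer ({u} : Set G)) : ℂ) - e - 2 * m +
        m ^ 2 * (h - 1) / e := by
    rw [Finset.sum_image hXinj]
    have h1 : ∀ ζ ∈ FP, (X ζ : G → ℂ) u * conj ((X ζ : G → ℂ) u) =
        (ζ : N → ℂ) u' * conj ((ζ : N → ℂ) u') +
        (m / e : ℂ) * ((ζ : N → ℂ) 1 * (ζ : N → ℂ) u' + conj ((ζ : N → ℂ) 1 * (ζ : N → ℂ) u')) +
        (m / e : ℂ) ^ 2 * ((ζ : N → ℂ) 1 * (ζ : N → ℂ) 1) := by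
      intro ζ hζ
      have hζP := (Finset.mem_filter.1 hζ).2
      have h2 : (X ζ : G → ℂ) u * conj ((X ζ : G → ℂ) u) = star ζ u * conj (star ζ u) := by
        rw [(hXs ζ hζP).2]
        rcases (hXs ζ hζP).1 with h3 | h3 <;> rw [h3] <;> simp
      obtain ⟨d, -, hd⟩ := Core.isIrr_apply_one ζ.2
      rw [h2, hstaru ζ hζ, hd]
      simp only [map_add, map_mul, map_div₀, map_natCast, map_intCast]
      ring
    rw [Finset.sum_congr rfl h1, Finset.sum_add_distrib, Finset.sum_add_distrib, hFPsum,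
      ← Finset.mul_sum, ← Finset.mul_sum, Finset.sum_add_distrib, ← map_sum, hsum1, hsum2]
    simp only [map_neg, Complex.conj_natCast]
    field_simp
    ring
  have hFMsum : ∑ θ ∈ FM, (θ : G → ℂ) u * conj ((θ : G → ℂ) u) = FM.card := by
    rw [Finset.sum_congr rfl (g := fun _ => (1 : ℂ)) (fun θ hθ => ?_), Finset.sum_const,
      nsmul_eq_mul, mul_one]
    rw [(hFMval θ hθ).2 u huK hu1, map_one, one_mul]
  have hFRsum : ∑ θ ∈ FR, (θ : G → ℂ) u * conj ((θ : G → ℂ) u) =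
      ((∑ θ ∈ FR, a θ ^ 2 : ℕ) : ℂ) := by
    push_cast
    refine Finset.sum_congr rfl (fun θ hθ => ?_)
    rw [(ha θ hθ).2.2, map_neg, Complex.conj_natCast]
    ring
  have hD : (e : ℂ) * ((∑ θ ∈ FR, a θ ^ 2 : ℕ) : ℂ) =
      e * FM.card + 2 * m * e - m ^ 2 * (h - 1) := by
    have h1 := hsplit (fun θ => (θ : G → ℂ) u * conj ((θ : G → ℂ) u))
    rw [hcolG, hExsum, hFMsum, hFRsum] at h1
    have h2 : (one : G → ℂ) u * conj ((one : G → ℂ) u) = 1 := by
      show (1 : G → ℂ) u * conj ((1 : G → ℂ) u) = 1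
      simp
    have h3 : (st : G → ℂ) u = 0 := hSt0 u huK hu1
    rw [h2, h3, zero_mul] at h1
    have h4 : (e : ℂ) = 2 * FM.card + 1 := by exact_mod_cast heM
    have h5 : ((∑ θ ∈ FR, a θ ^ 2 : ℕ) : ℂ) = FM.card + 2 * m - m ^ 2 * (h - 1) / e := by
      linear_combination h4 - h1
    rw [h5]
    field_simp
  have hDZ : (e : ℤ) * ((∑ θ ∈ FR, a θ ^ 2 : ℕ) : ℤ) =
      e * FM.card + 2 * m * e - m ^ 2 * (h - 1) := by exact_mod_cast hD
  have hsq : FR.card ≤ ∑ θ ∈ FR, a θ ^ 2 := by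
    rw [Finset.card_eq_sum_ones]
    refine Finset.sum_le_sum (fun θ hθ => ?_)
    exact Nat.one_le_pow _ _ (ha θ hθ).1
  have hm0 : m = 0 := by
    refine eq_zero_of_nonneg (e := e) (h := h) (by omega) (by omega) ?_
    have h1 : (FM.card : ℤ) ≤ ((∑ θ ∈ FR, a θ ^ 2 : ℕ) : ℤ) := by
      exact_mod_cast hcount.trans hsq
    have h2 : (e : ℤ) * FM.card ≤ e * ((∑ θ ∈ FR, a θ ^ 2 : ℕ) : ℤ) :=
      mul_le_mul_of_nonneg_left h1 (by omega)
    linarith
  have hsum_a : ∑ θ ∈ FR, a θ ^ 2 = FM.card := by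
    rw [hm0] at hDZ
    have h1 : (e : ℤ) * ((∑ θ ∈ FR, a θ ^ 2 : ℕ) : ℤ) = e * FM.card := by
      rw [hDZ]
      ring
    have h2 := mul_left_cancel₀ (show (e : ℤ) ≠ 0 by omega) h1
    exact_mod_cast h2
  have hFRcard : FR.card = FM.card := le_antisymm (hsq.trans hsum_a.le) hcount
  have ha1 : ∀ θ ∈ FR, a θ = 1 := by
    have h1 : ∑ θ ∈ FR, 1 = ∑ θ ∈ FR, a θ ^ 2 := by
      rw [hsum_a, ← Finset.card_eq_sum_ones, hFRcard]
    have h2 := (Finset.sum_eq_sum_iff_of_le (fun θ hθ => Nat.one_le_pow _ _ (ha θ hθ).1)).1 h1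
    intro θ hθ
    have h3 := h2 θ hθ
    exact (pow_eq_one_iff.mp h3.symm).resolve_right two_ne_zero
  -- with `m = 0` the exceptional characters agree with the members of `S` on `K` minus `1`
  have hstarK : ∀ χ ∈ S, ∀ k : N, (k : G) ∈ K → k ≠ 1 → star χ k = χ k := by
    intro χ hχ k hk hk1
    have h1 := hm χ hχ k hk hk1
    rw [hm0, Int.cast_zero, zero_mul, zero_div] at h1
    exact sub_eq_zero.1 h1
  obtain ⟨χ₁, hχ₁S, hχ₁e⟩ := hlin
  have hχ₁irr : IsIrrCharacter N χ₁ := by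
    rw [hS] at hχ₁S
    exact hχ₁S.1
  -- degrees of the exceptional characters are proportional
  have hprop : ∀ ζ ∈ FP, star ζ 1 = (star χ₁ 1 / e) * (ζ : N → ℂ) 1 := by
    intro ζ hζ
    have hζS := (hPS ζ).mp (Finset.mem_filter.1 hζ).2
    have hd1 : ∃ n : ℕ, χ₁ 1 = n := ⟨e, hχ₁e⟩
    have hd2 : ∃ n : ℕ, (ζ : N → ℂ) 1 = n := by
      obtain ⟨n, -, hn⟩ := Core.isIrr_apply_one ζ.2
      exact ⟨n, hn⟩
    have h1 := congrFun (Tifn.star_comb hstar hχ₁S hζS hd1 hd2) 1
    rw [hext _ (Tifn.comb_mem_zspanOn hχ₁S hζS hd1 hd2), hind1] at h1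
    rw [hχ₁e] at h1
    have h2 : (e : ℂ) * star ζ 1 = (ζ : N → ℂ) 1 * star χ₁ 1 := by
      linear_combination -h1
    field_simp
    linear_combination h2
  -- the columns of `1` and `u`
  have hD1 : star χ₁ 1 = e := by
    have h1 := hsplit (fun θ => (θ : G → ℂ) 1 * (θ : G → ℂ) u)
    have h0 := Tifn.sum_irr_apply_one_mul (G := G) hu1
    rw [h0] at h1
    have h2 : ∑ θ ∈ Ex, (θ : G → ℂ) 1 * (θ : G → ℂ) u = -star χ₁ 1 := by
      rw [Finset.sum_image hXinj]
      have h3 : ∀ ζ ∈ FP, (X ζ : G → ℂ) 1 * (X ζ : G → ℂ) u =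
          (star χ₁ 1 / e) * ((ζ : N → ℂ) 1 * (ζ : N → ℂ) u') := by
        intro ζ hζ
        have hζP := (Finset.mem_filter.1 hζ).2
        have h4 : (X ζ : G → ℂ) 1 * (X ζ : G → ℂ) u = star ζ 1 * star ζ u := by
          rw [(hXs ζ hζP).2]
          rcases (hXs ζ hζP).1 with h5 | h5 <;> rw [h5] <;> ring
        have h5 : star ζ u = (ζ : N → ℂ) u' := hstarK ζ ((hPS ζ).mp hζP) u' huK hu'1
        rw [h4, hprop ζ hζ, h5]
        ring
      rw [Finset.sum_congr rfl h3, ← Finset.mul_sum, hsum1]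
      field_simp
    have h3 : ∑ θ ∈ FM, (θ : G → ℂ) 1 * (θ : G → ℂ) u = FM.card * (h + 1) := by
      rw [Finset.sum_congr rfl (g := fun _ => (h + 1 : ℂ)) (fun θ hθ => ?_), Finset.sum_const,
        nsmul_eq_mul]
      rw [(hFMval θ hθ).2 u huK hu1, (hFMval θ hθ).1, mul_one]
    have h4 : ∑ θ ∈ FR, (θ : G → ℂ) 1 * (θ : G → ℂ) u = -(FM.card * (h - 1)) := by
      rw [Finset.sum_congr rfl (g := fun _ => (-(h - 1) : ℂ)) (fun θ hθ => ?_), Finset.sum_const,
        nsmul_eq_mul, hFRcard]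
      · ring
      · rw [(ha θ hθ).2.1, (ha θ hθ).2.2, ha1 θ hθ]
        push_cast
        ring
    have h5 : (one : G → ℂ) 1 * (one : G → ℂ) u = 1 := by
      show (1 : G → ℂ) 1 * (1 : G → ℂ) u = 1
      simp
    have h6 : (st : G → ℂ) u = 0 := hSt0 u huK hu1
    rw [h2, h3, h4, h5, h6] at h1
    have h7 : (e : ℂ) = 2 * FM.card + 1 := by exact_mod_cast heM
    linear_combination h1 - h7
  -- `star χ₁` is an irreducible character
  let ζ₁ : IrrCharacter N := ⟨χ₁, hχ₁irr⟩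
  have hζ₁P : P ζ₁ := (hPS ζ₁).mpr hχ₁S
  have hψirr : IsIrrCharacter G (star χ₁) := by
    have h1 := (hXs ζ₁ hζ₁P).2
    rcases (hXs ζ₁ hζ₁P).1 with h2 | h2
    · have h3 : star χ₁ = (X ζ₁ : G → ℂ) := by
        rw [show star χ₁ = star ζ₁ from rfl, h1, h2]
        funext g
        rw [one_mul]
      rw [h3]
      exact (X ζ₁).2
    · exfalso
      obtain ⟨d, hd, hd1⟩ := Core.isIrr_apply_one (X ζ₁).2
      have h3 : star χ₁ 1 = -(d : ℂ) := by
        rw [show star χ₁ = star ζ₁ from rfl, h1, h2]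
        show -1 * (X ζ₁ : G → ℂ) 1 = _
        rw [hd1]
        ring
      rw [hD1] at h3
      have h4 : ((e + d : ℕ) : ℂ) = 0 := by
        push_cast
        rw [h3]
        ring
      have h5 : e + d = 0 := by exact_mod_cast h4
      omega
  set ψ : G → ℂ := star χ₁ with hψdef
  have hψc := Core.isIrr_isClassFunction hψirr
  have hψK : ∀ k : N, (k : G) ∈ K → ψ k = χ₁ k := by
    intro k hk
    by_cases hk1 : k = 1
    · rw [hk1, hχ₁e]
      exact hD1
    · exact hstarK χ₁ hχ₁S k hk hk1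
  have hψNc : IsClassFunction N (fun x : N => ψ x) := fun x y => hψc x y
  have hψNchar : IsCharacter N (fun x : N => ψ x) := isCharacter_res N (Core.isIrr_isCharacter hψirr)
  choose nψ hnψ using fun ζ : IrrCharacter N =>
    Core.classInner_isNat hψNchar (Core.isIrr_isCharacter ζ.2)
  have hψzero : ∀ ζ : IrrCharacter N, ¬ P ζ → classInner (fun x : N => ψ x) (ζ : N → ℂ) = 0 := by
    have h1 := FeitLinear.average_eq_sum K' hcomm' hψNc
    have h2 : ∑ k : K', ψ (k : N) = 0 := by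
      rw [Finset.sum_congr rfl (g := fun k : K' => χ₁ k)
        (fun k _ => hψK k ((hK'mem _).mp k.2))]
      exact CharDeep.FrobKernel.sum_apply_eq_zero K' hχ₁irr hζ₁P
    rw [h2, mul_zero] at h1
    have h3 : (∑ ζ ∈ FQ, nψ ζ : ℕ) = 0 := by
      have h4 : ((∑ ζ ∈ FQ, nψ ζ : ℕ) : ℂ) = 0 := by
        rw [Nat.cast_sum, h1]
        refine Finset.sum_congr ?_ (fun ζ _ => (hnψ ζ).symm)
        ext ζ
        simp only [FQ, P, Finset.mem_filter]
      exact_mod_cast h4
    intro ζ hζ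
    have h4 := (Finset.sum_eq_zero_iff.1 h3) ζ (Finset.mem_filter.2 ⟨Finset.mem_univ _, hζ⟩)
    rw [hnψ ζ, h4, Nat.cast_zero]
  have hψoff : ∀ x : N, (x : G) ∉ K → ψ x = 0 := by
    intro x hx
    have h1 := congrFun (Core.classFunction_eq_sum hψNc) x
    rw [Finset.sum_apply] at h1
    refine h1.trans (Finset.sum_eq_zero (fun ζ _ => ?_))
    rw [Pi.smul_apply, smul_eq_mul]
    by_cases hζ : P ζ
    · rw [hvan ζ ((hPS ζ).mp hζ) x hx, mul_zero]
    · rw [hψzero ζ hζ, zero_mul]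
  -- the product of `ψ` and its conjugate
  let F : G → ℂ := ψ * fun g => conj (ψ g)
  have hFchar : IsCharacter G F := Core.isCharacter_mul (Core.isIrr_isCharacter hψirr)
    (Core.isCharacter_conj (Core.isIrr_isCharacter hψirr))
  have hFc := Core.isCharacter_isClassFunction hFchar
  choose nF hnF using fun θ : IrrCharacter G =>
    Core.classInner_isNat hFchar (Core.isIrr_isCharacter θ.2)
  choose dG hdG0 hdG using fun θ : IrrCharacter G => Core.isIrr_apply_one θ.2
  have hFone : nF one = 1 := by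
    have h1 : classInner F (one : G → ℂ) = 1 := by
      rw [← Core.classInner_irr_self hψirr, Core.classInner_def, Core.classInner_def]
      congr 1
      refine Finset.sum_congr rfl (fun g _ => ?_)
      show ψ g * conj (ψ g) * conj ((1 : G → ℂ) g) = _
      simp
    rw [hnF] at h1
    exact_mod_cast h1
  have hFM1 : ∀ θ ∈ FM, nF θ = 1 := by
    intro θ hθ
    obtain ⟨ζ, hζ, rfl⟩ := Finset.mem_image.1 hθ
    have hζP := (Finset.mem_filter.1 hζ).2
    have h1 : classInner F (M ζ : G → ℂ) = 1 := by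
      rw [(hM ζ hζP).1, hfrob _ _ hFc, ← Core.classInner_irr_self hχ₁irr, Core.classInner_def,
        Core.classInner_def]
      congr 1
      refine Finset.sum_congr rfl (fun x _ => ?_)
      show ψ x * conj (ψ x) * conj ((ζ : N → ℂ) x) = _
      by_cases hx : (x : G) ∈ K
      · rw [hψK x hx, hlin1 ζ hζP.1 x ((hK'mem _).mpr hx), map_one, mul_one]
      · rw [hψoff x hx, hvan χ₁ hχ₁S x hx]
        simp
    rw [hnF] at h1
    exact_mod_cast h1
  have hdeg : e * e = ∑ θ : IrrCharacter G, nF θ * dG θ := by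
    have h1 := congrFun (Core.classFunction_eq_sum hFc) 1
    rw [Finset.sum_apply] at h1
    have h2 : F 1 = (e : ℂ) * e := by
      show ψ 1 * conj (ψ 1) = _
      rw [hD1]
      simp
    have h3 : ((e * e : ℕ) : ℂ) = ((∑ θ : IrrCharacter G, nF θ * dG θ : ℕ) : ℂ) := by
      push_cast
      rw [← h2, h1]
      refine Finset.sum_congr rfl (fun θ _ => ?_)
      rw [Pi.smul_apply, smul_eq_mul, hnF, hdG]
    exact_mod_cast h3
  have hge : 1 + FM.card * (h + 1) ≤ ∑ θ : IrrCharacter G, nF θ * dG θ := by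
    have h1 : ∑ θ ∈ insert one FM, nF θ * dG θ ≤ ∑ θ : IrrCharacter G, nF θ * dG θ :=
      Finset.sum_le_sum_of_subset (Finset.subset_univ _)
    refine le_trans ?_ h1
    rw [Finset.sum_insert (fun h2 => (hFMne one h2).1 rfl)]
    have h2 : ∑ θ ∈ FM, nF θ * dG θ = FM.card * (h + 1) := by
      rw [Finset.sum_congr rfl (g := fun _ => h + 1) (fun θ hθ => ?_), Finset.sum_const,
        smul_eq_mul]
      have h3 := (hFMval θ hθ).1
      rw [hdG θ] at h3
      have h4 : dG θ = h + 1 := by exact_mod_cast h3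
      rw [hFM1 θ hθ, h4, one_mul]
    rw [h2, hFone]
    have h3 := hdG0 one
    omega
  rw [← hdeg, heM] at hge
  have h8 : 2 * e + 3 ≤ h + 1 := by omega
  have h9 : 1 ≤ FM.card := by omega
  have h10 : FM.card * (2 * e + 3) ≤ FM.card * (h + 1) := Nat.mul_le_mul_left _ h8
  rw [heM] at h10
  nlinarith

end Cfsg.Agent.CharactersDeep.FeitCoherent
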