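import Mathlib
import Cfsg.Agent.CharactersDeep.Zassenhaus
import Cfsg.Agent.PermutationGroups.ZassenhausBasic
import Cfsg.Agent.S0042
import Cfsg.Agent.S0878

/-!
# The kernel of a point stabiliser of a Zassenhaus group as a T.I. subgroup with Frobenius normalizer

Group-theoretic interface used in Feit's theorem S0885.
-/

set_option autoImplicit false

open scoped Pointwise

namespace Cfsg.Agent.CharactersDeep.FeitInterface

open MulAction Cfsg.Agent.CharactersDeep.Zassenhaus

variable {G Ω : Type*} [Group G] [MulAction G Ω]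

section

variable (hZ : Cfsg.IsZassenhausGroup G Ω) {a b : Ω} (hab : a ≠ b) (H : Subgroup G)
  (hHa : H ≤ MulAction.stabilizer G a)
  (hHfix : ∀ u ∈ H, u ≠ 1 → ∀ c : Ω, u • c = c → c = a)

include hab hHfix in
/-- The kernel meets the two-point stabiliser trivially. -/
theorem inf_eq_bot : H ⊓ (MulAction.stabilizer G a ⊓ MulAction.stabilizer G b) = ⊥ := by
  rw [eq_bot_iff]
  rintro x ⟨hxH, hxa, hxb⟩
  rw [Subgroup.mem_bot]
  by_contra hx1
  exact hab (hHfix x hxH hx1 b hxb).symm

include hZ hab hHa hHfix in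
/-- The kernel is nilpotent. -/
theorem kernel_nilpotent [Finite G] : Group.IsNilpotent H := by
  classical
  set S := MulAction.stabilizer G a with hS
  set E : Subgroup S := (MulAction.stabilizer G a ⊓ MulAction.stabilizer G b).subgroupOf S with hE
  have hEcompl : Cfsg.IsFrobeniusComplement E :=
    Cfsg.Agent.PermutationGroups.ZassenhausBasic.isFrobeniusComplement hZ hab
  obtain ⟨N, hN1, hN2, hN3⟩ := Cfsg.Agent.S0042.result E hEcompl
  have hle : H.subgroupOf S ≤ N := by
    intro x hx
    have hxH : (x : G) ∈ H := hx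
    show x ∈ (N : Set S)
    rw [hN1]
    by_cases hx1 : x = 1
    · exact Or.inl hx1
    · right
      intro g hg
      rw [Subgroup.mem_pointwise_smul_iff_inv_smul_mem, ← map_inv] at hg
      change g⁻¹ * x * g⁻¹⁻¹ ∈ E at hg
      rw [inv_inv, hE, Subgroup.mem_subgroupOf] at hg
      have h1 : ((g : G)⁻¹ * (x : G) * (g : G)) • b = b := hg.2
      rw [mul_smul, mul_smul, inv_smul_eq_iff] at h1
      have h2 := hHfix x hxH (fun h => hx1 (Subtype.ext h)) _ h1
      have hga : (g : G) • a = a := g.2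
      have h3 : (g : G) • b = (g : G) • a := by rw [h2, hga]
      exact hab (smul_left_cancel _ h3).symm
  have h1 : Group.IsNilpotent (H.subgroupOf S) := by
    have := hN3
    exact Group.nilpotent_of_mulEquiv (Subgroup.subgroupOfEquivOfLe hle)
  exact Group.nilpotent_of_mulEquiv (Subgroup.subgroupOfEquivOfLe hHa)

variable [Finite G] [Fintype Ω] (hHcard : Nat.card H + 1 = Fintype.card Ω)

include hZ hHa hHfix hHcard in
/-- The centralizer of a non-identity element of the kernel is contained in the kernel. -/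
theorem centralizer_le {k : G} (hk : k ∈ H) (hk1 : k ≠ 1) :
    Subgroup.centralizer ({k} : Set G) ≤ H := by
  intro g hg
  rw [Subgroup.mem_centralizer_singleton_iff] at hg
  have hka : k • a = a := hHa hk
  -- `g` permutes the fixed points of `k`
  have hperm : ∀ c : Ω, k • c = c → k • (g • c) = g • c := by
    intro c hc
    rw [← mul_smul, ← hg, mul_smul, hc]
  have hga : g • a = a := hHfix k hk hk1 _ (hperm a hka)
  rw [mem_kernel_iff hZ a H hHa hHcard hHfix]
  refine ⟨hga, fun hg1 c hc => ?_⟩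
  by_contra hca
  have hkc : k • c ≠ c := fun h => hca (hHfix k hk hk1 c h)
  have hkca : k • c ≠ a := by
    intro h
    apply hca
    have : k • c = k • a := by rw [h, hka]
    exact smul_left_cancel _ this
  have hgkc : g • (k • c) = k • c := by
    rw [← mul_smul, hg, mul_smul, hc]
  exact hg1 (eq_one_of_fix hZ (Ne.symm hca) hkca.symm hkc.symm hga hc hgkc)

include hZ hab hHa hHfix hHcard in
/-- The kernel is a proper subgroup of its normalizer. -/
theorem kernel_lt : H < Subgroup.normalizer (H : Set G) := by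
  refine lt_of_le_of_ne Subgroup.le_normalizer (fun h => ?_)
  rw [kernel_normalizer hZ a H hHa hHcard hHfix] at h
  obtain ⟨g, hg1, hga, hgb⟩ := exists_ne_one_fix hZ hab
  have hgH : g ∈ H := by rw [h]; exact hga
  exact hab (hHfix g hgH hg1 b hgb).symm

include hZ hab hHa hHfix hHcard in
/-- Every element of the point stabiliser is a product of a kernel element and an element of the
two-point stabiliser. -/
theorem exists_mul_eq {g : G} (hg : g • a = a) :
    ∃ u ∈ H, ∃ x ∈ MulAction.stabilizer G a ⊓ MulAction.stabilizer G b, u * x = g := by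
  have hgb : g • b ≠ a := by
    intro h
    apply hab
    have : g • b = g • a := by rw [h, hg]
    exact (smul_left_cancel _ this).symm
  obtain ⟨u, hu, hub⟩ := kernel_transitive a H hHa hHcard hHfix hab.symm hgb
  refine ⟨u, hu, u⁻¹ * g, ⟨?_, ?_⟩, by group⟩
  · show (u⁻¹ * g) • a = a
    have hua : u • a = a := hHa hu
    rw [mul_smul, hg, inv_smul_eq_iff, hua]
  · show (u⁻¹ * g) • b = b
    rw [mul_smul, inv_smul_eq_iff, hub]

include hZ hab hHa hHfix hHcard in
/-- The order of the point stabiliser. -/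
theorem card_stabilizer :
    Nat.card (MulAction.stabilizer G a) =
      Nat.card H * Nat.card ↥(MulAction.stabilizer G a ⊓ MulAction.stabilizer G b : Subgroup G) := by
  set E : Subgroup G := MulAction.stabilizer G a ⊓ MulAction.stabilizer G b with hE
  rw [← Nat.card_prod]
  symm
  refine Nat.card_congr (Equiv.ofBijective
    (fun p : H × E => (⟨(p.1 : G) * (p.2 : G), (MulAction.stabilizer G a).mul_mem (hHa p.1.2)
      p.2.2.1⟩ : MulAction.stabilizer G a)) ⟨?_, ?_⟩)
  · rintro ⟨u, x⟩ ⟨u', x'⟩ h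
    have h1 : (u : G) * (x : G) = (u' : G) * (x' : G) := congrArg Subtype.val h
    have h2 : (u' : G)⁻¹ * (u : G) = (x' : G) * (x : G)⁻¹ := by
      rw [inv_mul_eq_iff_eq_mul, ← mul_assoc, ← h1]
      group
    have h3 : (u' : G)⁻¹ * (u : G) ∈ H ⊓ E :=
      ⟨H.mul_mem (H.inv_mem u'.2) u.2, by rw [h2]; exact E.mul_mem x'.2 (E.inv_mem x.2)⟩
    rw [inf_eq_bot hab H hHfix, Subgroup.mem_bot] at h3
    have h4 : (u : G) = u' := (inv_mul_eq_one.1 h3).symm
    rw [h3] at h2
    have h5 : (x : G) = x' := (mul_inv_eq_one.1 h2.symm).symm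
    exact Prod.ext (Subtype.ext h4) (Subtype.ext h5)
  · rintro ⟨g, hg⟩
    obtain ⟨u, hu, x, hx, hux⟩ := exists_mul_eq hZ hab H hHa hHfix hHcard hg
    exact ⟨(⟨u, hu⟩, ⟨x, hx⟩), Subtype.ext hux⟩

include hZ hab hHa hHfix hHcard in
/-- The index of the kernel in its normalizer. -/
theorem index_kernel :
    (H.subgroupOf (Subgroup.normalizer (H : Set G))).index =
      Nat.card ↥(MulAction.stabilizer G a ⊓ MulAction.stabilizer G b : Subgroup G) := by
  have h1 := card_stabilizer hZ hab H hHa hHfix hHcard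
  have h2 := (H.subgroupOf (Subgroup.normalizer (H : Set G))).card_mul_index
  rw [Nat.card_congr (Subgroup.subgroupOfEquivOfLe
    (Subgroup.le_normalizer : H ≤ Subgroup.normalizer (H : Set G))).toEquiv] at h2
  rw [kernel_normalizer hZ a H hHa hHcard hHfix] at h2 ⊢
  rw [h1] at h2
  exact Nat.eq_of_mul_eq_mul_left Nat.card_pos h2

include hZ hHa hHfix hHcard in
/-- The index of the normalizer of the kernel. -/
theorem index_normalizer :
    (Subgroup.normalizer (H : Set G)).index = Fintype.card Ω := by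
  have := isPretransitive hZ
  rw [kernel_normalizer hZ a H hHa hHcard hHfix, MulAction.index_stabilizer_of_transitive,
    Nat.card_eq_fintype_card]

include hZ hab hHa hHfix hHcard in
/-- If the two-point stabiliser is abelian then commutators of the normalizer lie in the kernel. -/
theorem commutator_mem
    (hcomm : ∀ x ∈ MulAction.stabilizer G a ⊓ MulAction.stabilizer G b,
      ∀ y ∈ MulAction.stabilizer G a ⊓ MulAction.stabilizer G b, x * y = y * x)
    {x y : G} (hx : x ∈ Subgroup.normalizer (H : Set G))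
    (hy : y ∈ Subgroup.normalizer (H : Set G)) : x * y * x⁻¹ * y⁻¹ ∈ H := by
  have hx' := hx
  have hy' := hy
  rw [kernel_normalizer hZ a H hHa hHcard hHfix] at hx' hy'
  obtain ⟨u, hu, s, hs, rfl⟩ := exists_mul_eq hZ hab H hHa hHfix hHcard (g := x) hx'
  obtain ⟨v, hv, t, ht, rfl⟩ := exists_mul_eq hZ hab H hHa hHfix hHcard (g := y) hy'
  have hsN : s ∈ Subgroup.normalizer (H : Set G) := by
    rw [kernel_normalizer hZ a H hHa hHcard hHfix]; exact hs.1
  have htN : t ∈ Subgroup.normalizer (H : Set G) := by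
    rw [kernel_normalizer hZ a H hHa hHcard hHfix]; exact ht.1
  have hconj : ∀ g ∈ Subgroup.normalizer (H : Set G), ∀ w ∈ H, g * w * g⁻¹ ∈ H :=
    fun g hg w hw => (Subgroup.mem_normalizer_iff.1 hg w).1 hw
  have hst := hcomm s hs t ht
  -- `u s v t s⁻¹ u⁻¹ t⁻¹ v⁻¹ = u (s v s⁻¹) (t u⁻¹ t⁻¹) v⁻¹`
  have h1 : u * s * (v * t) * (u * s)⁻¹ * (v * t)⁻¹ =
      u * (s * v * s⁻¹) * (t * u⁻¹ * t⁻¹) * v⁻¹ := by
    have h2 : s * t * s⁻¹ = t := by rw [hst]; group
    calc u * s * (v * t) * (u * s)⁻¹ * (v * t)⁻¹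
        = u * (s * v * s⁻¹) * (s * t * s⁻¹) * u⁻¹ * t⁻¹ * v⁻¹ := by group
      _ = u * (s * v * s⁻¹) * t * u⁻¹ * t⁻¹ * v⁻¹ := by rw [h2]
      _ = u * (s * v * s⁻¹) * (t * u⁻¹ * t⁻¹) * v⁻¹ := by group
  rw [h1]
  exact H.mul_mem (H.mul_mem (H.mul_mem hu (hconj s hsN v hv))
    (hconj t htN _ (H.inv_mem hu))) (H.inv_mem hv)

end

end Cfsg.Agent.CharactersDeep.FeitInterface
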