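import Mathlib.Algebra.BigOperators.Field
import Mathlib.Algebra.Order.BigOperators.Ring.Finset
import Mathlib.Algebra.Order.Field.Basic
import Mathlib.Data.Nat.Prime.Basic
import Mathlib.Data.ZMod.Basic
import Mathlib.Tactic

/-!
# The combinatorial part of Feit's theorem for an odd kernel

`I` stands for the irreducible characters of `G` not containing the principal character of `K`,
`J` for the irreducible characters of the normaliser of `K` not having `K` in the kernel,
`a i j` for the multiplicities, `e * d j` for the degrees of the members of `J`, `ν` for the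
Frobenius-Schur indicators, `x` for the values at an involution.
-/

set_option autoImplicit false

namespace Cfsg.Agent.CharactersDeep.FeitOddComb

open Finset

variable {I J : Type*} [Fintype I] [Fintype J] [DecidableEq I] [DecidableEq J]

/-- a sum of nonnegative integers equal to one: exactly one term is nonzero -/
theorem exists_unique_one (f : I → ℤ) (hf : ∀ i, 0 ≤ f i) (hs : ∑ i, f i = 1) :
    ∃ i₀, f i₀ = 1 ∧ ∀ i, i ≠ i₀ → f i = 0 := by
  have h1 : ∃ i₀, f i₀ ≠ 0 := by
    by_contra hcon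
    push Not at hcon
    rw [Finset.sum_eq_zero (fun i _ => hcon i)] at hs
    exact zero_ne_one hs
  obtain ⟨i₀, hi₀⟩ := h1
  have h2 := Finset.add_sum_erase univ f (mem_univ i₀)
  have h3 : 0 ≤ ∑ i ∈ univ.erase i₀, f i := Finset.sum_nonneg (fun i _ => hf i)
  have h4 : 1 ≤ f i₀ := by
    have := hf i₀
    omega
  have h5 : ∑ i ∈ univ.erase i₀, f i = 0 := by omega
  refine ⟨i₀, by omega, fun i hi => ?_⟩
  rw [Finset.sum_eq_zero_iff_of_nonneg (fun i _ => hf i)] at h5
  exact h5 i (Finset.mem_erase.2 ⟨hi, mem_univ i⟩)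

theorem main (e h p s g : ℕ) (he : e = 2 * g + 1) (hg : 1 ≤ g) (hp : p.Prime)
    (hh : h = p ^ s) (hs : s ≠ 0)
    (a : I → J → ℤ) (ha : ∀ i j, 0 ≤ a i j) (d : J → ℤ)
    (hdp : ∀ j, d j = 1 ∨ (p : ℤ) ∣ d j)
    (ν x deg : I → ℤ) (hν : ∀ i, ν i = 0 ∨ ν i = 1 ∨ ν i = -1)
    (σ : I → I) (τ : J → J) (haστ : ∀ i j, a (σ i) (τ j) = a i j)
    (hdτ : ∀ j, d (τ j) = d j) (hτne : ∀ j, τ j ≠ j) (hττ : ∀ j, τ (τ j) = j)
    (hνσ : ∀ i, ν i = 0 ↔ σ i ≠ i) (hνσ' : ∀ i, ν (σ i) = ν i)
    (hG : ∀ j j', ∑ i, a i j * a i j' = (if j = j' then 1 else 0) + g * d j * d j')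
    (hFS : ∀ j, ∑ i, ν i * a i j = g * d j)
    (hT0 : ∀ j, ∑ i, x i * a i j = d j)
    (hT1 : ∀ j, ∑ i, (x i : ℚ) ^ 2 / deg i * a i j = d j)
    (hdeg : ∀ i, deg i = e * ∑ j, a i j * d j) (hdegpos : ∀ i, 0 < deg i)
    (hpar : ∀ i, Even (x i - deg i))
    (hint : ∀ i, deg i ∣ e * h * x i)
    (hord : ∀ i, deg i ∣ e * h * (h + 1))
    (hnorm : ∀ i, (e : ℤ) * (h + 1) * (∑ j, a i j ^ 2 - 1) ≤ deg i ^ 2)
    (hsum : (e : ℤ) * ∑ j, d j ^ 2 = h - 1)
    (hsize : (∃ j, d j ≠ 1) → (2 * e + 1) ^ 3 ≤ h) : (h : ℤ) - 1 ≤ 2 * e := by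
  have hph : (p : ℤ) ∣ h := by
    rw [hh]
    exact_mod_cast dvd_pow_self p hs
  have hp1 : ¬ (p : ℤ) ∣ 1 := by
    intro hc
    have : p ∣ 1 := by exact_mod_cast hc
    exact hp.one_lt.ne' (Nat.dvd_one.1 this)
  -- Step 0
  have h0 : ∃ j₁, d j₁ = 1 := by
    by_contra hcon
    push Not at hcon
    have h1 : (p : ℤ) ∣ h - 1 := by
      rw [← hsum]
      apply Dvd.dvd.mul_left
      apply Finset.dvd_sum
      intro j _
      exact ((hdp j).resolve_left (hcon j)).trans (dvd_pow_self _ two_ne_zero)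
    apply hp1
    have h2 := dvd_sub hph h1
    rwa [sub_sub_cancel] at h2
  -- Step 1
  have h1 : ∀ j, d j = 1 → ∃ i₀, (a i₀ j = 1 ∧ ν i₀ = 0) ∧
      ∀ i, i ≠ i₀ → a i j = 0 ∨ (a i j = 1 ∧ ν i = 1) := by
    intro j hj
    have hsum1 : ∑ i, a i j * (a i j - ν i) = 1 := by
      have e1 := hG j j
      have e2 := hFS j
      rw [hj, if_pos rfl] at e1
      rw [hj] at e2
      have e3 : ∑ i, a i j * (a i j - ν i) = ∑ i, a i j * a i j - ∑ i, ν i * a i j := by
        rw [← Finset.sum_sub_distrib]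
        exact Finset.sum_congr rfl (fun i _ => by ring)
      rw [e3, e1, e2]
      ring
    have hnn : ∀ i, 0 ≤ a i j * (a i j - ν i) := by
      intro i
      have hai := ha i j
      rcases eq_or_lt_of_le hai with h | h
      · rw [← h]; simp
      · apply mul_nonneg hai
        rcases hν i with h | h | h <;> omega
    obtain ⟨i₀, hi₀, hi⟩ := exists_unique_one _ hnn hsum1
    refine ⟨i₀, ?_, ?_⟩
    · have hai := ha i₀ j
      have h2 : a i₀ j = 1 := by
        rcases Int.isUnit_iff.1 (IsUnit.of_mul_eq_one _ hi₀) with h | h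
        · exact h
        · omega
      refine ⟨h2, ?_⟩
      rw [h2] at hi₀
      omega
    · intro i hne
      have h2 := hi i hne
      have hai := ha i j
      rcases mul_eq_zero.1 h2 with h | h
      · exact Or.inl h
      · rcases hν i with h' | h' | h' <;> rw [h'] at h
        · left; omega
        · right; exact ⟨by omega, h'⟩
        · omega
  -- Step 2
  obtain ⟨j₁, hj₁⟩ := h0
  obtain ⟨i₁, ⟨hi₁a, hi₁ν⟩, hi₁⟩ := h1 j₁ hj₁
  have hσi₁ : σ i₁ ≠ i₁ := (hνσ i₁).1 hi₁ν
  have hσν : ν (σ i₁) = 0 := by rw [hνσ', hi₁ν]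
  have hzero : ∀ i, ν i = 0 → i ≠ i₁ → a i j₁ = 0 := by
    intro i hi hne
    rcases hi₁ i hne with h | ⟨-, h⟩
    · exact h
    · omega
  have hreal : ∀ i j, ν i ≠ 0 → a i (τ j) = a i j := by
    intro i j hi
    have h2 : σ i = i := by
      by_contra hcon
      exact hi ((hνσ i).2 hcon)
    have h3 := haστ i j
    rwa [h2] at h3
  have hst : a (σ i₁) (τ j₁) = 1 := by rw [haστ, hi₁a]
  have h2 : ∀ j, j ≠ j₁ → d j = 1 → a i₁ j = 0 := by
    intro j hj hdj
    by_contra hne
    obtain ⟨i₀, ⟨hi₀a, hi₀ν⟩, hi₀⟩ := h1 j hdj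
    have hi₀₁ : i₀ = i₁ := by
      by_contra hcon
      rcases hi₀ i₁ (Ne.symm hcon) with h | ⟨-, h⟩
      · exact hne h
      · omega
    rw [hi₀₁] at hi₀a hi₀
    by_cases hjτ : j = τ j₁
    · -- `i₁` would be `σ i₁`
      apply hσi₁
      by_contra hcon
      rcases hi₀ (σ i₁) hcon with h | ⟨-, h⟩
      · rw [hjτ, hst] at h
        omega
      · omega
    · -- the difference of the relations for `(j, j₁)` and `(j, τ j₁)`
      have e1 := hG j j₁
      have e2 := hG j (τ j₁)
      rw [if_neg hj] at e1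
      rw [if_neg hjτ, hdτ] at e2
      have e3 : ∑ i, a i j * (a i j₁ - a i (τ j₁)) = 0 := by
        have : ∑ i, a i j * (a i j₁ - a i (τ j₁)) = ∑ i, a i j * a i j₁ -
            ∑ i, a i j * a i (τ j₁) := by
          rw [← Finset.sum_sub_distrib]
          exact Finset.sum_congr rfl (fun i _ => by ring)
        rw [this, e1, e2]
        ring
      have e4 : ∑ i, a i j * (a i j₁ - a i (τ j₁)) = a i₁ j * (a i₁ j₁ - a i₁ (τ j₁)) := by
        apply Finset.sum_eq_single i₁
        · intro i _ hi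
          by_cases hνi : ν i = 0
          · rcases hi₀ i hi with h | ⟨-, h⟩
            · rw [h, zero_mul]
            · omega
          · rw [hreal i j₁ hνi, sub_self, mul_zero]
        · intro h
          exact absurd (mem_univ _) h
      have e5 : a i₁ (τ j₁) = 0 := by
        have e6 : a (σ i₁) (τ (τ j₁)) = a i₁ (τ j₁) := haστ _ _
        rw [hττ] at e6
        rw [← e6]
        exact hzero _ hσν hσi₁
      rw [e4, hi₀a, hi₁a, e5] at e3
      omega
  -- Step 3
  set D : ℤ := ∑ j, a i₁ j * d j with hD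
  have hDe : deg i₁ = e * D := hdeg i₁
  have hepos : (0 : ℤ) < e := by
    have : 0 < e := by omega
    exact_mod_cast this
  have hDpos : 0 < D := by
    have h3 := hdegpos i₁
    rw [hDe] at h3
    exact (mul_pos_iff_of_pos_left hepos).1 h3
  have hD1 : (p : ℤ) ∣ D - 1 := by
    rw [hD, ← Finset.add_sum_erase univ _ (mem_univ j₁), hi₁a, hj₁]
    have : (1 * 1 + ∑ j ∈ univ.erase j₁, a i₁ j * d j : ℤ) - 1 =
        ∑ j ∈ univ.erase j₁, a i₁ j * d j := by ring
    rw [this]
    apply Finset.dvd_sum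
    intro j hj
    rcases hdp j with h | h
    · rw [h2 j (Finset.ne_of_mem_erase hj) h, zero_mul]
      exact dvd_zero _
    · exact Dvd.dvd.mul_left h _
  have hDcop : IsCoprime D (h : ℤ) := by
    have h3 : IsCoprime D (p : ℤ) := by
      obtain ⟨k, hk⟩ := hD1
      refine ⟨1, -k, ?_⟩
      have : D = 1 + p * k := by omega
      rw [this]
      ring
    rw [hh]
    push_cast
    exact h3.pow_right
  -- Step 4
  have hevendeg : ∀ i, ν i ≠ 0 → Even (deg i) := by
    intro i hi
    rw [hdeg i]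
    apply Even.mul_left
    have hz : ((∑ j, a i j * d j : ℤ) : ZMod 2) = 0 := by
      push_cast
      refine Finset.sum_involution (fun j _ => τ j) ?_ ?_ ?_ ?_
      · intro j _
        rw [hreal i j hi, hdτ j]
        exact CharTwo.add_self_eq_zero _
      · intro j _ _
        exact hτne j
      · intro j _
        exact mem_univ _
      · intro j _
        exact hττ j
    rw [ZMod.intCast_zmod_eq_zero_iff_dvd] at hz
    exact (even_iff_two_dvd).2 (by exact_mod_cast hz)
  have hxodd : Odd (x i₁) := by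
    have e1 := hT0 j₁
    rw [hj₁, ← Finset.add_sum_erase univ _ (mem_univ i₁), hi₁a, mul_one] at e1
    have e2 : Even (∑ i ∈ univ.erase i₁, x i * a i j₁) := by
      rw [even_iff_two_dvd]
      apply Finset.dvd_sum
      intro i hi
      rcases hi₁ i (Finset.ne_of_mem_erase hi) with h | ⟨-, h⟩
      · rw [h, mul_zero]
        exact dvd_zero _
      · apply Dvd.dvd.mul_right
        rw [← even_iff_two_dvd]
        have h3 := hevendeg i (by omega)
        have h4 := (hpar i).add h3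
        rwa [sub_add_cancel] at h4
    obtain ⟨k, hk⟩ := e2
    exact ⟨-k, by omega⟩
  -- Step 5
  have hDx : D ∣ x i₁ := by
    have h3 := hint i₁
    rw [hDe, mul_assoc] at h3
    have h4 : D ∣ h * x i₁ := Int.dvd_of_mul_dvd_mul_left hepos.ne' h3 
    exact hDcop.dvd_of_dvd_mul_left h4
  have hx0 : x i₁ ≠ 0 := by
    rintro h
    rw [h] at hxodd
    exact absurd hxodd (by decide)
  have hx2 : x i₁ ^ 2 ≤ e * D := by
    have h3 := hT1 j₁
    have h4 : (x i₁ : ℚ) ^ 2 / deg i₁ * a i₁ j₁ ≤ d j₁ := by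
      rw [← h3]
      refine Finset.single_le_sum (f := fun i => (x i : ℚ) ^ 2 / deg i * a i j₁) ?_ (mem_univ i₁)
      intro i _
      have h5 : (0 : ℚ) < deg i := by exact_mod_cast hdegpos i
      have h6 : (0 : ℚ) ≤ a i j₁ := by exact_mod_cast ha i j₁
      positivity
    rw [hi₁a, hj₁] at h4
    have h5 : (0 : ℚ) < deg i₁ := by exact_mod_cast hdegpos i₁
    push_cast at h4
    rw [mul_one, div_le_one h5] at h4
    rw [← hDe]
    exact_mod_cast h4
  have hDle : D ≤ e := by
    have h3 : D ^ 2 ≤ x i₁ ^ 2 := by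
      obtain ⟨k, hk⟩ := hDx
      have hk0 : k ≠ 0 := by
        rintro rfl
        rw [mul_zero] at hk
        exact hx0 hk
      have hk1 : 1 ≤ k ^ 2 := by
        have := sq_nonneg k
        have h' : k ^ 2 ≠ 0 := pow_ne_zero 2 hk0
        omega
      rw [hk, mul_pow]
      nlinarith [sq_nonneg D]
    have h4 : D * D ≤ e * D := by
      rw [← pow_two]
      exact h3.trans hx2
    exact le_of_mul_le_mul_right h4 hDpos
  -- Step 6
  have hQ : ∑ j, a i₁ j ^ 2 = 1 + ∑ j ∈ univ.erase j₁, a i₁ j ^ 2 := by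
    rw [← Finset.add_sum_erase univ _ (mem_univ j₁), hi₁a]
    ring
  have h6 : ∀ j, j ≠ j₁ → a i₁ j = 0 := by
    intro j hj
    by_contra hne
    have hdj : d j ≠ 1 := fun h => hne (h2 j hj h)
    have hsz := hsize ⟨j, hdj⟩
    have hn := hnorm i₁
    rw [hQ, hDe] at hn
    have h7 : 1 ≤ ∑ j ∈ univ.erase j₁, a i₁ j ^ 2 := by
      have h8 : a i₁ j ^ 2 ≤ ∑ j ∈ univ.erase j₁, a i₁ j ^ 2 :=
        Finset.single_le_sum (f := fun j => a i₁ j ^ 2) (fun i _ => sq_nonneg _)
          (Finset.mem_erase.2 ⟨hj, mem_univ j⟩)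
      have h9 : 1 ≤ a i₁ j ^ 2 := by
        have := ha i₁ j
        have h10 : 1 ≤ a i₁ j := by omega
        nlinarith
      omega
    have hszZ : (2 * (e : ℤ) + 1) ^ 3 ≤ h := by exact_mod_cast hsz
    have h8 : (e : ℤ) * (h + 1) ≤ (e * D) ^ 2 := by
      refine le_trans ?_ hn
      have h9 : (0 : ℤ) ≤ e * (h + 1) := by positivity
      nlinarith
    have h9 : (e * D) ^ 2 ≤ (e * e : ℤ) ^ 2 := by
      apply pow_le_pow_left₀ (by positivity)
      exact mul_le_mul_of_nonneg_left hDle hepos.le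
    have h10 : (e : ℤ) * (h + 1) ≤ e * e ^ 3 := by
      calc (e : ℤ) * (h + 1) ≤ (e * e : ℤ) ^ 2 := h8.trans h9
        _ = e * e ^ 3 := by ring
    have h11 : (h : ℤ) + 1 ≤ e ^ 3 := le_of_mul_le_mul_left h10 hepos
    have h12 : (e : ℤ) ^ 3 ≤ (2 * e + 1) ^ 3 := by
      apply pow_le_pow_left₀ hepos.le
      omega
    omega
  -- Step 7
  set C : Finset I := univ.filter (fun i => i ≠ i₁ ∧ a i j₁ = 1) with hC
  have hCν : ∀ i ∈ C, ν i = 1 := by
    intro i hi
    rw [hC, Finset.mem_filter] at hi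
    rcases hi₁ i hi.2.1 with h | ⟨-, h⟩
    · omega
    · exact h
  have hsplit : ∀ f : I → ℤ, ∑ i, f i * a i j₁ = f i₁ + ∑ i ∈ C, f i := by
    intro f
    rw [← Finset.add_sum_erase univ _ (mem_univ i₁), hi₁a, mul_one]
    congr 1
    rw [hC, Finset.sum_filter]
    rw [← Finset.add_sum_erase univ (fun i => if i ≠ i₁ ∧ a i j₁ = 1 then f i else 0)
      (mem_univ i₁)]
    rw [if_neg (by simp), zero_add]
    apply Finset.sum_congr rfl
    intro i hi
    rcases hi₁ i (Finset.ne_of_mem_erase hi) with h | ⟨h, -⟩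
    · rw [h, mul_zero, if_neg (by simp)]
    · rw [h, mul_one, if_pos ⟨Finset.ne_of_mem_erase hi, rfl⟩]
  have hCcard : (C.card : ℤ) = g := by
    have e1 := hFS j₁
    rw [hsplit, hi₁ν, zero_add, hj₁, mul_one, Finset.sum_congr rfl hCν, Finset.sum_const,
      nsmul_eq_mul, mul_one] at e1
    exact e1
  have h7 : ∀ j, ∀ i ∈ C, a i j = d j := by
    intro j
    by_cases hj : j = j₁
    · intro i hi
      rw [hC, Finset.mem_filter] at hi
      rw [hj, hi.2.2, hj₁]
    have e1 : ∑ i ∈ C, a i j = g * d j := by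
      have e2 := hG j j₁
      rw [if_neg hj, hsplit, h6 j hj, hj₁] at e2
      omega
    have e2 : ∃ i, i ∉ C ∧ a i j ≠ 0 := by
      by_contra hcon
      push Not at hcon
      have e3 := hG j j
      have e4 := hG j (τ j)
      rw [if_neg (Ne.symm (hτne j)), hdτ] at e4
      rw [if_pos rfl] at e3
      have e5 : ∑ i, a i j * a i (τ j) = ∑ i, a i j * a i j := by
        apply Finset.sum_congr rfl
        intro i _
        by_cases hiC : i ∈ C
        · rw [hreal i j (by rw [hCν i hiC]; omega)]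
        · rw [hcon i hiC, zero_mul, zero_mul]
      rw [e5, e3] at e4
      omega
    have e3 : ∑ i ∈ C, a i j ^ 2 ≤ g * d j ^ 2 := by
      obtain ⟨i₂, hi₂, hi₂'⟩ := e2
      have e4 := hG j j
      rw [if_pos rfl, ← Finset.add_sum_erase univ _ (mem_univ i₂)] at e4
      have e5 : ∑ i ∈ C, a i j ^ 2 ≤ ∑ i ∈ univ.erase i₂, a i j * a i j := by
        have e6 : ∑ i ∈ C, a i j ^ 2 = ∑ i ∈ C, a i j * a i j :=
          Finset.sum_congr rfl (fun i _ => by ring)
        rw [e6]
        apply Finset.sum_le_sum_of_subset_of_nonneg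
        · intro i hi
          rw [Finset.mem_erase]
          exact ⟨fun h => hi₂ (h ▸ hi), mem_univ i⟩
        · intro i _ _
          exact mul_self_nonneg _
      have e6 : 1 ≤ a i₂ j * a i₂ j := by
        have := ha i₂ j
        have h' : 1 ≤ a i₂ j := by omega
        nlinarith
      nlinarith
    have e4 : ∑ i ∈ C, (a i j - d j) ^ 2 ≤ 0 := by
      have e5 : ∑ i ∈ C, (a i j - d j) ^ 2 =
          ∑ i ∈ C, a i j ^ 2 - 2 * d j * ∑ i ∈ C, a i j + C.card * d j ^ 2 := by
        rw [Finset.mul_sum, ← Finset.sum_sub_distrib]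
        have : (C.card : ℤ) * d j ^ 2 = ∑ i ∈ C, d j ^ 2 := by
          rw [Finset.sum_const, nsmul_eq_mul]
        rw [this, ← Finset.sum_add_distrib]
        exact Finset.sum_congr rfl (fun i _ => by ring)
      rw [e5, e1, hCcard]
      nlinarith
    have e5 : ∑ i ∈ C, (a i j - d j) ^ 2 = 0 :=
      le_antisymm e4 (Finset.sum_nonneg (fun i _ => sq_nonneg _))
    rw [Finset.sum_eq_zero_iff_of_nonneg (fun i _ => sq_nonneg _)] at e5
    intro i hi
    have e6 := e5 i hi
    have e7 : a i j - d j = 0 := by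
      exact pow_eq_zero_iff (two_ne_zero) |>.1 e6
    omega
  have hCne : C.Nonempty := by
    rw [← Finset.card_pos]
    have : (0 : ℤ) < C.card := by rw [hCcard]; exact_mod_cast hg
    exact_mod_cast this
  obtain ⟨i, hi⟩ := hCne
  have hdi : deg i = h - 1 := by
    rw [hdeg i, ← hsum]
    congr 1
    apply Finset.sum_congr rfl
    intro j _
    rw [h7 j i hi]
    ring
  have h8 := hord i
  rw [hdi] at h8
  have h9 : ((h : ℤ) - 1) ∣ e * 2 := by
    have h10 : (e : ℤ) * h * (h + 1) = (h - 1) * (e * (h + 2)) + e * 2 := by ring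
    rw [h10] at h8
    exact (dvd_add_right (dvd_mul_right _ _)).1 h8
  have h10 := Int.le_of_dvd (by positivity) h9
  omega

end Cfsg.Agent.CharactersDeep.FeitOddComb
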