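import Mathlib
import Cfsg.Prelude.Def_Characters
import Cfsg.Agent.Characters.Core
import Cfsg.Agent.CharactersDeep.NormalInd
import Cfsg.Agent.S0850

/-!
# A norm inequality for irreducible characters and T.I. subgroups
-/

set_option autoImplicit false

open scoped ComplexConjugate
open Cfsg

namespace Cfsg.Agent.CharactersDeep.FeitOddNorm

open Cfsg.Agent.Characters

/-- If the restriction of the irreducible character `θ` to the normalizer `N` of the T.I. subgroup `K`
vanishes off `K`, then `M - θ(1)² / |N| + θ(1)² / |G| ≤ 1`, `M` the norm of the restriction. -/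
theorem norm_le {G : Type*} [Group G] [Fintype G] (K N : Subgroup G)
    (hN : Subgroup.normalizer (K : Set G) = N)
    (hTI : ∀ g : G, g ∉ N → ∀ k ∈ K, g * k * g⁻¹ ∈ K → k = 1)
    (hlt : K < N)
    (hC : ∀ k ∈ K, k ≠ 1 → Subgroup.centralizer ({k} : Set G) ≤ K)
    [Fintype N] {θ : G → ℂ} (hθ : IsIrrCharacter G θ)
    (hoff : ∀ x : N, (x : G) ∉ K → θ x = 0) (D M : ℝ)
    (hD : θ 1 = D)
    (hM : classInner (fun x : N => θ x) (fun x : N => θ x) = M) :
    M - D ^ 2 / (Nat.card N) + D ^ 2 / Nat.card G ≤ 1 := by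
  classical
  have hres : ∀ (ϑ : N → ℂ), IsClassFunction N ϑ → (∀ x : N, (x : G) ∉ K → ϑ x = 0) →
      ϑ 1 = 0 → ∀ x : N, indFun N ϑ x = ϑ x := by
    subst hN
    exact (Cfsg.Agent.S0850.result K hTI hlt hC).2
  let ψ : N → ℂ := fun x => if x = 1 then 0 else θ x
  have hψc : IsClassFunction N ψ := by
    intro x y
    have h1 : y * x * y⁻¹ = 1 ↔ x = 1 := by
      rw [mul_inv_eq_one]
      exact ⟨fun h => mul_left_cancel (h.trans (mul_one y).symm), fun h => by rw [h, mul_one]⟩
    show (if y * x * y⁻¹ = 1 then 0 else θ ((y * x * y⁻¹ : N) : G)) = if x = 1 then 0 else θ x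
    simp only [h1]
    congr 1
    exact Core.isIrr_isClassFunction hθ x y
  have hψK : ∀ x : N, (x : G) ∉ K → ψ x = 0 := by
    intro x hx
    show (if x = 1 then 0 else θ x) = 0
    rw [hoff x hx]
    simp
  have hψ1 : ψ 1 = 0 := if_pos rfl
  have hψres := hres ψ hψc hψK hψ1
  have hF1 : indFun N ψ 1 = 0 := by rw [NormalInd.indFun_one, hψ1, mul_zero]
  have hψψ : classInner ψ ψ = ((M - D ^ 2 / (Nat.card N) : ℝ) : ℂ) := by
    have h1 : classInner (fun x : N => θ x) (fun x : N => θ x) =
        classInner ψ ψ + (Nat.card N : ℂ)⁻¹ * (D : ℂ) ^ 2 := by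
      rw [Core.classInner_def, Core.classInner_def, ← mul_add]
      congr 1
      rw [← Finset.add_sum_erase Finset.univ _ (Finset.mem_univ (1 : N)),
        ← Finset.add_sum_erase Finset.univ (fun x => ψ x * conj (ψ x)) (Finset.mem_univ (1 : N))]
      rw [hψ1, zero_mul, zero_add, add_comm]
      congr 1
      · refine Finset.sum_congr rfl (fun x hx => ?_)
        have h2 : ψ x = θ x := if_neg (Finset.ne_of_mem_erase hx)
        rw [h2]
      · have h2 : θ ((1 : N) : G) = D := hD
        rw [h2, Complex.conj_ofReal, pow_two]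
    rw [hM] at h1
    push_cast
    rw [div_eq_inv_mul]
    linear_combination -h1
  have hψθ : classInner (indFun N ψ) θ = classInner ψ ψ := by
    rw [NormalInd.classInner_indFun N ψ θ (Core.isIrr_isClassFunction hθ), Core.classInner_def,
      Core.classInner_def]
    congr 1
    refine Finset.sum_congr rfl (fun x _ => ?_)
    by_cases hx : x = 1
    · rw [hx, hψ1, zero_mul, zero_mul]
    · have h2 : ψ x = θ x := if_neg hx
      rw [h2]
  have hFF : classInner (indFun N ψ) (indFun N ψ) = classInner ψ ψ := by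
    rw [NormalInd.classInner_indFun N ψ _ (NormalInd.indFun_isClassFunction N ψ),
      Core.classInner_def, Core.classInner_def]
    congr 1
    refine Finset.sum_congr rfl (fun x _ => ?_)
    rw [hψres x]
  have hθF : classInner θ (indFun N ψ) = classInner ψ ψ := by
    rw [← Core.classInner_conj_symm, hψθ, hψψ, Complex.conj_ofReal]
  have hnorm : classInner (θ - indFun N ψ) (θ - indFun N ψ) =
      ((1 - (M - D ^ 2 / (Nat.card N)) : ℝ) : ℂ) := by
    rw [Core.classInner_sub_left, Core.classInner_sub_right, Core.classInner_sub_right,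
      Core.classInner_irr_self hθ, hθF, hψθ, hFF, hψψ]
    push_cast
    ring
  rw [Core.classInner_self_eq_ofReal] at hnorm
  have hnorm' : (Nat.card G : ℝ)⁻¹ * ∑ g : G, Complex.normSq ((θ - indFun N ψ) g) =
      1 - (M - D ^ 2 / (Nat.card N)) := by exact_mod_cast hnorm
  have h3 : Complex.normSq ((θ - indFun N ψ) 1) ≤
      ∑ g : G, Complex.normSq ((θ - indFun N ψ) g) :=
    Finset.single_le_sum (f := fun g => Complex.normSq ((θ - indFun N ψ) g))
      (fun g _ => Complex.normSq_nonneg _) (Finset.mem_univ 1)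
  have h4 : Complex.normSq ((θ - indFun N ψ) 1) = D ^ 2 := by
    rw [Pi.sub_apply, hF1, sub_zero, hD, Complex.normSq_ofReal, pow_two]
  rw [h4] at h3
  have h5 : (0 : ℝ) < Nat.card G := by exact_mod_cast Nat.card_pos
  have h6 : D ^ 2 / Nat.card G ≤ 1 - (M - D ^ 2 / (Nat.card N)) := by
    rw [← hnorm', div_eq_inv_mul]
    exact mul_le_mul_of_nonneg_left h3 (inv_nonneg.2 h5.le)
  linarith

end Cfsg.Agent.CharactersDeep.FeitOddNorm
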