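import Mathlib
import Cfsg.Prelude.Def_Characters
import Cfsg.Agent.Characters.Core
import Cfsg.Agent.Characters.ClassMul
import Cfsg.Agent.CharDeep.TIFN
import Cfsg.Agent.CharDeep.FrobKernel
import Cfsg.Agent.CharactersDeep.Tifn
import Cfsg.Agent.CharactersDeep.NormalInd
import Cfsg.Agent.CharactersDeep.FeitLinear
import Cfsg.Agent.CharactersDeep.FeitOddComb
import Cfsg.Agent.CharactersDeep.FeitOddAux
import Cfsg.Agent.CharactersDeep.FeitOddNorm
import Cfsg.Agent.PermutationGroups.ExceptionalDegree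
import Cfsg.Agent.S0159
import Cfsg.Agent.S0161
import Cfsg.Agent.S0850
import Cfsg.Agent.S0895

/-!
# Feit's theorem on Zassenhaus groups when the kernel is a `p`-group for an odd prime `p`

`K` is a T.I. subgroup with Frobenius normalizer `N`, `N / K` is abelian of odd order `e`, `K` is a
`p`-group of odd order `h > 2 e + 1`, `N` has index `h + 1` in `G`, the induced characters from
`N / K` behave as for a 2-transitive action, and `G` has `e h` involutions, all conjugate.  This is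
a contradiction, provided that `h ≥ (2 e + 1) ^ 3` when `K` is not abelian.
-/

set_option autoImplicit false

open scoped ComplexConjugate
open Cfsg

namespace Cfsg.Agent.CharactersDeep.FeitOddSetup

open Cfsg.Agent.Characters

theorem setup {G : Type*} [Group G] [Fintype G] (K N : Subgroup G)
    (hNdef : Subgroup.normalizer (K : Set G) = N)
    (hlt : K < N)
    [Fintype N] [Fintype (IrrCharacter G)] (K' : Subgroup N) (hK' : K' = K.subgroupOf N)
    [Fintype K'] (h e : ℕ) (hh : Nat.card K = h)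
    (he : K'.index = e)
    (hN : N.index = h + 1)
    (hcomm : ∀ x ∈ N, ∀ y ∈ N, x * y * x⁻¹ * y⁻¹ ∈ K)
    (he1 : 1 < e) (hlt2 : 2 * e + 1 < h)
    (hind : ∀ μ : N → ℂ,
      Cfsg.IsCharacter N μ → μ 1 = 1 →
      (∀ u : N, (u : G) ∈ K → μ u = 1) → μ ≠ (fun _ => 1) →
      Cfsg.IsIrrCharacter G (Cfsg.indFun N μ) ∧
        ∀ u ∈ K, u ≠ 1 → Cfsg.indFun N μ u = 1)
    (hSt : ∃ St : G → ℂ, Cfsg.IsIrrCharacter G St ∧
      Cfsg.indFun N (fun _ => 1) = 1 + St ∧
        ∀ u ∈ K, u ≠ 1 → St u = 0) :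
    ∃ (one st : IrrCharacter G) (FM FR : Finset (IrrCharacter G)),
      (one : G → ℂ) = 1 ∧ (st : G → ℂ) 1 = h ∧ (∀ u ∈ K, u ≠ 1 → (st : G → ℂ) u = 0) ∧
      (∀ θ ∈ FM, (θ : G → ℂ) 1 = h + 1 ∧ (∀ v ∈ K, v ≠ 1 → (θ : G → ℂ) v = 1) ∧
        (∀ g : G, (∀ y : G, y⁻¹ * g * y ∉ N) → (θ : G → ℂ) g = 0)) ∧
      2 * FM.card + 1 = e ∧
      (∀ F : IrrCharacter G → ℂ, ∑ θ, F θ =
        F one + F st + ∑ θ ∈ FM, F θ + ∑ θ ∈ FR, F θ) ∧
      (∀ θ : IrrCharacter G, θ ∈ FR ↔ ∑ k : K', (θ : G → ℂ) (k : N) = 0) := by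
  classical
  have hind1 : ∀ α : N → ℂ, indFun N α 1 = (h + 1 : ℂ) * α 1 := by
    intro α
    rw [NormalInd.indFun_one, hN]
    push_cast
    rfl
  have hfrob : ∀ (α : N → ℂ) (χ : G → ℂ), IsClassFunction G χ →
      classInner χ (indFun N α) = classInner (fun x : N => χ x) α := by
    intro α χ hχ
    rw [← Core.classInner_conj_symm, NormalInd.classInner_indFun _ _ _ hχ,
      Core.classInner_conj_symm]
  have hKle : K ≤ N := hlt.le
  let _ : K'.Normal := by
    rw [hK', ← hNdef]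
    exact Subgroup.normal_in_normalizer
  have hK'mem : ∀ x : N, x ∈ K' ↔ (x : G) ∈ K := fun x => by
    rw [hK']
    exact Subgroup.mem_subgroupOf
  have hK'card : Nat.card K' = h := by
    rw [← hh, hK']
    exact Nat.card_congr (Subgroup.subgroupOfEquivOfLe hKle).toEquiv
  have hcomm' : ∀ x y : N, x * y * x⁻¹ * y⁻¹ ∈ K' := by
    intro x y
    rw [hK'mem]
    exact hcomm x x.2 y y.2
  have := Core.finite_irr (G := N)
  let _ : Fintype (IrrCharacter N) := Fintype.ofFinite _
  have he0 : (e : ℂ) ≠ 0 := Nat.cast_ne_zero.2 (by omega)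
  have hh0 : (h : ℂ) ≠ 0 := Nat.cast_ne_zero.2 (by omega)
  -- a non-identity element of `K`
  obtain ⟨u, huK, hu1⟩ : ∃ u ∈ K, u ≠ 1 := by
    have h1 : 1 < Nat.card K := by omega
    have : Nontrivial K := Finite.one_lt_card_iff_nontrivial.mp h1
    obtain ⟨u, hu⟩ := exists_ne (1 : K)
    exact ⟨u, u.2, fun h => hu (Subtype.ext h)⟩
  -- the predicate
  let P : IrrCharacter N → Prop := fun ζ => ∃ k ∈ K', (ζ : N → ℂ) k ≠ (ζ : N → ℂ) 1
  let FP : Finset (IrrCharacter N) := Finset.univ.filter P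
  let FQ : Finset (IrrCharacter N) := Finset.univ.filter (fun ζ => ¬ P ζ)
  have hFQcard : FQ.card = e := by
    rw [← he]
    convert FeitLinear.card_const_eq_index K' hcomm'
  have hlin1 : ∀ ζ : IrrCharacter N, ¬ P ζ → ∀ k ∈ K', (ζ : N → ℂ) k = 1 := by
    intro ζ hζ k hk
    have h1 : ∀ k ∈ K', (ζ : N → ℂ) k = (ζ : N → ℂ) 1 := by
      intro k hk
      by_contra hne
      exact hζ ⟨k, hk, hne⟩
    rw [h1 k hk]
    exact FeitLinear.apply_one_eq_one K' hcomm' ζ.2 h1
  -- the principal character and the Steinberg character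
  let one : IrrCharacter G := ⟨1, Core.isIrr_one⟩
  obtain ⟨St, hStirr, hSt1, hSt0⟩ := hSt
  let st : IrrCharacter G := ⟨St, hStirr⟩
  have hst1 : (st : G → ℂ) 1 = h := by
    have h1 := congrFun hSt1 1
    rw [hind1] at h1
    simp only [Pi.add_apply, Pi.one_apply] at h1
    show St 1 = h
    linear_combination -h1
  have hone_st : one ≠ st := by
    intro h1
    have h2 : (one : G → ℂ) u = (st : G → ℂ) u := by rw [h1]
    have h3 : (1 : ℂ) = St u := h2
    rw [hSt0 u huK hu1] at h3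
    exact one_ne_zero h3
  -- the induced linear characters
  have hM0 : ∀ ζ : IrrCharacter N, ∃ θ : IrrCharacter G, (¬ P ζ ∧ (ζ : N → ℂ) ≠ 1) →
      (θ : G → ℂ) = indFun N ζ ∧ (∀ v ∈ K, v ≠ 1 → (θ : G → ℂ) v = 1) := by
    intro ζ
    by_cases hζ : ¬ P ζ ∧ (ζ : N → ℂ) ≠ 1
    · have h1 := hind ζ (Core.isIrr_isCharacter ζ.2) (hlin1 ζ hζ.1 1 (one_mem _))
        (fun v hv => hlin1 ζ hζ.1 v ((hK'mem v).2 hv)) hζ.2
      exact ⟨⟨_, h1.1⟩, fun _ => ⟨rfl, h1.2⟩⟩
    · exact ⟨one, fun h => absurd h hζ⟩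
  choose M hM using hM0
  let FL : Finset (IrrCharacter N) := Finset.univ.filter (fun ζ => ¬ P ζ ∧ (ζ : N → ℂ) ≠ 1)
  let oneN : IrrCharacter N := ⟨1, Core.isIrr_one⟩
  have hFQ : FQ = insert oneN FL := by
    ext ζ
    simp only [FQ, FL, Finset.mem_insert, Finset.mem_filter, Finset.mem_univ, true_and]
    constructor
    · intro hζ
      by_cases h1 : (ζ : N → ℂ) = 1
      · exact Or.inl (Subtype.ext h1)
      · exact Or.inr ⟨hζ, h1⟩
    · rintro (rfl | hζ)
      · rintro ⟨k, _, hk⟩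
        exact hk rfl
      · exact hζ.1
  have honeFL : oneN ∉ FL := by
    intro h1
    exact (Finset.mem_filter.1 h1).2.2 rfl
  have hFLcard : FL.card + 1 = e := by
    rw [← hFQcard, hFQ, Finset.card_insert_of_notMem honeFL]
  let FM : Finset (IrrCharacter G) := FL.image M
  have hFMval : ∀ θ ∈ FM, (θ : G → ℂ) 1 = h + 1 ∧ (∀ v ∈ K, v ≠ 1 → (θ : G → ℂ) v = 1) ∧
      (∀ g : G, (∀ y : G, y⁻¹ * g * y ∉ N) → (θ : G → ℂ) g = 0) := by
    intro θ hθ
    obtain ⟨ζ, hζ, rfl⟩ := Finset.mem_image.1 hθ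
    have hζP := (Finset.mem_filter.1 hζ).2
    refine ⟨?_, (hM ζ hζP).2, ?_⟩
    · rw [(hM ζ hζP).1, hind1, hlin1 ζ hζP.1 1 (one_mem _), mul_one]
    · intro g hg
      rw [(hM ζ hζP).1]
      exact PermutationGroups.ExceptionalDegree.indFun_eq_zero_of_no_conj N _ hg
  -- the averages over `K`
  have havg : ∀ θ : IrrCharacter G, (h : ℂ)⁻¹ * ∑ k : K', (θ : G → ℂ) (k : N) =
      (if θ = one then 1 else 0) + (if θ = st then 1 else 0) +
        ((FL.filter (fun ζ => M ζ = θ)).card : ℂ) := by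
    intro θ
    have hθc := Core.isIrr_isClassFunction θ.2
    have hθN : IsClassFunction N (fun x : N => (θ : G → ℂ) x) := fun x y => hθc x y
    have h1 := FeitLinear.average_eq_sum K' hcomm' hθN
    rw [hK'card] at h1
    rw [h1]
    have h2 : (Finset.univ.filter (fun ζ : IrrCharacter N =>
        ¬ ∃ k ∈ K', (ζ : N → ℂ) k ≠ (ζ : N → ℂ) 1)) = insert oneN FL := by
      rw [← hFQ]
    rw [h2, Finset.sum_insert honeFL]
    congr 1
    · rw [← hfrob _ _ hθc, show ((oneN : IrrCharacter N) : N → ℂ) = (fun _ => 1) from rfl, hSt1,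
        Core.classInner_add_right]
      congr 1
      · rw [Core.classInner_irr θ.2 Core.isIrr_one]
        by_cases h3 : θ = one
        · rw [if_pos h3, if_pos (congrArg Subtype.val h3)]
        · rw [if_neg h3, if_neg (fun h4 => h3 (Subtype.ext h4))]
      · rw [Core.classInner_irr θ.2 hStirr]
        by_cases h3 : θ = st
        · rw [if_pos h3, if_pos (congrArg Subtype.val h3)]
        · rw [if_neg h3, if_neg (fun h4 => h3 (Subtype.ext h4))]
    · rw [Finset.card_filter]
      push_cast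
      refine Finset.sum_congr rfl (fun ζ hζ => ?_)
      have hζP := (Finset.mem_filter.1 hζ).2
      rw [← hfrob _ _ hθc, ← (hM ζ hζP).1, Core.classInner_irr θ.2 (M ζ).2]
      by_cases h3 : M ζ = θ
      · rw [if_pos h3, if_pos (congrArg Subtype.val h3.symm)]
      · rw [if_neg h3, if_neg (fun h4 => h3 (Subtype.ext h4.symm))]
  -- the sum over `K` of a function constant off the identity
  have hsumK : ∀ (f : G → ℂ) (c : ℂ), (∀ v ∈ K, v ≠ 1 → f v = c) →
      ∑ k : K', f (k : N) = f 1 + (h - 1) * c := by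
    intro f c hf
    rw [← Finset.add_sum_erase Finset.univ _ (Finset.mem_univ (1 : K'))]
    congr 1
    rw [Finset.sum_congr rfl (g := fun _ => c) (fun k hk => ?_), Finset.sum_const,
      Finset.card_erase_of_mem (Finset.mem_univ _), Finset.card_univ, nsmul_eq_mul,
      ← Nat.card_eq_fintype_card, hK'card, Nat.cast_sub (by omega), Nat.cast_one]
    refine hf _ ((hK'mem _).mp k.2) ?_
    intro h1
    exact (Finset.mem_erase.1 hk).1 (Subtype.ext (Subtype.ext h1))
  -- each induced linear character comes from two linear characters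
  have hFMne : ∀ θ ∈ FM, θ ≠ one ∧ θ ≠ st := by
    intro θ hθ
    obtain ⟨hv1, hv2, -⟩ := hFMval θ hθ
    refine ⟨?_, ?_⟩
    · rintro rfl
      have h1 : (1 : ℂ) = h + 1 := hv1
      apply hh0
      linear_combination -h1
    · rintro rfl
      rw [hst1] at hv1
      have h1 : (0 : ℂ) = 1 := by linear_combination hv1
      exact zero_ne_one h1
  have hfib : ∀ θ ∈ FM, (FL.filter (fun ζ => M ζ = θ)).card = 2 := by
    intro θ hθ
    have h1 := havg θ
    obtain ⟨hv1, hv2, -⟩ := hFMval θ hθ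
    rw [hsumK θ 1 hv2, hv1, if_neg (hFMne θ hθ).1, if_neg (hFMne θ hθ).2] at h1
    have h3 : (h : ℂ)⁻¹ * (h + 1 + (h - 1) * 1) = 2 := by
      field_simp
      ring
    have h2 : ((FL.filter (fun ζ => M ζ = θ)).card : ℂ) = 2 := by
      linear_combination h3 - h1
    exact_mod_cast h2
  have hFLFM : FL.card = 2 * FM.card := by
    rw [Finset.card_eq_sum_card_fiberwise (f := M) (t := FM)
      (fun ζ hζ => Finset.mem_image_of_mem _ hζ), Finset.sum_congr rfl hfib, Finset.sum_const,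
      smul_eq_mul, mul_comm]
  -- the remaining irreducible characters
  let FR : Finset (IrrCharacter G) :=
    Finset.univ.filter (fun θ => θ ≠ one ∧ θ ≠ st ∧ θ ∉ FM)
  have hsplit : ∀ F : IrrCharacter G → ℂ, ∑ θ, F θ =
      F one + F st + ∑ θ ∈ FM, F θ + ∑ θ ∈ FR, F θ := by
    intro F
    have hU : (Finset.univ : Finset (IrrCharacter G)) =
        (insert one (insert st (FM ∪ FR))) := by
      ext θ
      simp only [Finset.mem_univ, Finset.mem_union, Finset.mem_insert, FR, Finset.mem_filter,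
        true_and, true_iff]
      by_cases h2 : θ = one
      · exact Or.inl h2
      · by_cases h3 : θ = st
        · exact Or.inr (Or.inl h3)
        · by_cases h4 : θ ∈ FM
          · exact Or.inr (Or.inr (Or.inl h4))
          · exact Or.inr (Or.inr (Or.inr ⟨h2, h3, h4⟩))
    have hd1 : Disjoint FM FR := by
      rw [Finset.disjoint_left]
      intro θ h1 h2
      exact (Finset.mem_filter.1 h2).2.2.2 h1
    have hd2 : st ∉ FM ∪ FR := by
      rw [Finset.mem_union]
      rintro (h1 | h1)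
      · exact (hFMne st h1).2 rfl
      · exact (Finset.mem_filter.1 h1).2.2.1 rfl
    have hd3 : one ∉ insert st (FM ∪ FR) := by
      rw [Finset.mem_insert, Finset.mem_union]
      rintro (h1 | h1 | h1)
      · exact hone_st h1
      · exact (hFMne one h1).1 rfl
      · exact (Finset.mem_filter.1 h1).2.1 rfl
    rw [hU, Finset.sum_insert hd3, Finset.sum_insert hd2, Finset.sum_union hd1]
    ring
  -- sums over `K` of the remaining ones
  have hRsum : ∀ θ ∈ FR, ∑ k : K', (θ : G → ℂ) (k : N) = 0 := by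
    intro θ hθ
    obtain ⟨hθ1, hθ2, hθM⟩ := (Finset.mem_filter.1 hθ).2
    have h1 := havg θ
    have h0 : (FL.filter (fun ζ => M ζ = θ)) = ∅ := by
      rw [Finset.filter_eq_empty_iff]
      intro ζ hζ hζ'
      exact hθM (Finset.mem_image.2 ⟨ζ, hζ, hζ'⟩)
    rw [if_neg hθ1, if_neg hθ2, h0, Finset.card_empty, Nat.cast_zero, add_zero,
      add_zero] at h1
    rcases mul_eq_zero.1 h1 with h3 | h3
    · exact absurd h3 (inv_ne_zero hh0)
    · exact h3
  refine ⟨one, st, FM, FR, rfl, hst1, hSt0, hFMval, by omega, hsplit, fun θ => ⟨hRsum θ, ?_⟩⟩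
  intro hθ0
  have h1 := havg θ
  rw [hθ0, mul_zero] at h1
  refine Finset.mem_filter.2 ⟨Finset.mem_univ _, ?_, ?_, ?_⟩
  · rintro rfl
    rw [if_pos rfl, if_neg hone_st] at h1
    have h2 : ((1 + (FL.filter (fun ζ => M ζ = one)).card : ℕ) : ℂ) = ((0 : ℕ) : ℂ) := by
      push_cast
      linear_combination -h1
    have h3 := Nat.cast_injective h2
    omega
  · rintro rfl
    rw [if_neg (Ne.symm hone_st), if_pos rfl] at h1
    have h2 : ((1 + (FL.filter (fun ζ => M ζ = st)).card : ℕ) : ℂ) = ((0 : ℕ) : ℂ) := by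
      push_cast
      linear_combination -h1
    have h3 := Nat.cast_injective h2
    omega
  · intro hθM
    rw [if_neg (hFMne θ hθM).1, if_neg (hFMne θ hθM).2, hfib θ hθM] at h1
    norm_num at h1

end Cfsg.Agent.CharactersDeep.FeitOddSetup
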