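import Mathlib
import Cfsg.Prelude.Def_Characters
import Cfsg.Agent.Characters.Core
import Cfsg.Agent.Characters.ClassMul
import Cfsg.Agent.Characters.DegreeBounds
import Cfsg.Agent.CharDeep.TIFN
import Cfsg.Agent.CharDeep.FrobKernel
import Cfsg.Agent.CharactersDeep.Tifn
import Cfsg.Agent.CharactersDeep.NormalInd
import Cfsg.Agent.CharactersDeep.FeitLinear
import Cfsg.Agent.CharactersDeep.FeitOddComb
import Cfsg.Agent.CharactersDeep.FeitOddAux
import Cfsg.Agent.CharactersDeep.FeitOddNorm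
import Cfsg.Agent.CharactersDeep.FeitOddSetup
import Cfsg.Agent.PermutationGroups.ExceptionalDegree
import Cfsg.Agent.S0159
import Cfsg.Agent.S0161
import Cfsg.Agent.S0850

/-!
# Feit's theorem on Zassenhaus groups when the kernel is a `p`-group for an odd prime `p`

`K` is a T.I. subgroup with Frobenius normalizer `N`, `N / K` is abelian of odd order `e`, `K` is a
`p`-group of odd order `h > 2 e + 1`, `N` has index `h + 1` in `G`, the induced characters from
`N / K` behave as for a 2-transitive action, and `G` has `e h` involutions, all conjugate.  This is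
a contradiction, provided that `h ≥ (2 e + 1) ^ 3` when `K` is not abelian.
-/

set_option autoImplicit false

open scoped ComplexConjugate
open Cfsg

namespace Cfsg.Agent.CharactersDeep.FeitOddAbs

open Cfsg.Agent.Characters

/-- The sum of a function with support in a subgroup. -/
theorem sum_coe {L : Type*} [Group L] [Fintype L] (K : Subgroup L) [Fintype K] (F : L → ℂ)
    (hF : ∀ x, x ∉ K → F x = 0) : ∑ x : L, F x = ∑ k : K, F k := by
  classical
  rw [← Fintype.sum_subtype_add_sum_subtype (fun x => x ∈ K) F]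
  rw [Finset.sum_eq_zero (s := (Finset.univ : Finset {x : L // ¬ x ∈ K})) (fun s _ => hF _ s.2),
    add_zero]
  refine Finset.sum_congr ?_ (fun _ _ => rfl)
  ext k
  simp only [Finset.mem_univ]

/-- The function `ζ(1) 1_K - ζ` -/
noncomputable def alpha {L : Type*} [Group L] (K : Subgroup L) (ζ : L → ℂ) : L → ℂ :=
  open scoped Classical in fun x => if x ∈ K then ζ 1 - ζ x else 0

theorem alpha_off {L : Type*} [Group L] (K : Subgroup L) (ζ : L → ℂ) {x : L} (hx : x ∉ K) :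
    alpha K ζ x = 0 := if_neg hx

theorem alpha_on {L : Type*} [Group L] (K : Subgroup L) (ζ : L → ℂ) {x : L} (hx : x ∈ K) :
    alpha K ζ x = ζ 1 - ζ x := if_pos hx

theorem alpha_one {L : Type*} [Group L] (K : Subgroup L) (ζ : L → ℂ) : alpha K ζ 1 = 0 := by
  rw [alpha_on K ζ K.one_mem, sub_self]

theorem alpha_class {L : Type*} [Group L] (K : Subgroup L) [hK : K.Normal] {ζ : L → ℂ}
    (hζ : IsClassFunction L ζ) : IsClassFunction L (alpha K ζ) := by
  intro x y
  by_cases hx : x ∈ K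
  · rw [alpha_on K ζ hx, alpha_on K ζ (hK.conj_mem x hx y), hζ x y]
  · rw [alpha_off K ζ hx, alpha_off K ζ]
    intro h1
    apply hx
    have h2 := hK.conj_mem _ h1 y⁻¹
    have h3 : y⁻¹ * (y * x * y⁻¹) * y⁻¹⁻¹ = x := by group
    rwa [h3] at h2

section
variable {L : Type*} [Group L] [Fintype L] (K : Subgroup L) [K.Normal] [Fintype K]
    (hC : ∀ k ∈ K, k ≠ 1 → ∀ g : L, g * k = k * g → g ∈ K) {ζ : L → ℂ}
    (hζ : IsIrrCharacter L ζ) (hP : ∃ k ∈ K, ζ k ≠ ζ 1)

include hζ hP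

theorem sum_alpha : ∑ x : L, alpha K ζ x = Nat.card K * ζ 1 := by
  rw [sum_coe K _ (fun x hx => alpha_off K ζ hx),
    Finset.sum_congr rfl (fun (k : K) _ => alpha_on K ζ k.2), Finset.sum_sub_distrib,
    CharDeep.FrobKernel.sum_apply_eq_zero K hζ hP, sub_zero, Finset.sum_const, Finset.card_univ,
    nsmul_eq_mul, ← Nat.card_eq_fintype_card]

include hC

theorem classInner_alpha (f : L → ℂ) :
    classInner (alpha K ζ) f =
      ζ 1 * ((Nat.card L : ℂ)⁻¹ * conj (∑ k : K, f k)) - classInner ζ f := by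
  rw [Core.classInner_def, Core.classInner_def,
    sum_coe K _ (fun x hx => by rw [alpha_off K ζ hx, zero_mul]),
    sum_coe K (fun g => ζ g * conj (f g))
      (fun x hx => by rw [CharDeep.FrobKernel.apply_eq_zero hC hζ hP hx, zero_mul])]
  rw [Finset.sum_congr rfl (g := fun k : K => ζ 1 * conj (f k) - ζ k * conj (f k))
    (fun (k : K) _ => by rw [alpha_on K ζ k.2, sub_mul]), Finset.sum_sub_distrib, map_sum,
    ← Finset.mul_sum]
  ring

end

section
variable {L : Type*} [Group L] [Fintype L] (K : Subgroup L) [K.Normal] [Fintype K]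
    (hC : ∀ k ∈ K, k ≠ 1 → ∀ g : L, g * k = k * g → g ∈ K)

include hC

theorem classInner_alpha_alpha {ζ ζ' : L → ℂ}
    (hζ : IsIrrCharacter L ζ) (hP : ∃ k ∈ K, ζ k ≠ ζ 1)
    (hζ' : IsIrrCharacter L ζ') (hP' : ∃ k ∈ K, ζ' k ≠ ζ' 1) :
    classInner (alpha K ζ) (alpha K ζ') =
      ζ 1 * ((Nat.card L : ℂ)⁻¹ * (Nat.card K * ζ' 1)) + classInner ζ ζ' := by
  rw [classInner_alpha K hC hζ hP, ← sum_coe K _ (fun x hx => alpha_off K ζ' hx),
    sum_alpha K hζ' hP', ← Core.classInner_conj_symm (alpha K ζ') ζ,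
    classInner_alpha K hC hζ' hP', CharDeep.FrobKernel.sum_apply_eq_zero K hζ hP, map_zero,
    mul_zero, mul_zero, zero_sub, map_neg, Core.classInner_conj_symm, sub_neg_eq_add]
  obtain ⟨n, hn0, hn⟩ := Core.isIrr_apply_one hζ'
  rw [hn, map_mul, Complex.conj_natCast, Complex.conj_natCast]

end

theorem odd_false_aux {G : Type*} [Group G] [Fintype G] (K N : Subgroup G)
    (hNdef : Subgroup.normalizer (K : Set G) = N)
    (hTI : ∀ g : G, g ∉ N → ∀ k ∈ K, g * k * g⁻¹ ∈ K → k = 1)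
    (hlt : K < N)
    (hC : ∀ k ∈ K, k ≠ 1 → Subgroup.centralizer ({k} : Set G) ≤ K)
    [Fintype N]
    (h e : ℕ) (hh : Nat.card K = h)
    (he : (K.subgroupOf N).index = e)
    (hN : N.index = h + 1)
    (hcomm : ∀ x ∈ N, ∀ y ∈ N, x * y * x⁻¹ * y⁻¹ ∈ K)
    (he1 : 1 < e) (hlt2 : 2 * e + 1 < h)
    (hind : ∀ μ : N → ℂ,
      Cfsg.IsCharacter N μ → μ 1 = 1 →
      (∀ u : N, (u : G) ∈ K → μ u = 1) → μ ≠ (fun _ => 1) →
      Cfsg.IsIrrCharacter G (Cfsg.indFun N μ) ∧
        ∀ u ∈ K, u ≠ 1 → Cfsg.indFun N μ u = 1)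
    (hSt : ∃ St : G → ℂ, Cfsg.IsIrrCharacter G St ∧
      Cfsg.indFun N (fun _ => 1) = 1 + St ∧
        ∀ u ∈ K, u ≠ 1 → St u = 0)
    (hhodd : Odd h) (heodd : Odd e) (t : G) (ht : orderOf t = 2)
    (hconj : ∀ x : G, orderOf x = 2 → IsConj t x)
    (hinv : Nat.card {x : G // orderOf x = 2} = e * h)
    (p : ℕ) (hp : p.Prime) (hpK : IsPGroup p K)
    (hsize : (∃ x ∈ K, ∃ y ∈ K, x * y ≠ y * x) → (2 * e + 1) ^ 3 ≤ h) : False := by
  classical
  have hKle : K ≤ N := hlt.le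
  obtain ⟨K', hK'⟩ : ∃ K' : Subgroup N, K' = K.subgroupOf N := ⟨_, rfl⟩
  rw [← hK'] at he
  let _ : K'.Normal := by
    rw [hK', ← hNdef]
    exact Subgroup.normal_in_normalizer
  have hK'mem : ∀ x : N, x ∈ K' ↔ (x : G) ∈ K := fun x => by
    rw [hK']
    exact Subgroup.mem_subgroupOf
  have hK'card : Nat.card K' = h := by
    rw [← hh, hK']
    exact Nat.card_congr (Subgroup.subgroupOfEquivOfLe hKle).toEquiv
  have hcomm' : ∀ x y : N, x * y * x⁻¹ * y⁻¹ ∈ K' := by
    intro x y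
    rw [hK'mem]
    exact hcomm x x.2 y y.2
  have hcentN : ∀ k ∈ K', k ≠ 1 → ∀ g : N, g * k = k * g → g ∈ K' := by
    intro k hk hk1 g hg
    rw [hK'mem] at hk ⊢
    refine hC (k : G) hk (fun h => hk1 (Subtype.ext h)) ?_
    rw [Subgroup.mem_centralizer_singleton_iff]
    exact congrArg Subtype.val hg
  have hres : ∀ (ϑ : N → ℂ), IsClassFunction N ϑ → (∀ x : N, (x : G) ∉ K → ϑ x = 0) →
      ϑ 1 = 0 → ∀ x : N, indFun N ϑ x = ϑ x := by
    have hNdef' := hNdef
    subst hNdef'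
    exact (Cfsg.Agent.S0850.result K hTI hlt hC).2
  have := Core.finite_irr (G := G)
  have := Core.finite_irr (G := N)
  let _ : Fintype (IrrCharacter G) := Fintype.ofFinite _
  let _ : Fintype (IrrCharacter N) := Fintype.ofFinite _
  let _ : Fintype K' := Fintype.ofFinite _
  have he0 : (e : ℂ) ≠ 0 := Nat.cast_ne_zero.2 (by omega)
  have hh0 : (h : ℂ) ≠ 0 := Nat.cast_ne_zero.2 (by omega)
  have hNcard : Nat.card N = h * e := by
    rw [← hK'card, ← he]
    exact (Subgroup.card_mul_index K').symm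
  have hGcard : Nat.card G = h * e * (h + 1) := by
    rw [← hNcard, ← hN]
    exact (Subgroup.card_mul_index N).symm
  have hG0 : (Nat.card G : ℂ) ≠ 0 := Core.card_ne_zero_complex
  have hNodd : Odd (Nat.card N) := by
    rw [hNcard]
    exact hhodd.mul heodd
  have htN : ∀ y : G, y⁻¹ * t * y ∉ N := by
    intro y hy
    have h1 : orderOf (y⁻¹ * t * y) = 2 := by
      have h2 : y⁻¹ * t * y = MulAut.conj y⁻¹ t := by simp
      rw [h2, MulEquiv.orderOf_eq, ht]
    have h2 : orderOf (⟨y⁻¹ * t * y, hy⟩ : N) = 2 := by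
      rw [← h1]
      exact Subgroup.orderOf_mk _ _
    have h3 : 2 ∣ Nat.card N := by
      rw [← h2]
      exact orderOf_dvd_natCard _
    exact (Nat.not_even_iff_odd.2 hNodd) (even_iff_two_dvd.2 h3)
  obtain ⟨one, st, FM, FR, hone, hst1, hstK, hFM, hFMe, hsplit, hFR⟩ :=
    FeitOddSetup.setup K N hNdef hlt K' hK' h e hh he hN hcomm he1 hlt2 hind hSt
  obtain ⟨g, hg⟩ : ∃ g, FM.card = g := ⟨_, rfl⟩
  rw [hg] at hFMe
  -- the characters of the normalizer
  let J := {ζ : IrrCharacter N // ∃ k ∈ K', (ζ : N → ℂ) k ≠ (ζ : N → ℂ) 1}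
  let I := {θ : IrrCharacter G // θ ∈ FR}
  have hd0 : ∀ ζ : J, ∃ d : ℕ, 0 < d ∧ (ζ.1 : N → ℂ) 1 = ((e * d : ℕ) : ℂ) ∧ d ∣ h := by
    intro ζ
    have h1 := CharDeep.FrobKernel.exists_degree_eq hcentN ζ.1.2 ζ.2
    rwa [he, hK'card] at h1
  choose d hdpos hdeq hddvd using hd0
  have hζoff : ∀ (ζ : J) (x : N), x ∉ K' → (ζ.1 : N → ℂ) x = 0 := fun ζ x hx =>
    CharDeep.FrobKernel.apply_eq_zero hcentN ζ.1.2 ζ.2 hx
  let F : J → G → ℂ := fun ζ => indFun N (alpha K' (ζ.1 : N → ℂ))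
  have hFc : ∀ ζ : J, IsClassFunction G (F ζ) := fun ζ => NormalInd.indFun_isClassFunction N _
  have hFN : ∀ (ζ : J) (x : N), F ζ x = alpha K' (ζ.1 : N → ℂ) x := by
    intro ζ x
    exact hres _ (alpha_class K' (Core.isIrr_isClassFunction ζ.1.2))
      (fun x hx => alpha_off K' _ (fun h1 => hx ((hK'mem x).1 h1))) (alpha_one K' _) x
  have hFin : ∀ (ζ : J) (f : G → ℂ), IsClassFunction G f →
      classInner (F ζ) f = classInner (alpha K' (ζ.1 : N → ℂ)) (fun x : N => f x) :=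
    fun ζ f hf => NormalInd.classInner_indFun N _ f hf
  have hαsum : ∀ ζ : J, (Nat.card N : ℂ)⁻¹ * ∑ x : N, alpha K' (ζ.1 : N → ℂ) x = d ζ := by
    intro ζ
    rw [sum_alpha K' ζ.1.2 ζ.2, hK'card, hNcard, hdeq]
    push_cast
    field_simp
  have hcoefc : ∀ (ζ : J) (f : G → ℂ) (c : ℂ), IsClassFunction G f →
      (∀ v ∈ K, v ≠ 1 → f v = c) → classInner (F ζ) f = d ζ * conj c := by
    intro ζ f c hf hfc
    rw [hFin ζ f hf, Core.classInner_def, ← hαsum ζ, mul_assoc, Finset.sum_mul]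
    congr 1
    refine Finset.sum_congr rfl (fun x _ => ?_)
    by_cases hx : x ∈ K'
    · by_cases hx1 : x = 1
      · rw [hx1, alpha_one, zero_mul, zero_mul]
      · rw [hfc x ((hK'mem x).1 hx) (fun h1 => hx1 (Subtype.ext h1))]
    · rw [alpha_off K' _ hx, zero_mul, zero_mul]
  have hc1 : ∀ ζ : J, classInner (F ζ) (one : G → ℂ) = d ζ := by
    intro ζ
    rw [hcoefc ζ one 1 (Core.isIrr_isClassFunction one.2) (fun v _ _ => by rw [hone]; rfl),
      map_one, mul_one]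
  have hc2 : ∀ ζ : J, classInner (F ζ) (st : G → ℂ) = 0 := by
    intro ζ
    rw [hcoefc ζ st 0 (Core.isIrr_isClassFunction st.2) hstK, map_zero, mul_zero]
  have hc3 : ∀ ζ : J, ∀ θ ∈ FM, classInner (F ζ) (θ : G → ℂ) = d ζ := by
    intro ζ θ hθ
    rw [hcoefc ζ θ 1 (Core.isIrr_isClassFunction θ.2) (hFM θ hθ).2.1, map_one, mul_one]
  -- the multiplicities
  have ha0 : ∀ (θ : IrrCharacter G) (ζ : IrrCharacter N), ∃ m : ℕ,
      classInner (fun x : N => (θ : G → ℂ) x) (ζ : N → ℂ) = m := fun θ ζ =>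
    Core.classInner_isNat (Core.isCharacter_comp N.subtype (Core.isIrr_isCharacter θ.2))
      (Core.isIrr_isCharacter ζ.2)
  choose m hm using ha0
  have hm' : ∀ (θ : IrrCharacter G) (ζ : IrrCharacter N),
      classInner (ζ : N → ℂ) (fun x : N => (θ : G → ℂ) x) = m θ ζ := by
    intro θ ζ
    rw [← Core.classInner_conj_symm, hm, Complex.conj_natCast]
  have hc4 : ∀ ζ : J, ∀ θ ∈ FR, classInner (F ζ) (θ : G → ℂ) = -(m θ ζ.1 : ℂ) := by
    intro ζ θ hθ
    rw [hFin ζ θ (Core.isIrr_isClassFunction θ.2), classInner_alpha K' hcentN ζ.1.2 ζ.2,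
      (hFR θ).1 hθ, map_zero, mul_zero, mul_zero, zero_sub, hm']
  -- sums over `FR`
  have hsumI : ∀ f : IrrCharacter G → ℂ, ∑ θ ∈ FR, f θ = ∑ i : I, f i.1 := by
    intro f
    exact (Finset.sum_coe_sort FR f).symm
  -- Parseval
  have hG : ∀ j j' : J, ∑ i : I, (m i.1 j.1 : ℤ) * m i.1 j'.1 =
      (if j = j' then 1 else 0) + g * d j * d j' := by
    intro j j'
    have h1 := Core.classInner_eq_sum (hFc j) (hFc j')
    rw [hsplit, hc1, hc1, hc2, hc2, hFin j _ (hFc j'), Finset.sum_congr rfl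
      (g := fun _ => (d j : ℂ) * d j') (fun θ hθ => by rw [hc3 j θ hθ, hc3 j' θ hθ,
        Complex.conj_natCast]), Finset.sum_const, hg, Finset.sum_congr rfl
      (g := fun θ => (m θ j.1 : ℂ) * m θ j'.1) (fun θ hθ => by rw [hc4 j θ hθ, hc4 j' θ hθ,
        map_neg, Complex.conj_natCast, neg_mul_neg]), hsumI, Complex.conj_natCast] at h1
    have h2 : (fun x : N => F j' x) = alpha K' (j'.1 : N → ℂ) := funext (hFN j')
    rw [h2, classInner_alpha_alpha K' hcentN j.1.2 j.2 j'.1.2 j'.2, hdeq, hdeq, hNcard, hK'card,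
      Core.classInner_irr j.1.2 j'.1.2] at h1
    have h3 : (if (j.1 : N → ℂ) = (j'.1 : N → ℂ) then (1 : ℂ) else 0) = if j = j' then 1 else 0 := by
      by_cases h4 : j = j'
      · rw [if_pos h4, if_pos (by rw [h4])]
      · rw [if_neg h4, if_neg (fun h5 => h4 (Subtype.ext (Subtype.ext h5)))]
    rw [h3] at h1
    have h4 : (e : ℂ) = 2 * g + 1 := by
      rw [← hFMe]
      push_cast
      ring
    have h5 : (((e * d j : ℕ) : ℂ) * (((h * e : ℕ) : ℂ)⁻¹ * (h * ((e * d j' : ℕ) : ℂ)))) =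
        (2 * g + 1) * d j * d j' := by
      rw [← h4]
      push_cast
      field_simp
    rw [h5] at h1
    have h6 : (((∑ i : I, (m i.1 j.1 : ℤ) * m i.1 j'.1 : ℤ)) : ℂ) =
        (((if j = j' then 1 else 0) + g * d j * d j' : ℤ) : ℂ) := by
      push_cast
      rw [nsmul_eq_mul] at h1
      linear_combination -h1
    exact_mod_cast h6
  -- values at the involution and degrees
  have hx0 : ∀ θ : IrrCharacter G, ∃ x : ℤ, (θ : G → ℂ) t = x ∧
      ∀ n : ℕ, (θ : G → ℂ) 1 = n → Even (x - n) :=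
    fun θ => FeitOddAux.exists_int_apply θ.2 ht
  choose x hx hxpar using hx0
  have hdeg0 : ∀ θ : IrrCharacter G, ∃ n : ℕ, 0 < n ∧ (θ : G → ℂ) 1 = n :=
    fun θ => Core.isIrr_apply_one θ.2
  choose deg hdegpos hdeg1 using hdeg0
  have hexp : ∀ (j : J) (s : G), F j s =
      ∑ χ : IrrCharacter G, classInner (F j) (χ : G → ℂ) * (χ : G → ℂ) s := by
    intro j s
    have h3 := congrFun (Core.classFunction_eq_sum (hFc j)) s
    rw [Finset.sum_apply] at h3
    exact h3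
  have hT0 : ∀ j : J, ∑ i : I, x i.1 * (m i.1 j.1 : ℤ) = d j := by
    intro j
    have h1 := hexp j t
    rw [hsplit (fun χ => classInner (F j) (χ : G → ℂ) * (χ : G → ℂ) t), hc1, hc2, zero_mul,
      add_zero, Finset.sum_eq_zero (s := FM) (fun θ hθ => by rw [(hFM θ hθ).2.2 t htN, mul_zero]),
      add_zero, Finset.sum_congr rfl (g := fun θ => - ((x θ : ℂ) * m θ j.1))
        (fun θ hθ => by rw [hc4 j θ hθ, hx]; ring), Finset.sum_neg_distrib, hsumI] at h1
    have h2 : F j t = 0 := PermutationGroups.ExceptionalDegree.indFun_eq_zero_of_no_conj N _ htN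
    rw [h2, hone, Pi.one_apply, mul_one] at h1
    have h3 : ((∑ i : I, x i.1 * (m i.1 j.1 : ℤ) : ℤ) : ℂ) = ((d j : ℤ) : ℂ) := by
      push_cast
      linear_combination h1
    exact_mod_cast h3
  -- the class multiplication constant
  have hGam : ∀ v ∈ K, v ≠ 1 → ∑ χ : IrrCharacter G,
      (χ : G → ℂ) t * (χ : G → ℂ) t * conj ((χ : G → ℂ) v) / (χ : G → ℂ) 1 = 0 := by
    intro v hv hv1
    have h1 := ClassMul.card_class_mul t t v
    have hinvol : ∀ a : G, IsConj t a → a * a = 1 := by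
      intro a ha
      obtain ⟨c, hc⟩ := isConj_iff.1 ha
      have h3 : t * t = 1 := by
        rw [← pow_two, ← ht]
        exact pow_orderOf_eq_one t
      calc a * a = c * (t * t) * c⁻¹ := by rw [← hc]; group
        _ = 1 := by rw [h3]; group
    have h2 : Nat.card {p : G × G // IsConj t p.1 ∧ IsConj t p.2 ∧ p.1 * p.2 = v} = 0 := by
      refine Nat.card_eq_zero.2 (Or.inl ⟨?_⟩)
      rintro ⟨⟨a, b⟩, ha, hb, hab⟩
      have ha2 := hinvol a ha
      have hb2 := hinvol b hb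
      have h3 : a * v * a⁻¹ = v⁻¹ := by
        have h4 : a * b = v := hab
        have h5 : a⁻¹ = a := inv_eq_of_mul_eq_one_left ha2
        have h6 : b⁻¹ = b := inv_eq_of_mul_eq_one_left hb2
        rw [← h4, mul_inv_rev, h5, h6, ← mul_assoc, ha2, one_mul]
      by_cases haN : a ∈ N
      · obtain ⟨c, hc⟩ := isConj_iff.1 ha
        apply htN c⁻¹
        rw [inv_inv, hc]
        exact haN
      · exact hv1 (hTI a haN v hv (by rw [h3]; exact K.inv_mem hv))
    rw [h2, Nat.cast_zero] at h1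
    have h4 : ((Subgroup.centralizer ({t} : Set G)).index : ℂ) ≠ 0 :=
      Nat.cast_ne_zero.2 Subgroup.index_ne_zero_of_finite
    rcases mul_eq_zero.1 h1.symm with h5 | h5
    · exfalso
      exact div_ne_zero (mul_ne_zero h4 h4) hG0 h5
    · exact h5
  have hT1 : ∀ j : J, ∑ i : I, (x i.1 : ℚ) ^ 2 / ((deg i.1 : ℤ) : ℚ) * ((m i.1 j.1 : ℤ) : ℚ) =
      ((d j : ℤ) : ℚ) := by
    intro j
    have h1 : ∑ χ : IrrCharacter G, ((χ : G → ℂ) t) ^ 2 / (χ : G → ℂ) 1 *
        classInner (F j) (χ : G → ℂ) = 0 := by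
      have h2 : ∀ χ : IrrCharacter G, ((χ : G → ℂ) t) ^ 2 / (χ : G → ℂ) 1 *
          classInner (F j) (χ : G → ℂ) = ∑ y : N, (Nat.card N : ℂ)⁻¹ *
            (alpha K' (j.1 : N → ℂ) y *
              ((χ : G → ℂ) t * (χ : G → ℂ) t * conj ((χ : G → ℂ) y) / (χ : G → ℂ) 1)) := by
        intro χ
        rw [hFin j χ (Core.isIrr_isClassFunction χ.2), Core.classInner_def, Finset.mul_sum,
          Finset.mul_sum]
        refine Finset.sum_congr rfl (fun y _ => ?_)
        ring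
      rw [Finset.sum_congr rfl (fun χ _ => h2 χ), Finset.sum_comm]
      refine Finset.sum_eq_zero (fun y _ => ?_)
      rw [← Finset.mul_sum, ← Finset.mul_sum]
      by_cases hy : y ∈ K'
      · by_cases hy1 : y = 1
        · rw [hy1, alpha_one, zero_mul, mul_zero]
        · rw [hGam y ((hK'mem y).1 hy) (fun h1 => hy1 (Subtype.ext h1)), mul_zero, mul_zero]
      · rw [alpha_off K' _ hy, zero_mul, mul_zero]
    rw [hsplit (fun χ => ((χ : G → ℂ) t) ^ 2 / (χ : G → ℂ) 1 * classInner (F j) (χ : G → ℂ)),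
      hc1, hc2, mul_zero, add_zero, Finset.sum_eq_zero (s := FM) (fun θ hθ => by
        rw [(hFM θ hθ).2.2 t htN]; ring), add_zero, Finset.sum_congr rfl
        (g := fun θ => - ((x θ : ℂ) ^ 2 / (deg θ : ℂ) * m θ j.1))
        (fun θ hθ => by rw [hc4 j θ hθ, hx, hdeg1]; ring), Finset.sum_neg_distrib, hsumI, hone,
        Pi.one_apply, Pi.one_apply] at h1
    have h3 : ((∑ i : I, (x i.1 : ℚ) ^ 2 / ((deg i.1 : ℤ) : ℚ) * ((m i.1 j.1 : ℤ) : ℚ) : ℚ) : ℂ) =
        (((d j : ℤ) : ℚ) : ℂ) := by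
      push_cast
      linear_combination -h1
    exact_mod_cast h3
  -- Frobenius-Schur indicators
  have hν0 : ∀ θ : IrrCharacter G, ∃ n : ℤ, (n = 0 ∨ n = 1 ∨ n = -1) ∧
      (Nat.card G : ℂ)⁻¹ * ∑ s : G, (θ : G → ℂ) (s * s) = n ∧
      (n = 0 ↔ ∃ g, ((θ : G → ℂ) g).im ≠ 0) := fun θ => FeitOddAux.exists_indicator θ.2
  choose ν hν hνeq hνre using hν0
  have hν1 : ν one = 1 := by
    have h1 := hνeq one
    rw [hone] at h1
    simp only [Pi.one_apply] at h1
    rw [Finset.sum_const, Finset.card_univ, nsmul_eq_mul, ← Nat.card_eq_fintype_card, mul_one,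
      inv_mul_cancel₀ hG0] at h1
    exact_mod_cast h1.symm
  obtain ⟨V, hV⟩ : ∃ V : ℤ, V = ∑ θ ∈ FM, ν θ := ⟨_, rfl⟩
  have hFS0 : ∀ j : J, ∑ i : I, ν i.1 * (m i.1 j.1 : ℤ) = V * d j := by
    intro j
    have h1 := FeitOddAux.sum_indFun_sq K N hKle hC (by rw [hh]; exact hhodd)
      (alpha K' (j.1 : N → ℂ)) (fun x hx => alpha_off K' _ (fun h1 => hx ((hK'mem x).1 h1)))
      (alpha_one K' _)
    rw [hαsum] at h1
    have h4 : (Nat.card G : ℂ)⁻¹ * ∑ s : G, F j (s * s) =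
        ∑ χ : IrrCharacter G, classInner (F j) (χ : G → ℂ) * (ν χ : ℂ) := by
      rw [Finset.sum_congr rfl (fun s _ => hexp j (s * s)), Finset.sum_comm, Finset.mul_sum]
      refine Finset.sum_congr rfl (fun χ _ => ?_)
      rw [← Finset.mul_sum, ← hνeq χ]
      ring
    have h5 : (Nat.card G : ℂ)⁻¹ * ∑ s : G, F j (s * s) = d j := h1
    rw [h5, hsplit (fun χ => classInner (F j) (χ : G → ℂ) * (ν χ : ℂ)), hc1, hc2, zero_mul,
      add_zero, hν1, Finset.sum_congr (s₁ := FM) rfl (g := fun θ => (d j : ℂ) * ν θ)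
        (fun θ hθ => by rw [hc3 j θ hθ]), ← Finset.mul_sum,
      Finset.sum_congr (s₁ := FR) rfl (g := fun θ => - ((ν θ : ℂ) * m θ j.1))
        (fun θ hθ => by rw [hc4 j θ hθ]; ring), Finset.sum_neg_distrib, hsumI] at h4
    have h6 : ((∑ i : I, ν i.1 * (m i.1 j.1 : ℤ) : ℤ) : ℂ) = ((V * d j : ℤ) : ℂ) := by
      rw [hV]
      push_cast at h4 ⊢
      linear_combination h4
    exact_mod_cast h6
  -- restrictions of the remaining characters
  have hm0 : ∀ θ ∈ FR, ∀ ζ : IrrCharacter N,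
      (¬ ∃ k ∈ K', (ζ : N → ℂ) k ≠ (ζ : N → ℂ) 1) → m θ ζ = 0 := by
    intro θ hθ ζ hζ
    have h1 := FeitLinear.average_eq_sum K' hcomm' (f := fun x : N => (θ : G → ℂ) x)
      (fun x y => Core.isIrr_isClassFunction θ.2 x y)
    have h2 : ∑ k : K', (fun x : N => (θ : G → ℂ) x) (k : N) = 0 := (hFR θ).1 hθ
    rw [h2, mul_zero, Finset.sum_congr rfl (fun ζ _ => hm θ ζ)] at h1
    have h3 : ((∑ ζ ∈ Finset.univ.filter (fun ζ : IrrCharacter N =>
        ¬ ∃ k ∈ K', (ζ : N → ℂ) k ≠ (ζ : N → ℂ) 1), m θ ζ : ℕ) : ℂ) = 0 := by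
      push_cast
      exact h1.symm
    have h4 := Nat.cast_eq_zero.1 h3
    exact (Finset.sum_eq_zero_iff.1 h4) ζ (Finset.mem_filter.2 ⟨Finset.mem_univ _, hζ⟩)
  have hsumJ : ∀ f : IrrCharacter N → ℂ,
      (∀ ζ : IrrCharacter N, (¬ ∃ k ∈ K', (ζ : N → ℂ) k ≠ (ζ : N → ℂ) 1) → f ζ = 0) →
      ∑ ζ, f ζ = ∑ j : J, f j.1 := by
    intro f hf
    rw [← Fintype.sum_subtype_add_sum_subtype
      (fun ζ : IrrCharacter N => ∃ k ∈ K', (ζ : N → ℂ) k ≠ (ζ : N → ℂ) 1) f,
      Finset.sum_eq_zero (s := (Finset.univ : Finset {ζ : IrrCharacter N //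
        ¬ ∃ k ∈ K', (ζ : N → ℂ) k ≠ (ζ : N → ℂ) 1})) (fun ζ _ => hf _ ζ.2), add_zero]
  have hθN : ∀ θ ∈ FR, ∀ y : N, (θ : G → ℂ) y = ∑ j : J, (m θ j.1 : ℂ) * (j.1 : N → ℂ) y := by
    intro θ hθ y
    have h1 := congrFun (Core.classFunction_eq_sum (f := fun x : N => (θ : G → ℂ) x)
      (fun x y => Core.isIrr_isClassFunction θ.2 x y)) y
    rw [Finset.sum_apply] at h1
    simp only [Pi.smul_apply, smul_eq_mul] at h1
    rw [h1, ← hsumJ (fun ζ => (m θ ζ : ℂ) * (ζ : N → ℂ) y)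
      (fun ζ hζ => by rw [hm0 θ hθ ζ hζ, Nat.cast_zero, zero_mul])]
    exact Finset.sum_congr rfl (fun ζ _ => by rw [hm])
  have hdeg : ∀ i : I, (deg i.1 : ℤ) = e * ∑ j : J, (m i.1 j.1 : ℤ) * d j := by
    intro i
    have h1 := hθN i.1 i.2 1
    rw [Subgroup.coe_one, hdeg1] at h1
    have h2 : ((deg i.1 : ℤ) : ℂ) = ((e * ∑ j : J, (m i.1 j.1 : ℤ) * d j : ℤ) : ℂ) := by
      push_cast
      rw [h1, Finset.mul_sum]
      refine Finset.sum_congr rfl (fun j _ => ?_)
      rw [hdeq]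
      push_cast
      ring
    exact_mod_cast h2
  have hMsum : ∀ i : I, classInner (fun y : N => (i.1 : G → ℂ) y) (fun y : N => (i.1 : G → ℂ) y) =
      ((∑ j : J, (m i.1 j.1 : ℝ) ^ 2 : ℝ) : ℂ) := by
    intro i
    have hc : IsClassFunction N (fun y : N => (i.1 : G → ℂ) y) :=
      fun x y => Core.isIrr_isClassFunction i.1.2 x y
    rw [Core.classInner_eq_sum hc hc,
      Finset.sum_congr rfl (g := fun ζ => (m i.1 ζ : ℂ) * (m i.1 ζ : ℂ))
        (fun ζ _ => by rw [hm, Complex.conj_natCast]),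
      hsumJ (fun ζ => (m i.1 ζ : ℂ) * (m i.1 ζ : ℂ))
        (fun ζ hζ => by rw [hm0 i.1 i.2 ζ hζ, Nat.cast_zero, zero_mul])]
    push_cast
    exact Finset.sum_congr rfl (fun j _ => by ring)
  have hsumd : (e : ℤ) * ∑ j : J, (d j : ℤ) ^ 2 = h - 1 := by
    have h1 := CharDeep.FrobKernel.sum_degree_sq_of_ne K'
    have h2 := hsumJ (fun ζ => if ∃ k ∈ K', (ζ : N → ℂ) k ≠ (ζ : N → ℂ) 1 then
      (ζ : N → ℂ) 1 * (ζ : N → ℂ) 1 else 0) (fun ζ hζ => if_neg hζ)
    rw [Finset.sum_filter] at h1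
    have h3 : ∑ j : J, (e * d j : ℂ) * (e * d j) = (e : ℂ) * (h - 1) := by
      rw [← he, ← hK'card]
      convert h1.symm.trans h2 |>.symm using 1
      · refine Finset.sum_congr rfl (fun j _ => ?_)
        rw [if_pos j.2, hdeq, he]
        push_cast
        ring
    have h4 : ((e * ∑ j : J, (d j : ℤ) ^ 2 : ℤ) : ℂ) = ((h - 1 : ℤ) : ℂ) := by
      push_cast
      have h5 : (e : ℂ) * (e * ∑ j : J, (d j : ℂ) ^ 2) = (e : ℂ) * (h - 1) := by
        rw [← h3, Finset.mul_sum, Finset.mul_sum]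
        exact Finset.sum_congr rfl (fun j _ => by ring)
      exact mul_left_cancel₀ he0 h5
    exact_mod_cast h4
  -- the number of involutions
  have hcount : (Nat.card {s : G // s * s = 1} : ℂ) = 1 + e * h := by
    have h1 : Nat.card {s : G // s * s = 1} = Nat.card {x : G // orderOf x = 2} + 1 := by
      rw [Nat.card_eq_fintype_card, Nat.card_eq_fintype_card, Fintype.card_subtype,
        Fintype.card_subtype]
      have h2 : (Finset.univ.filter (fun s : G => s * s = 1)) =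
          insert 1 (Finset.univ.filter (fun s : G => orderOf s = 2)) := by
        ext s
        simp only [Finset.mem_filter, Finset.mem_univ, true_and, Finset.mem_insert]
        rw [orderOf_eq_prime_iff, pow_two]
        constructor
        · intro h3
          by_cases h4 : s = 1
          · exact Or.inl h4
          · exact Or.inr ⟨h3, h4⟩
        · rintro (h3 | h3)
          · rw [h3, one_mul]
          · exact h3.1
      rw [h2, Finset.card_insert_of_notMem]
      intro h3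
      have h4 := (Finset.mem_filter.1 h3).2
      rw [orderOf_one] at h4
      omega
    rw [h1, hinv]
    push_cast
    ring
  have hVg : V = g := by
    have h1 := Cfsg.Agent.S0159.result (G := G)
    rw [hcount, finsum_eq_sum_of_fintype,
      Finset.sum_congr rfl (g := fun χ => (ν χ : ℂ) * (χ : G → ℂ) 1)
        (fun χ _ => by rw [hνeq]), hsplit (fun χ => (ν χ : ℂ) * (χ : G → ℂ) 1), hν1, hst1,
      Finset.sum_congr (s₁ := FM) rfl (g := fun θ => (ν θ : ℂ) * (h + 1))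
        (fun θ hθ => by rw [(hFM θ hθ).1]), ← Finset.sum_mul,
      Finset.sum_congr (s₁ := FR) rfl (g := fun θ => (ν θ : ℂ) * deg θ)
        (fun θ hθ => by rw [hdeg1]), hsumI, hone, Pi.one_apply] at h1
    have h2 : ∑ i : I, ν i.1 * (deg i.1 : ℤ) = V * (h - 1) := by
      rw [← hsumd, Finset.sum_congr rfl (g := fun i : I => ∑ j : J, e * (ν i.1 * (m i.1 j.1 : ℤ)) * d j)
        (fun i _ => by
          rw [hdeg, Finset.mul_sum, Finset.mul_sum]
          exact Finset.sum_congr rfl (fun j _ => by ring)), Finset.sum_comm, Finset.mul_sum,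
        Finset.mul_sum]
      refine Finset.sum_congr rfl (fun j _ => ?_)
      rw [← Finset.sum_mul, ← Finset.mul_sum, hFS0]
      ring
    have h3 : ((1 + e * h : ℤ) : ℂ) =
        ((1 + ν st * h + V * (h + 1) + V * (h - 1) : ℤ) : ℂ) := by
      rw [← h2, hV]
      push_cast at h1 ⊢
      linear_combination h1
    have h4 : (1 + e * h : ℤ) = 1 + ν st * h + V * (h + 1) + V * (h - 1) := by exact_mod_cast h3
    have h5 : (e : ℤ) * h = (ν st + 2 * V) * h := by linear_combination h4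
    have h6 : (e : ℤ) = ν st + 2 * V :=
      mul_right_cancel₀ (by exact_mod_cast (by omega : h ≠ 0)) h5
    have h7 : V ≤ g := by
      rw [hV, ← hg]
      calc ∑ θ ∈ FM, ν θ ≤ ∑ θ ∈ FM, (1 : ℤ) :=
            Finset.sum_le_sum (fun θ _ => by rcases hν θ with h | h | h <;> omega)
        _ = FM.card := by simp
    have h8 : (e : ℤ) = 2 * g + 1 := by
      rw [← hFMe]
      push_cast
      ring
    rcases hν st with h9 | h9 | h9 <;> omega
  -- complex conjugation
  let cj : IrrCharacter G → IrrCharacter G := fun θ => ⟨fun g => conj ((θ : G → ℂ) g),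
    Core.isIrr_conj θ.2⟩
  let cjN : IrrCharacter N → IrrCharacter N := fun ζ => ⟨fun g => conj ((ζ : N → ℂ) g),
    Core.isIrr_conj ζ.2⟩
  have hcjcj : ∀ ζ : IrrCharacter N, cjN (cjN ζ) = ζ := by
    intro ζ
    apply Subtype.ext
    funext g
    exact Complex.conj_conj _
  have hcjFR : ∀ θ ∈ FR, cj θ ∈ FR := by
    intro θ hθ
    rw [hFR] at hθ ⊢
    show ∑ k : K', conj ((θ : G → ℂ) ((k : N) : G)) = 0
    rw [← map_sum, hθ, map_zero]
  have hcjJ : ∀ ζ : IrrCharacter N, (∃ k ∈ K', (ζ : N → ℂ) k ≠ (ζ : N → ℂ) 1) →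
      ∃ k ∈ K', (cjN ζ : N → ℂ) k ≠ (cjN ζ : N → ℂ) 1 := by
    rintro ζ ⟨k, hk, hk'⟩
    exact ⟨k, hk, fun h1 => hk' ((starRingEnd ℂ).injective h1)⟩
  let σ : I → I := fun i => ⟨cj i.1, hcjFR i.1 i.2⟩
  let τ : J → J := fun j => ⟨cjN j.1, hcjJ j.1 j.2⟩
  have haστ : ∀ (i : I) (j : J), (m (σ i).1 (τ j).1 : ℤ) = m i.1 j.1 := by
    intro i j
    have h1 : (m (σ i).1 (τ j).1 : ℂ) = m i.1 j.1 := by
      rw [← hm, ← Complex.conj_natCast (m i.1 j.1), ← hm, Core.classInner_def,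
        Core.classInner_def, map_mul, map_inv₀, Complex.conj_natCast, map_sum]
      congr 1
      refine Finset.sum_congr rfl (fun y _ => ?_)
      rw [map_mul]
    exact_mod_cast h1
  have hdτ : ∀ j : J, (d (τ j) : ℤ) = d j := by
    intro j
    have h1 : ((e * d (τ j) : ℕ) : ℂ) = ((e * d j : ℕ) : ℂ) := by
      rw [← hdeq, ← Complex.conj_natCast (e * d j), ← hdeq]
    have h2 : e * d (τ j) = e * d j := by exact_mod_cast h1
    exact_mod_cast Nat.eq_of_mul_eq_mul_left (by omega) h2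
  have hτne : ∀ j : J, τ j ≠ j := by
    intro j hj
    have h1 : ∀ g : N, ((j.1 : N → ℂ) g).im = 0 := by
      intro g
      have h2 : (τ j).1 = j.1 := congrArg Subtype.val hj
      have h3 : conj ((j.1 : N → ℂ) g) = (j.1 : N → ℂ) g := congrFun (congrArg Subtype.val h2) g
      exact Complex.conj_eq_iff_im.1 h3
    have h2 := Cfsg.Agent.S0161.result hNodd j.1 h1
    obtain ⟨k, hk, hk'⟩ := j.2
    apply hk'
    rw [h2]
  have hττ : ∀ j : J, τ (τ j) = j := fun j => Subtype.ext (hcjcj j.1)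
  have hνσ : ∀ i : I, ν i.1 = 0 ↔ σ i ≠ i := by
    intro i
    rw [hνre i.1]
    constructor
    · rintro ⟨g, hg⟩ h1
      apply hg
      have h2 : (σ i).1 = i.1 := congrArg Subtype.val h1
      have h3 : conj ((i.1 : G → ℂ) g) = (i.1 : G → ℂ) g := congrFun (congrArg Subtype.val h2) g
      exact Complex.conj_eq_iff_im.1 h3
    · intro h1
      by_contra hcon
      push Not at hcon
      apply h1
      apply Subtype.ext
      apply Subtype.ext
      funext g
      exact Complex.conj_eq_iff_im.2 (hcon g)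
  have hνσ' : ∀ i : I, ν (σ i).1 = ν i.1 := by
    intro i
    have h1 : (ν (σ i).1 : ℂ) = ν i.1 := by
      rw [← map_intCast (starRingEnd ℂ) (ν i.1), ← hνeq, ← hνeq, map_mul, map_inv₀,
        Complex.conj_natCast, map_sum]
    exact_mod_cast h1
  -- the order of the kernel
  have hpF : Fact p.Prime := ⟨hp⟩
  obtain ⟨s, hs⟩ := IsPGroup.iff_card.1 hpK
  rw [hh] at hs
  have hs0 : s ≠ 0 := by
    rintro rfl
    rw [pow_zero] at hs
    omega
  have hdp : ∀ j : J, (d j : ℤ) = 1 ∨ (p : ℤ) ∣ d j := by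
    intro j
    have h1 := hddvd j
    rw [hs, Nat.dvd_prime_pow hp] at h1
    obtain ⟨k, -, hk⟩ := h1
    rcases Nat.eq_zero_or_pos k with h2 | h2
    · left
      rw [hk, h2, pow_zero, Nat.cast_one]
    · right
      rw [hk]
      exact_mod_cast dvd_pow_self p h2.ne'
  have hsize' : (∃ j : J, (d j : ℤ) ≠ 1) → (2 * e + 1) ^ 3 ≤ h := by
    rintro ⟨j, hj⟩
    apply hsize
    by_contra hcon
    push Not at hcon
    apply hj
    obtain ⟨n, ρ, hρ, hρc⟩ := j.1.2
    have := hρ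
    have h1 := DegreeBounds.finrank_le_index_of_comm ρ K' (fun a ha b hb =>
      Subtype.ext (hcon a ((hK'mem a).1 ha) b ((hK'mem b).1 hb)))
    have h2 : (j.1 : N → ℂ) 1 = (Module.finrank ℂ (Fin n → ℂ) : ℂ) := by
      rw [← hρc]
      exact Representation.char_one ρ
    rw [hdeq] at h2
    have h3 : e * d j = Module.finrank ℂ (Fin n → ℂ) := by exact_mod_cast h2
    rw [← h3, he] at h1
    have h4 : d j ≤ 1 := by
      by_contra h5
      have h6 : e * 2 ≤ e * d j := Nat.mul_le_mul_left e (by omega)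
      omega
    have h5 := hdpos j
    have h6 : d j = 1 := by omega
    rw [h6, Nat.cast_one]
  have hnorm : ∀ i : I, (e : ℤ) * (h + 1) * (∑ j : J, (m i.1 j.1 : ℤ) ^ 2 - 1) ≤
      (deg i.1 : ℤ) ^ 2 := by
    intro i
    have h1 := FeitOddNorm.norm_le K N hNdef hTI hlt hC i.1.2 (fun y hy => by
        rw [hθN i.1 i.2 y]
        refine Finset.sum_eq_zero (fun j _ => ?_)
        rw [hζoff j y (fun h1 => hy ((hK'mem y).1 h1)), mul_zero])
      (deg i.1) (∑ j : J, (m i.1 j.1 : ℝ) ^ 2) (by rw [hdeg1]; simp) (hMsum i)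
    rw [hNcard, hGcard] at h1
    have he0' : (0 : ℝ) < e := by exact_mod_cast (by omega : 0 < e)
    have hh0' : (0 : ℝ) < h := by exact_mod_cast (by omega : 0 < h)
    push_cast at h1
    have h2 : (e : ℝ) * (h + 1) * (∑ j : J, (m i.1 j.1 : ℝ) ^ 2 - 1) ≤ (deg i.1 : ℝ) ^ 2 := by
      have h3 : (deg i.1 : ℝ) ^ 2 / (h * e) - (deg i.1 : ℝ) ^ 2 / (h * e * (h + 1)) =
          (deg i.1 : ℝ) ^ 2 / (e * (h + 1)) := by
        field_simp
        ring
      have h4 : ∑ j : J, (m i.1 j.1 : ℝ) ^ 2 - 1 ≤ (deg i.1 : ℝ) ^ 2 / (e * (h + 1)) := by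
        rw [← h3]
        linarith
      rw [le_div_iff₀ (by positivity)] at h4
      linarith
    exact_mod_cast h2
  have hclass : Nat.card {y : G // IsConj t y} = e * h := by
    rw [← hinv]
    refine Nat.card_congr (Equiv.subtypeEquivRight (fun y => ⟨fun h1 => ?_, hconj y⟩))
    obtain ⟨c, hc⟩ := isConj_iff.1 h1
    rw [← hc, ← ht]
    have h2 : c * t * c⁻¹ = MulAut.conj c t := by simp
    rw [h2, MulEquiv.orderOf_eq]
  have hmain := FeitOddComb.main (I := I) (J := J) e h p s g (by omega) (by omega) hp hs hs0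
    (fun i j => (m i.1 j.1 : ℤ)) (fun i j => Int.natCast_nonneg _) (fun j => (d j : ℤ)) hdp
    (fun i => ν i.1) (fun i => x i.1) (fun i => (deg i.1 : ℤ)) (fun i => hν i.1) σ τ haστ hdτ
    hτne hττ hνσ hνσ' hG (fun j => by rw [hFS0, hVg]) hT0 hT1 hdeg
    (fun i => Int.natCast_pos.2 (hdegpos i.1)) (fun i => hxpar i.1 _ (hdeg1 i.1))
    (fun i => by
      have h1 := FeitOddAux.degree_dvd_card_mul i.1.2 (hdeg1 i.1) hclass (hx i.1)
      push_cast at h1
      exact h1)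
    (fun i => by
      have h1 := PermutationGroups.ExceptionalDegree.irr_degree_dvd i.1.2 (hdeg1 i.1)
      rw [hGcard] at h1
      have h2 : ((deg i.1 : ℕ) : ℤ) ∣ ((h * e * (h + 1) : ℕ) : ℤ) := by exact_mod_cast h1
      push_cast at h2
      rwa [mul_comm (h : ℤ) e] at h2) hnorm hsumd hsize'
  omega

theorem odd_false {G : Type*} [Group G] [Fintype G] (K : Subgroup G)
    (hTI : ∀ g : G, g ∉ Subgroup.normalizer (K : Set G) → ∀ k ∈ K, g * k * g⁻¹ ∈ K → k = 1)
    (hlt : K < Subgroup.normalizer (K : Set G))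
    (hC : ∀ k ∈ K, k ≠ 1 → Subgroup.centralizer ({k} : Set G) ≤ K)
    [Fintype (Subgroup.normalizer (K : Set G))]
    (h e : ℕ) (hh : Nat.card K = h)
    (he : (K.subgroupOf (Subgroup.normalizer (K : Set G))).index = e)
    (hN : (Subgroup.normalizer (K : Set G)).index = h + 1)
    (hcomm : ∀ x ∈ Subgroup.normalizer (K : Set G), ∀ y ∈ Subgroup.normalizer (K : Set G),
      x * y * x⁻¹ * y⁻¹ ∈ K)
    (he1 : 1 < e) (hlt2 : 2 * e + 1 < h)
    (hind : ∀ μ : Subgroup.normalizer (K : Set G) → ℂ,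
      Cfsg.IsCharacter (Subgroup.normalizer (K : Set G)) μ → μ 1 = 1 →
      (∀ u : Subgroup.normalizer (K : Set G), (u : G) ∈ K → μ u = 1) → μ ≠ (fun _ => 1) →
      Cfsg.IsIrrCharacter G (Cfsg.indFun (Subgroup.normalizer (K : Set G)) μ) ∧
        ∀ u ∈ K, u ≠ 1 → Cfsg.indFun (Subgroup.normalizer (K : Set G)) μ u = 1)
    (hSt : ∃ St : G → ℂ, Cfsg.IsIrrCharacter G St ∧
      Cfsg.indFun (Subgroup.normalizer (K : Set G)) (fun _ => 1) = 1 + St ∧
        ∀ u ∈ K, u ≠ 1 → St u = 0)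
    (hhodd : Odd h) (heodd : Odd e) (t : G) (ht : orderOf t = 2)
    (hconj : ∀ x : G, orderOf x = 2 → IsConj t x)
    (hinv : Nat.card {x : G // orderOf x = 2} = e * h)
    (p : ℕ) (hp : p.Prime) (hpK : IsPGroup p K)
    (hsize : (∃ x ∈ K, ∃ y ∈ K, x * y ≠ y * x) → (2 * e + 1) ^ 3 ≤ h) : False :=
  odd_false_aux K _ rfl hTI hlt hC h e hh he hN hcomm he1 hlt2 hind hSt hhodd heodd t ht hconj
    hinv p hp hpK hsize

end Cfsg.Agent.CharactersDeep.FeitOddAbs
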