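import Mathlib
import Cfsg.Agent.OddOrderCharacters.FeitCount
import Cfsg.Agent.CharDeep.TIFN
import Cfsg.Agent.SmallSimple.EvenOrder

/-!
# The order of a nonabelian kernel in the odd case of Feit's theorem

Let `K` be a nonabelian `p`-subgroup (`p` odd) of the simple group `G`, containing the centralizers
of its nonidentity elements, with normalizer `N`, `[N : K] = e` odd and `[G : N] = |K| + 1`. Then
`(2 e + 1) ^ 3 ≤ |K|`.
-/

set_option autoImplicit false

namespace Cfsg.Agent.CharactersDeep.FeitOddSize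

/-- The arithmetic: `p ^ (r₁ + r₂) ≡ 3 (mod 4)` and `e` dividing `p ^ r₁ - 1` and
`p ^ r₂ - 1`. -/
theorem arith {p e r₁ r₂ : ℕ} (hp : 1 < p) (hpodd : Odd p) (heodd : Odd e) (h1 : 0 < r₁)
    (h2 : 0 < r₂) (he1 : e ∣ p ^ r₁ - 1) (he2 : e ∣ p ^ r₂ - 1)
    (h4 : 4 ∣ p ^ (r₁ + r₂) + 1) : (2 * e + 1) ^ 3 ≤ p ^ (r₁ + r₂) := by
  have hsodd : Odd (r₁ + r₂) := by
    by_contra hne
    rw [Nat.not_odd_iff_even] at hne
    obtain ⟨m, hm⟩ := hne
    obtain ⟨c, hc⟩ := hpodd.pow (n := m)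
    rw [hm, pow_add, hc] at h4
    have h5 : (2 * c + 1) * (2 * c + 1) + 1 = 4 * (c * c + c) + 2 := by ring
    rw [h5] at h4
    omega
  set g := Nat.gcd r₁ r₂ with hg
  have hg0 : 0 < g := Nat.gcd_pos_of_pos_left _ h1
  have heg : e ∣ p ^ g - 1 := by
    rw [hg, ← Nat.pow_sub_one_gcd_pow_sub_one]
    exact Nat.dvd_gcd he1 he2
  have hpg : 1 < p ^ g := Nat.one_lt_pow hg0.ne' hp
  have h2g : 2 ∣ p ^ g - 1 := by
    obtain ⟨c, hc⟩ := hpodd.pow (n := g)
    rw [hc]
    omega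
  have h2e : 2 * e ∣ p ^ g - 1 :=
    Nat.Coprime.mul_dvd_of_dvd_of_dvd (Nat.coprime_two_left.2 heodd) h2g heg
  have hle : 2 * e + 1 ≤ p ^ g := by
    have := Nat.le_of_dvd (by omega) h2e
    omega
  obtain ⟨a, ha⟩ : g ∣ r₁ := Nat.gcd_dvd_left _ _
  obtain ⟨b, hb⟩ : g ∣ r₂ := Nat.gcd_dvd_right _ _
  have ha0 : 0 < a := by
    rcases Nat.eq_zero_or_pos a with h | h
    · rw [h, mul_zero] at ha; omega
    · exact h
  have hb0 : 0 < b := by
    rcases Nat.eq_zero_or_pos b with h | h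
    · rw [h, mul_zero] at hb; omega
    · exact h
  have hab : r₁ + r₂ = g * (a + b) := by rw [mul_add, ← ha, ← hb]
  have habodd : Odd (a + b) := by
    rw [hab] at hsodd
    exact (Nat.odd_mul.1 hsodd).2
  have hab3 : 3 ≤ a + b := by
    obtain ⟨c, hc⟩ := habodd
    omega
  rw [hab, pow_mul]
  exact (Nat.pow_le_pow_left hle 3).trans (Nat.pow_le_pow_right (by omega) hab3)

theorem le_card {G : Type*} [Group G] [Finite G] [IsSimpleGroup G] (K : Subgroup G) (p : ℕ)
    [hp : Fact p.Prime] (hp2 : p ≠ 2) (hKp : IsPGroup p K)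
    (hC : ∀ k ∈ K, k ≠ 1 → Subgroup.centralizer ({k} : Set G) ≤ K) (e h : ℕ)
    (he : (K.subgroupOf (Subgroup.normalizer (K : Set G))).index = e) (hh : Nat.card K = h)
    (hidx : (Subgroup.normalizer (K : Set G)).index = h + 1) (hodd : Odd e)
    (hnc : ∃ x ∈ K, ∃ y ∈ K, x * y ≠ y * x) : (2 * e + 1) ^ 3 ≤ h := by
  classical
  have hpodd : Odd p := hp.out.odd_of_ne_two hp2
  set N : Subgroup G := Subgroup.normalizer (K : Set G) with hNdef
  have hKN : K ≤ N := Subgroup.le_normalizer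
  have _ : Fintype N := Fintype.ofFinite _
  set H : Subgroup N := K.subgroupOf N with hHdef
  have hHn : H.Normal := Subgroup.normal_in_normalizer
  have hHcard : Nat.card H = h := by
    rw [← hh]
    exact Nat.card_congr (Subgroup.subgroupOfEquivOfLe hKN).toEquiv
  have hNcard : Nat.card N = h * e := by
    rw [← H.card_mul_index, hHcard, he]
  have hGcard : Nat.card G = (h * e) * (h + 1) := by
    rw [← N.card_mul_index, hNcard, hidx]
  have hCH : ∀ k ∈ H, k ≠ 1 → Subgroup.centralizer ({k} : Set N) ≤ H := by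
    intro k hk hk1 g hg
    rw [Subgroup.mem_centralizer_singleton_iff] at hg
    exact Cfsg.Agent.CharDeep.TIFN.centralizer_subgroupOf K hC k hk hk1 g hg
  have hHp : IsPGroup p H := hKp.of_equiv (Subgroup.subgroupOfEquivOfLe hKN).symm
  obtain ⟨x, hx, y, hy, hxy⟩ := hnc
  have hxyH : (⟨⟨x, hKN hx⟩, hx⟩ : H) * ⟨⟨y, hKN hy⟩, hy⟩ ≠ ⟨⟨y, hKN hy⟩, hy⟩ * ⟨⟨x, hKN hx⟩, hx⟩ := by
    intro h1
    apply hxy
    exact congrArg (fun z : H => ((z : N) : G)) h1
  set A : Subgroup N := ⁅H, H⁆ with hAdef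
  have hAn : A.Normal := Subgroup.commutator_normal H H
  have hAH : A ≤ H := Subgroup.commutator_le_left H H
  have hA1 : A ≠ ⊥ := by
    intro h1
    rw [hAdef, Subgroup.commutator_eq_bot_iff_le_centralizer] at h1
    apply hxyH
    apply Subtype.ext
    exact ((Subgroup.mem_centralizer_iff.1 (h1 (⟨⟨y, hKN hy⟩, hy⟩ : H).2)) _
      (⟨⟨x, hKN hx⟩, hx⟩ : H).2)
  have hnil : Group.IsNilpotent H := hHp.isNilpotent
  have hnt : Nontrivial H := ⟨⟨⟨x, hKN hx⟩, hx⟩, ⟨⟨y, hKN hy⟩, hy⟩, fun h1 => hxyH (by rw [h1])⟩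
  have hAne : A ≠ H := by
    intro h1
    have hsol : Group.IsSolvable H := inferInstance
    have h2 := (Group.IsSolvable.commutator_lt_top_of_nontrivial H).ne
    apply h2
    apply Subgroup.map_injective H.subtype_injective
    rw [commutator_def, Subgroup.map_commutator, ← MonoidHom.range_eq_map, Subgroup.range_subtype]
    exact h1
  -- the orders
  obtain ⟨r₂, hr₂⟩ := (hHp.to_le hAH).exists_card_eq
  obtain ⟨s, hs⟩ := hHp.exists_card_eq
  have hmul : Nat.card A * A.relIndex H = Nat.card H := by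
    have := Subgroup.relIndex_mul_relIndex ⊥ A H bot_le hAH
    rwa [Subgroup.relIndex_bot_left, Subgroup.relIndex_bot_left] at this
  have hrdvd : A.relIndex H ∣ p ^ s := ⟨Nat.card A, by rw [mul_comm, hmul, hs]⟩
  obtain ⟨r₁, -, hr₁⟩ := (Nat.dvd_prime_pow hp.out).1 hrdvd
  have hr₁0 : 0 < r₁ := by
    rcases Nat.eq_zero_or_pos r₁ with h1 | h1
    · rw [h1, pow_zero, Subgroup.relIndex_eq_one] at hr₁
      exact absurd (le_antisymm hAH hr₁) hAne
    · exact h1
  have hr₂0 : 0 < r₂ := by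
    rcases Nat.eq_zero_or_pos r₂ with h1 | h1
    · rw [h1, pow_zero] at hr₂
      exact absurd (Subgroup.card_eq_one.1 hr₂) hA1
    · exact h1
  have hhp : h = p ^ (r₁ + r₂) := by
    rw [← hHcard, ← hmul, hr₂, hr₁, ← pow_add, add_comm]
  have he1 : e ∣ p ^ r₁ - 1 := by
    have := OddOrderCharacters.FeitCount.index_dvd_relIndex_sub_one H hCH A hAH
    rwa [he, hr₁] at this
  have he2 : e ∣ p ^ r₂ - 1 := by
    have := OddOrderCharacters.FeitCount.index_dvd_relIndex_sub_one' H hCH ⊥ A bot_le hAH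
    rwa [he, Subgroup.relIndex_bot_left, hr₂] at this
  -- the order of `G` is divisible by four
  have hGnc : ¬ IsMulCommutative G := by
    intro h1
    exact hxy (h1.is_comm.comm x y)
  have hhodd : Odd h := by rw [hhp]; exact hpodd.pow
  have h2G : 2 ∣ Nat.card G := by
    rw [hGcard]
    exact Dvd.dvd.mul_left (by obtain ⟨c, hc⟩ := hhodd; omega) _
  have h4G : 4 ∣ Nat.card G := SmallSimple.EvenOrder.four_dvd_card hGnc h2G
  have h4 : 4 ∣ h + 1 := by
    rw [hGcard] at h4G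
    refine Nat.Coprime.dvd_of_dvd_mul_left ?_ h4G
    exact (Nat.Coprime.pow_left 2 (Nat.coprime_two_left.2 (hhodd.mul hodd)) : Nat.Coprime (2 ^ 2) _)
  rw [hhp] at h4 ⊢
  exact arith hp.out.one_lt hpodd hodd hr₁0 hr₂0 he1 he2 h4

end Cfsg.Agent.CharactersDeep.FeitOddSize
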