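import Cfsg.Agent.S0739
import Cfsg.Agent.PermutationGroups.ZassenhausBasic

/-!
# Simple Zassenhaus groups with two-point stabilisers of odd order

`G` a finite simple Zassenhaus group, `E = G_a ⊓ G_b` of odd order `e`.
* `isCyclic_two_point`, `centralizer_two_point`, `swap_inverts`: from S0739
* `orderOf_swap`: every element interchanging two points is an involution
* `involution_fix`: an involution fixes at most one point
* `isConj_of_orderOf_eq_two`: all involutions are conjugate
* `card_swaps`: exactly `e` involutions map `c` to `d` when `c ≠ d`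
-/

set_option autoImplicit false

namespace Cfsg.Agent.CharactersDeep.ZassenhausOdd

open Cfsg.Agent.PermutationGroups.ZassenhausBasic

variable {G Ω : Type*} [Group G] [MulAction G Ω]

/-- in a simple group of even order, there are no normal `q`-complements
for odd primes `q` dividing the order -/
theorem no_normal_complement [Finite G] [IsSimpleGroup G] {q : ℕ} (hq : q.Prime) (hq2 : q ≠ 2)
    (h2 : 2 ∣ Nat.card G) (hqd : q ∣ Nat.card G) :
    ¬ ∃ N : Subgroup G, N.Normal ∧ N.index = q ^ (Nat.card G).factorization q := by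
  rintro ⟨N, hN, hi⟩
  rcases hN.eq_bot_or_eq_top with h | h
  · rw [h, Subgroup.index_bot] at hi
    rw [hi] at h2
    have := Nat.Prime.dvd_of_dvd_pow Nat.prime_two h2
    exact hq2 ((Nat.prime_dvd_prime_iff_eq Nat.prime_two hq).mp this).symm
  · rw [h, Subgroup.index_top] at hi
    have h0 : (Nat.card G).factorization q ≠ 0 := by
      have := hq.factorization_pos_of_dvd (Nat.card_pos.ne') hqd
      omega
    have : 1 < q ^ (Nat.card G).factorization q := Nat.one_lt_pow h0 hq.one_lt
    omega

/-- the square of a swapping element fixes both points -/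
theorem swap_sq_mem {a b : Ω} {s : G} (hsa : s • a = b) (hsb : s • b = a) :
    s * s ∈ (MulAction.stabilizer G a ⊓ MulAction.stabilizer G b : Subgroup G) := by
  refine ⟨?_, ?_⟩
  · change (s * s) • a = a
    rw [mul_smul, hsa, hsb]
  · change (s * s) • b = b
    rw [mul_smul, hsb, hsa]

/-- a Zassenhaus group has even order -/
theorem two_dvd_card [Finite G] (hZ : Cfsg.IsZassenhausGroup G Ω) {a b : Ω} (hab : a ≠ b) :
    2 ∣ Nat.card G := by
  obtain ⟨s, hsa, hsb⟩ := exists_swap hZ hab
  set E : Subgroup G := MulAction.stabilizer G a ⊓ MulAction.stabilizer G b with hE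
  have hs2mem : s * s ∈ E := swap_sq_mem hsa hsb
  by_contra hcon
  have hoddG : Odd (Nat.card G) := by
    rw [← Nat.not_even_iff_odd, even_iff_two_dvd]; exact hcon
  have hords : Odd (orderOf s) := hoddG.of_dvd_nat (orderOf_dvd_natCard s)
  obtain ⟨k, hk⟩ := hords
  have h1 : s ^ (2 * k + 1) = 1 := by rw [← hk]; exact pow_orderOf_eq_one s
  have h2 : s ^ (2 * k + 1) ∈ E → False := by
    intro hmem
    have : s ∈ E := by
      have h3 : s ^ (2 * k + 1) = (s * s) ^ k * s := by
        rw [pow_succ, pow_mul, pow_two]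
      rw [h3] at hmem
      exact (Subgroup.mul_mem_cancel_left E (E.pow_mem hs2mem k)).mp hmem
    exact hab (hsa.symm.trans this.1 |>.symm)
  exact h2 (h1 ▸ E.one_mem)

section odd

variable [Finite G] [IsSimpleGroup G] (hZ : Cfsg.IsZassenhausGroup G Ω) {a b : Ω} (hab : a ≠ b)
  (hodd : Odd (Nat.card ↥(MulAction.stabilizer G a ⊓ MulAction.stabilizer G b : Subgroup G)))

include hZ hab hodd

theorem s0739 : IsCyclic ↥(MulAction.stabilizer G a ⊓ MulAction.stabilizer G b : Subgroup G) ∧
    Subgroup.centralizer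
      ((MulAction.stabilizer G a ⊓ MulAction.stabilizer G b : Subgroup G) : Set G) =
      MulAction.stabilizer G a ⊓ MulAction.stabilizer G b ∧
    ∀ s : G, s • a = b → s • b = a →
      ∀ h ∈ MulAction.stabilizer G a ⊓ MulAction.stabilizer G b, s * h * s⁻¹ = h⁻¹ := by
  classical
  have : Finite Ω := by
    have h2 := hZ.2.1
    have : MulAction.IsPretransitive G Ω := MulAction.isPretransitive_of_is_two_pretransitive
    exact Finite.of_surjective (fun g : G => g • a) (MulAction.surjective_smul G a)
  have : Fintype Ω := Fintype.ofFinite Ω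
  refine Cfsg.Agent.S0739.result hZ hab hodd ?_
  intro q hq hqd
  have hqG : q ∣ Nat.card G := hqd.trans (Subgroup.card_subgroup_dvd_card _)
  refine no_normal_complement hq ?_ (two_dvd_card hZ hab) hqG
  rintro rfl
  exact (Nat.not_even_iff_odd.mpr hodd) (even_iff_two_dvd.mpr hqd)

/-- the two-point stabiliser is cyclic -/
theorem isCyclic_two_point :
    IsCyclic ↥(MulAction.stabilizer G a ⊓ MulAction.stabilizer G b : Subgroup G) :=
  (s0739 hZ hab hodd).1

/-- the two-point stabiliser is self-centralising -/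
theorem centralizer_two_point :
    Subgroup.centralizer
      ((MulAction.stabilizer G a ⊓ MulAction.stabilizer G b : Subgroup G) : Set G) =
      MulAction.stabilizer G a ⊓ MulAction.stabilizer G b :=
  (s0739 hZ hab hodd).2.1

/-- swapping elements invert the two-point stabiliser -/
theorem swap_inverts {s : G} (hsa : s • a = b) (hsb : s • b = a) {x : G}
    (hxa : x • a = a) (hxb : x • b = b) : s * x * s⁻¹ = x⁻¹ :=
  (s0739 hZ hab hodd).2.2 s hsa hsb x ⟨hxa, hxb⟩

omit hZ hab [Finite G] [IsSimpleGroup G] in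
/-- elements of the two-point stabiliser with trivial square are trivial -/
theorem eq_one_of_mul_self {x : G} (hxa : x • a = a) (hxb : x • b = b) (hxx : x * x = 1) :
    x = 1 := by
  set E : Subgroup G := MulAction.stabilizer G a ⊓ MulAction.stabilizer G b with hE
  have hx : x ∈ E := ⟨hxa, hxb⟩
  obtain ⟨k, hk⟩ := hodd
  have h1 : x ^ Nat.card E = 1 := by
    have := pow_card_eq_one' (x := (⟨x, hx⟩ : E))
    exact congrArg Subtype.val this
  rw [hk, pow_succ, pow_mul, pow_two, hxx, one_pow, one_mul] at h1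
  exact h1

omit [Finite G] [IsSimpleGroup G] in
/-- an involution fixes at most one point -/
theorem involution_fix {x : G} (hx : orderOf x = 2) {c d : Ω} (hxc : x • c = c)
    (hxd : x • d = d) : c = d := by
  by_contra hcd
  obtain ⟨g, hga, hgb⟩ := exists_smul_eq hZ hab hcd
  have hxx : x * x = 1 := by rw [← pow_two, ← hx]; exact pow_orderOf_eq_one x
  have h1 : g⁻¹ * x * g = 1 := eq_one_of_mul_self (a := a) (b := b) hodd (by
      rw [mul_smul, mul_smul, hga, hxc, inv_smul_eq_iff, hga]) (by
      rw [mul_smul, mul_smul, hgb, hxd, inv_smul_eq_iff, hgb]) (by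
      have : g⁻¹ * x * g * (g⁻¹ * x * g) = g⁻¹ * (x * x) * g := by group
      rw [this, hxx]; group)
  have h2 : x = 1 := by
    have : x = g * (g⁻¹ * x * g) * g⁻¹ := by group
    rw [this, h1]; group
  rw [h2, orderOf_one] at hx
  omega

/-- every element swapping `a` and `b` is an involution -/
theorem orderOf_swap {x : G} (hxa : x • a = b) (hxb : x • b = a) : orderOf x = 2 := by
  have hxx := swap_sq_mem hxa hxb
  have h1 := swap_inverts hZ hab hodd hxa hxb hxx.1 hxx.2
  have h2 : x * x = (x * x)⁻¹ := by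
    rw [← h1]; group
  have h3 : (x * x) * (x * x) = 1 := by
    nth_rewrite 1 [h2]; group
  have h4 := eq_one_of_mul_self (a := a) (b := b) hodd hxx.1 hxx.2 h3
  have h5 : x ≠ 1 := by
    rintro rfl
    rw [one_smul] at hxa
    exact hab hxa
  exact orderOf_eq_prime (by rw [pow_two]; exact h4) h5

/-- every element swapping two distinct points `c`, `d` is an involution -/
theorem orderOf_swap' {c d : Ω} (hcd : c ≠ d) {x : G} (hxc : x • c = d) (hxd : x • d = c) :
    orderOf x = 2 := by
  obtain ⟨g, hga, hgb⟩ := exists_smul_eq hZ hab hcd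
  have h1 : orderOf (g⁻¹ * x * g) = 2 := by
    apply orderOf_swap hZ hab hodd
    · rw [mul_smul, mul_smul, hga, hxc, inv_smul_eq_iff, hgb]
    · rw [mul_smul, mul_smul, hgb, hxd, inv_smul_eq_iff, hga]
  rw [← h1]
  have := orderOf_injective (MulAut.conj g⁻¹).toMonoidHom (MulAut.conj g⁻¹).injective x
  simpa using this.symm

omit hZ hab hodd [Finite G] [IsSimpleGroup G] in
/-- an involution moving `c` to `d` moves `d` to `c` -/
theorem swap_of_orderOf {x : G} (hx : orderOf x = 2) {c d : Ω} (hxc : x • c = d) :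
    x • d = c := by
  have hxx : x * x = 1 := by rw [← pow_two, ← hx]; exact pow_orderOf_eq_one x
  rw [← hxc, ← mul_smul, hxx, one_smul]

/-- any two elements swapping `a` and `b` are conjugate by an element of `G_{a,b}` -/
theorem exists_conj_swap {s x : G} (hsa : s • a = b) (hsb : s • b = a) (hxa : x • a = b)
    (hxb : x • b = a) : ∃ g : G, g • a = a ∧ g • b = b ∧ g * s * g⁻¹ = x := by
  set E : Subgroup G := MulAction.stabilizer G a ⊓ MulAction.stabilizer G b with hE
  have hmem : s⁻¹ * x ∈ E := by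
    refine ⟨?_, ?_⟩
    · change (s⁻¹ * x) • a = a
      rw [mul_smul, hxa, inv_smul_eq_iff, hsa]
    · change (s⁻¹ * x) • b = b
      rw [mul_smul, hxb, inv_smul_eq_iff, hsb]
  obtain ⟨k, hk⟩ := id hodd
  set t := s⁻¹ * x with ht
  -- t = r * r with r = t ^ (k + 1)
  have hr : t ^ (k + 1) * t ^ (k + 1) = t := by
    rw [← pow_add]
    have : k + 1 + (k + 1) = Nat.card E + 1 := by omega
    have h1 : t ^ Nat.card E = 1 := by
      have := pow_card_eq_one' (x := (⟨t, hmem⟩ : E))
      exact congrArg Subtype.val this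
    rw [this, pow_succ, h1, one_mul]
  have hrmem : t ^ (k + 1) ∈ E := E.pow_mem hmem _
  refine ⟨(t ^ (k + 1))⁻¹, (E.inv_mem hrmem).1, (E.inv_mem hrmem).2, ?_⟩
  have h2 : x = s * t := by rw [ht]; group
  have h3 : (t ^ (k + 1))⁻¹ * s = s * t ^ (k + 1) := by
    have h4 := swap_inverts hZ hab hodd hsa hsb hrmem.1 hrmem.2
    -- s r s⁻¹ = r⁻¹
    rw [← h4]; group
  rw [inv_inv, h3, mul_assoc, hr, h2]

omit hodd [IsSimpleGroup G] in
/-- an involution moves a point, if its number of fixed points is at most one -/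
theorem exists_moved (hodd : Odd (Nat.card
    ↥(MulAction.stabilizer G a ⊓ MulAction.stabilizer G b : Subgroup G)))
    {x : G} (hx : orderOf x = 2) : ∃ c : Ω, x • c ≠ c := by
  by_contra hcon
  push Not at hcon
  exact hab (involution_fix hZ hab hodd hx (hcon a) (hcon b))

/-- any involution is conjugate to any element swapping `a` and `b` -/
theorem isConj_swap_of_orderOf {s : G} (hsa : s • a = b) (hsb : s • b = a) {x : G}
    (hx : orderOf x = 2) : IsConj s x := by
  obtain ⟨c, hc⟩ := exists_moved hZ hab hodd hx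
  obtain ⟨g, hga, hgb⟩ := exists_smul_eq hZ hab (Ne.symm hc)
  have hxd : x • (x • c) = c := swap_of_orderOf hx rfl
  obtain ⟨k, -, -, hk⟩ := exists_conj_swap hZ hab hodd hsa hsb (x := g⁻¹ * x * g)
    (by rw [mul_smul, mul_smul, hga, inv_smul_eq_iff, hgb])
    (by rw [mul_smul, mul_smul, hgb, hxd, inv_smul_eq_iff, hga])
  refine isConj_iff.mpr ⟨g * k, ?_⟩
  calc g * k * s * (g * k)⁻¹ = g * (k * s * k⁻¹) * g⁻¹ := by group
    _ = g * (g⁻¹ * x * g) * g⁻¹ := by rw [hk]
    _ = x := by group

/-- all involutions are conjugate -/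
theorem isConj_of_orderOf_eq_two {x y : G} (hx : orderOf x = 2) (hy : orderOf y = 2) :
    IsConj x y := by
  obtain ⟨s, hsa, hsb⟩ := exists_swap hZ hab
  exact (isConj_swap_of_orderOf hZ hab hodd hsa hsb hx).symm.trans
    (isConj_swap_of_orderOf hZ hab hodd hsa hsb hy)

/-- exactly `e` involutions map `c` to `d` if `c ≠ d` -/
theorem card_swaps {c d : Ω} (hcd : c ≠ d) :
    Nat.card {x : G // orderOf x = 2 ∧ x • c = d} =
      Nat.card ↥(MulAction.stabilizer G a ⊓ MulAction.stabilizer G b : Subgroup G) := by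
  obtain ⟨s, hsa, hsb⟩ := exists_swap hZ hab
  obtain ⟨g, hga, hgb⟩ := exists_smul_eq hZ hab hcd
  symm
  refine Nat.card_congr ⟨fun k => ⟨g * (s * k) * g⁻¹, ?_, ?_⟩,
    fun x => ⟨s⁻¹ * (g⁻¹ * x * g), ?_⟩, ?_, ?_⟩
  · have hg' : g⁻¹ • c = a := by rw [inv_smul_eq_iff, hga]
    have hg'' : g⁻¹ • d = b := by rw [inv_smul_eq_iff, hgb]
    apply orderOf_swap' hZ hab hodd hcd
    · rw [mul_smul, mul_smul, mul_smul, hg', show (k : G) • a = a from k.2.1, hsa, hgb]
    · rw [mul_smul, mul_smul, mul_smul, hg'', show (k : G) • b = b from k.2.2, hsb, hga]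
  · have hg' : g⁻¹ • c = a := by rw [inv_smul_eq_iff, hga]
    rw [mul_smul, mul_smul, mul_smul, hg', show (k : G) • a = a from k.2.1, hsa, hgb]
  · have hx1 := x.2.2
    have hx2 := swap_of_orderOf x.2.1 hx1
    refine ⟨?_, ?_⟩
    · change (s⁻¹ * (g⁻¹ * (x : G) * g)) • a = a
      rw [mul_smul, mul_smul, mul_smul, hga, hx1, inv_smul_eq_iff, inv_smul_eq_iff, hsa, hgb]
    · change (s⁻¹ * (g⁻¹ * (x : G) * g)) • b = b
      rw [mul_smul, mul_smul, mul_smul, hgb, hx2, inv_smul_eq_iff, inv_smul_eq_iff, hsb, hga]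
  · intro k
    apply Subtype.ext
    simp only
    group
  · intro x
    apply Subtype.ext
    simp only
    group

end odd

end Cfsg.Agent.CharactersDeep.ZassenhausOdd
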