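import Mathlib
import Cfsg.Prelude.Def_Characters
import Cfsg.Agent.Characters.Core
import Cfsg.Agent.Characters.Linear
import Cfsg.Agent.OddOrderCharacters.Clifford
import Cfsg.Agent.S0148

/-!
# Mackey's irreducibility criterion for linear characters

`isIrrCharacter_indFun` : if for every `x ∉ T` the linear characters `f` and `f^x` of `T` differ
somewhere on `T ∩ x T x⁻¹`, then `f` induces irreducibly.
-/

set_option autoImplicit false

open scoped ComplexConjugate
open Cfsg

namespace Cfsg.Agent.CharactersDeep.MackeyLinear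

open Cfsg.Agent.OddOrderCharacters.Clifford

universe u

variable {G : Type u} [Group G]

/-- values of linear characters of finite groups have norm one -/
theorem mul_conj_hom {T : Type*} [Group T] [Finite T] (f : T →* ℂˣ) (t : T) :
    (f t : ℂ) * conj (f t : ℂ) = 1 := by
  have h1 : ((f t : ℂˣ) : ℂ) ^ Nat.card T = 1 := by
    rw [← Units.val_pow_eq_pow_val, ← map_pow, pow_card_eq_one', map_one, Units.val_one]
  have h2 : ‖((f t : ℂˣ) : ℂ)‖ = 1 := Complex.norm_eq_one_of_pow_eq_one h1 Nat.card_pos.ne'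
  rw [Complex.mul_conj, Complex.normSq_eq_norm_sq, h2]
  norm_num

/-- the twist of a linear character with itself vanishes if it differs from its conjugate -/
theorem twist_eq_zero [Finite G] (T : Subgroup G) [Fintype T] (f : T →* ℂˣ) (x : G)
    (h : ∃ (t : T) (hx : x⁻¹ * t * x ∈ T), f t ≠ f ⟨x⁻¹ * t * x, hx⟩) :
    twist T (fun t => (f t : ℂ)) (fun t => (f t : ℂ)) x = 0 := by
  classical
  obtain ⟨t₀, ht₀, hne⟩ := h
  have hT : Finite T := inferInstance
  rw [twist_def]
  set F : T → ℂ := fun t => (f t : ℂ) * conj (extendByZero T (fun t => (f t : ℂ)) (x⁻¹ * t * x))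
    with hF
  set c : ℂ := (f t₀ : ℂ) * conj (f ⟨x⁻¹ * t₀ * x, ht₀⟩ : ℂ) with hc
  have hmul : ∀ t : T, F (t₀ * t) = c * F t := by
    intro t
    simp only [hF, hc]
    by_cases ht : x⁻¹ * (t : G) * x ∈ T
    · have hprod : x⁻¹ * ((t₀ * t : T) : G) * x ∈ T := by
        have : x⁻¹ * ((t₀ * t : T) : G) * x = (x⁻¹ * (t₀ : G) * x) * (x⁻¹ * (t : G) * x) := by
          simp [mul_assoc]
        rw [this]
        exact T.mul_mem ht₀ ht
      rw [ext_apply_mem T _ _ hprod, ext_apply_mem T _ _ ht]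
      have hf : f ⟨x⁻¹ * ((t₀ * t : T) : G) * x, hprod⟩ =
          f ⟨x⁻¹ * (t₀ : G) * x, ht₀⟩ * f ⟨x⁻¹ * (t : G) * x, ht⟩ := by
        rw [← map_mul]
        congr 1
        apply Subtype.ext
        simp [mul_assoc]
      rw [hf, map_mul, Units.val_mul, Units.val_mul, map_mul]
      ring
    · have hprod : x⁻¹ * ((t₀ * t : T) : G) * x ∉ T := by
        intro h
        apply ht
        have : x⁻¹ * (t : G) * x = (x⁻¹ * (t₀ : G) * x)⁻¹ * (x⁻¹ * ((t₀ * t : T) : G) * x) := by
          simp [mul_assoc]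
        rw [this]
        exact T.mul_mem (T.inv_mem ht₀) h
      rw [ext_apply_not_mem T _ _ hprod, ext_apply_not_mem T _ _ ht, map_zero, mul_zero, mul_zero,
        mul_zero]
  have hsum : ∑ t : T, F t = c * ∑ t : T, F t := by
    calc ∑ t : T, F t = ∑ t : T, F (t₀ * t) :=
          (Fintype.sum_equiv (Equiv.mulLeft t₀) _ _ (fun t => rfl)).symm
      _ = ∑ t : T, c * F t := Finset.sum_congr rfl fun t _ => hmul t
      _ = c * ∑ t : T, F t := by rw [Finset.mul_sum]
  have hc1 : c ≠ 1 := by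
    intro h
    apply hne
    apply Units.ext
    have h2 := mul_conj_hom f ⟨x⁻¹ * t₀ * x, ht₀⟩
    have h3 : (conj (f ⟨x⁻¹ * t₀ * x, ht₀⟩ : ℂ)) ≠ 0 := by
      intro h0
      rw [h0, mul_zero] at h2
      exact zero_ne_one h2
    apply mul_right_cancel₀ h3
    rw [h2]
    exact h
  have h4 : (1 - c) * ∑ t : T, F t = 0 := by
    rw [sub_mul, one_mul, ← hsum, sub_self]
  rcases mul_eq_zero.mp h4 with h5 | h5
  · exact absurd (sub_eq_zero.mp h5).symm hc1
  · exact h5

/-- **Mackey's irreducibility criterion** for linear characters. -/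
theorem isIrrCharacter_indFun [Fintype G] (T : Subgroup G) (f : T →* ℂˣ)
    (h : ∀ x : G, x ∉ T → ∃ (t : T) (hx : x⁻¹ * t * x ∈ T), f t ≠ f ⟨x⁻¹ * t * x, hx⟩) :
    IsIrrCharacter G (indFun T (fun t => (f t : ℂ))) := by
  classical
  have : Fintype T := Fintype.ofFinite T
  have hchar : IsCharacter T (fun t => (f t : ℂ)) :=
    Cfsg.Agent.Characters.Linear.isCharacter_hom f
  have hirr : IsIrrCharacter T (fun t => (f t : ℂ)) :=
    Cfsg.Agent.Characters.Linear.isIrrCharacter_hom f
  rw [Cfsg.Agent.Characters.Core.isIrr_iff_classInner_self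
    (Cfsg.Agent.S0148.result T _ hchar)]
  rw [classInner_indFun_eq T _ _ (Cfsg.Agent.Characters.Core.isIrr_isClassFunction hirr)
    (fun x hx => twist_eq_zero T f x (h x hx))]
  exact Cfsg.Agent.Characters.Core.classInner_irr_self hirr

end Cfsg.Agent.CharactersDeep.MackeyLinear
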