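import Mathlib
import Cfsg.Prelude.Def_LieExceptional
import Cfsg.Agent.PermutationGroups.ZassenhausBasic

/-!
# Counting fixed points in Zassenhaus groups

`G` a finite Zassenhaus group on `Ω`, `n = |Ω|`, `e = |G_{a,b}|`.
* `card_eq`: `|G| = n (n - 1) e`
* `sum_fix`: `∑ g, f(g) = |G|`, `sum_fix_desc`: `∑ g, f(g)(f(g)-1) = |G|`
* `two_mul_card_fixedPointFree`: `2 * #{g | g fixes no point} + (n-1)(n-2) = |G|`
-/

set_option autoImplicit false

open scoped Pointwise

namespace Cfsg.Agent.CharactersDeep.ZassenhausCount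

open Cfsg.Agent.PermutationGroups.ZassenhausBasic

variable {G Ω : Type*} [Group G] [MulAction G Ω]

/-- the order of a Zassenhaus group: `|G| = n (n-1) e` -/
theorem card_eq [Finite G] [Finite Ω] (hZ : Cfsg.IsZassenhausGroup G Ω) {a b : Ω} (hab : a ≠ b) :
    Nat.card G = Nat.card Ω * (Nat.card Ω - 1) *
      Nat.card ↥(MulAction.stabilizer G a ⊓ MulAction.stabilizer G b : Subgroup G) := by
  classical
  have := Fintype.ofFinite G
  have := Fintype.ofFinite Ω
  have h2 := hZ.2.1
  have hpt : MulAction.IsPretransitive G (Fin 2 ↪ Ω) := h2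
  let x : Fin 2 ↪ Ω := ⟨![a, b], by
    intro i j hij
    fin_cases i <;> fin_cases j <;> simp_all [Ne.symm hab]⟩
  have h := MulAction.card_orbit_mul_card_stabilizer_eq_card_group G x
  have hstab : MulAction.stabilizer G x =
      (MulAction.stabilizer G a ⊓ MulAction.stabilizer G b : Subgroup G) := by
    ext g
    rw [MulAction.mem_stabilizer_iff, Subgroup.mem_inf, MulAction.mem_stabilizer_iff,
      MulAction.mem_stabilizer_iff]
    constructor
    · intro hg
      have h0 := DFunLike.congr_fun hg 0
      have h1 := DFunLike.congr_fun hg 1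
      exact ⟨h0, h1⟩
    · rintro ⟨h0, h1⟩
      ext i
      fin_cases i
      · exact h0
      · exact h1
  have horb : Fintype.card (MulAction.orbit G x) = Nat.card Ω * (Nat.card Ω - 1) := by
    have : MulAction.orbit G x = Set.univ := MulAction.orbit_eq_univ G x
    rw [← Nat.card_eq_fintype_card, this, Nat.card_univ, Nat.card_eq_fintype_card,
      Fintype.card_embedding_eq, Fintype.card_fin]
    simp [Nat.descFactorial, mul_comm]
  rw [Nat.card_eq_fintype_card (α := G), ← h, horb, ← hstab]
  congr 1
  exact Nat.card_eq_fintype_card.symm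

/-- Burnside's lemma for a transitive action -/
theorem sum_fix {X : Type*} [MulAction G X] [Fintype G] [Finite X] [Nonempty X]
    (h : MulAction.IsPretransitive G X) :
    ∑ g : G, Nat.card (MulAction.fixedBy X g) = Nat.card G := by
  classical
  have := Fintype.ofFinite X
  have hb := MulAction.sum_card_fixedBy_eq_card_orbits_mul_card_group G X
  have h1 : Fintype.card (Quotient (MulAction.orbitRel G X)) = 1 := by
    rw [Fintype.card_eq_one_iff_nonempty_unique]
    have := (MulAction.pretransitive_iff_unique_quotient_of_nonempty G X).mp h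
    exact this
  rw [h1, one_mul] at hb
  rw [Nat.card_eq_fintype_card, ← hb]
  refine Finset.sum_congr rfl fun g _ => ?_
  exact Nat.card_eq_fintype_card

/-- fixed points on injective pairs -/
theorem card_fixedBy_embedding [Finite Ω] (g : G) :
    Nat.card (MulAction.fixedBy (Fin 2 ↪ Ω) g) =
      Nat.card (MulAction.fixedBy Ω g) * (Nat.card (MulAction.fixedBy Ω g) - 1) := by
  classical
  have := Fintype.ofFinite Ω
  let e : MulAction.fixedBy (Fin 2 ↪ Ω) g ≃ (Fin 2 ↪ MulAction.fixedBy Ω g) :=
    { toFun := fun x => ⟨fun i => ⟨x.1 i, by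
          have := DFunLike.congr_fun x.2 i
          exact this⟩, by
          intro i j hij
          exact x.1.injective (congrArg Subtype.val hij)⟩
      invFun := fun y => ⟨⟨fun i => (y i : Ω), by
          intro i j hij
          exact y.injective (Subtype.ext hij)⟩, by
          rw [MulAction.mem_fixedBy]
          ext i
          exact (y i).2⟩
      left_inv := fun x => by
        apply Subtype.ext; ext i; rfl
      right_inv := fun y => by
        ext i; rfl }
  rw [Nat.card_congr e, Nat.card_eq_fintype_card, Fintype.card_embedding_eq, Fintype.card_fin,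
    Nat.card_eq_fintype_card]
  simp [Nat.descFactorial, mul_comm]

/-- a nontrivial element of a Zassenhaus group has at most two fixed points -/
theorem card_fixedBy_le_two [Finite Ω] (hZ : Cfsg.IsZassenhausGroup G Ω) {g : G} (hg : g ≠ 1) :
    Nat.card (MulAction.fixedBy Ω g) ≤ 2 := by
  classical
  have := Fintype.ofFinite Ω
  by_contra h
  push Not at h
  rw [Nat.card_eq_fintype_card, Fintype.two_lt_card_iff] at h
  obtain ⟨a, b, c, hab, hac, hbc⟩ := h
  refine hg (eq_one_of_fix hZ (a := (a : Ω)) (b := b) (c := c) ?_ ?_ ?_ a.2 b.2 c.2)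
  · intro h; exact hab (Subtype.ext h)
  · intro h; exact hbc (Subtype.ext h)
  · intro h; exact hac (Subtype.ext h)

/-- twice the number of fixed point free elements is `|G| - (n-1)(n-2)` -/
theorem two_mul_card_fixedPointFree [Finite G] [Finite Ω] (hZ : Cfsg.IsZassenhausGroup G Ω) :
    2 * Nat.card {g : G // ∀ c : Ω, g • c ≠ c} + (Nat.card Ω - 1) * (Nat.card Ω - 2) =
      Nat.card G := by
  classical
  have := Fintype.ofFinite G
  have := Fintype.ofFinite Ω
  obtain ⟨g0, hg0, a, b, hab, -, -⟩ := hZ.2.2.2.1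
  obtain ⟨c, hca, hcb⟩ := exists_third hZ hab
  have h2 := hZ.2.1
  have hpt2 : MulAction.IsPretransitive G (Fin 2 ↪ Ω) := h2
  have hpt1 : MulAction.IsPretransitive G Ω := by
    refine ⟨fun x y => ?_⟩
    by_cases hxy : x = y
    · exact ⟨1, by rw [hxy, one_smul]⟩
    · obtain ⟨g, hg, -⟩ := exists_smul_eq hZ (a := x) (b := y) (c := y) (d := x) hxy (Ne.symm hxy)
      exact ⟨g, hg⟩
  have : Nonempty Ω := ⟨a⟩
  have : Nonempty (Fin 2 ↪ Ω) := ⟨⟨![a, b], by
    intro i j hij
    fin_cases i <;> fin_cases j <;> simp_all [Ne.symm hab]⟩⟩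
  have s1 := sum_fix (G := G) hpt1
  have s2 := sum_fix (G := G) hpt2
  simp_rw [card_fixedBy_embedding] at s2
  -- number of points at least three
  have hn : 3 ≤ Nat.card Ω := by
    rw [Nat.card_eq_fintype_card]
    exact Fintype.two_lt_card_iff.mpr ⟨a, b, c, hab, Ne.symm hca, Ne.symm hcb⟩
  -- pointwise identity
  have key : ∀ g : G, ((Nat.card (MulAction.fixedBy Ω g) *
        (Nat.card (MulAction.fixedBy Ω g) - 1) : ℕ) : ℤ) + 2 =
      2 * (Nat.card (MulAction.fixedBy Ω g) : ℤ) +
      (2 * (if (∀ c : Ω, g • c ≠ c) then (1 : ℤ) else 0) +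
        (if g = 1 then (((Nat.card Ω - 1) * (Nat.card Ω - 2) : ℕ) : ℤ) else 0)) := by
    intro g
    by_cases hg : g = 1
    · subst hg
      have hf : Nat.card (MulAction.fixedBy Ω (1 : G)) = Nat.card Ω := by
        rw [MulAction.fixedBy_one_eq_univ, Nat.card_univ]
      rw [hf, if_pos rfl, if_neg]
      · obtain ⟨m, hm⟩ : ∃ m, Nat.card Ω = m + 3 := ⟨Nat.card Ω - 3, by omega⟩
        rw [hm]
        have e1 : m + 3 - 1 = m + 2 := by omega
        have e2 : m + 3 - 2 = m + 1 := by omega
        rw [e1, e2]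
        push_cast
        ring
      · intro h
        exact h a (one_smul _ _)
    · rw [if_neg hg]
      have hle := card_fixedBy_le_two hZ hg
      by_cases hfree : ∀ c : Ω, g • c ≠ c
      · rw [if_pos hfree]
        have : Nat.card (MulAction.fixedBy Ω g) = 0 := by
          rw [Finite.card_eq_zero_iff]
          exact ⟨fun x => hfree x.1 x.2⟩
        rw [this]
        simp
      · rw [if_neg hfree]
        have hpos : 0 < Nat.card (MulAction.fixedBy Ω g) := by
          push Not at hfree
          obtain ⟨c, hc⟩ := hfree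
          have : Nonempty (MulAction.fixedBy Ω g) := ⟨⟨c, hc⟩⟩
          exact Nat.card_pos
        have : Nat.card (MulAction.fixedBy Ω g) = 1 ∨ Nat.card (MulAction.fixedBy Ω g) = 2 := by
          omega
        rcases this with h | h <;> rw [h] <;> norm_num
  have hsum := Finset.sum_congr (rfl : (Finset.univ : Finset G) = Finset.univ)
    (fun g _ => key g)
  rw [Finset.sum_add_distrib, Finset.sum_add_distrib, Finset.sum_add_distrib,
    ← Finset.mul_sum, ← Finset.mul_sum, Finset.sum_ite_eq' Finset.univ (1 : G),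
    if_pos (Finset.mem_univ _), Finset.sum_boole] at hsum
  have s1' : (∑ g : G, (Nat.card (MulAction.fixedBy Ω g) : ℤ)) = (Nat.card G : ℤ) := by
    exact_mod_cast s1
  have s2' : (∑ g : G, ((Nat.card (MulAction.fixedBy Ω g) *
        (Nat.card (MulAction.fixedBy Ω g) - 1) : ℕ) : ℤ)) = (Nat.card G : ℤ) := by
    exact_mod_cast s2
  rw [s1', s2'] at hsum
  have hc2 : ∑ _g : G, (2 : ℤ) = 2 * (Nat.card G : ℤ) := by
    rw [Finset.sum_const, Finset.card_univ, Nat.card_eq_fintype_card]
    simp [mul_comm]
  rw [hc2] at hsum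
  have hfc : ((Finset.univ.filter (fun g : G => ∀ c : Ω, g • c ≠ c)).card : ℤ) =
      (Nat.card {g : G // ∀ c : Ω, g • c ≠ c} : ℤ) := by
    rw [Nat.card_eq_fintype_card, Fintype.card_subtype]
  rw [hfc] at hsum
  have : (2 * (Nat.card {g : G // ∀ c : Ω, g • c ≠ c} : ℤ) +
      (((Nat.card Ω - 1) * (Nat.card Ω - 2) : ℕ) : ℤ)) = (Nat.card G : ℤ) := by
    linarith
  exact_mod_cast this

end Cfsg.Agent.CharactersDeep.ZassenhausCount
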