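import Mathlib
import Cfsg.Prelude.Def_LieExceptional
import Cfsg.Agent.CharactersDeep.Zassenhaus
import Cfsg.Agent.S0739

/-!
Simple Zassenhaus groups whose two-point stabilisers have odd order: order of the group, swapping
elements are involutions inverting the two-point stabiliser, numbers of swapping elements.
-/

set_option autoImplicit false

namespace Cfsg.Agent.CharactersDeep.ZassenhausInvol

open MulAction Cfsg.Agent.CharactersDeep.Zassenhaus

variable {G Ω : Type*} [Group G] [MulAction G Ω]

/-- index of the two-point stabiliser in the one-point stabiliser -/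
theorem index_two_subgroupOf [Finite G] [Fintype Ω] (hZ : Cfsg.IsZassenhausGroup G Ω) {a b : Ω}
    (hab : a ≠ b) :
    ((stabilizer G a ⊓ stabilizer G b).subgroupOf (stabilizer G a)).index + 1 = Fintype.card Ω := by
  classical
  have h1 : (stabilizer G a ⊓ stabilizer G b).subgroupOf (stabilizer G a) =
      stabilizer (stabilizer G a) b := by
    ext x
    simp only [Subgroup.mem_subgroupOf, Subgroup.mem_inf, SetLike.coe_mem, true_and]
    exact Iff.rfl
  rw [h1, index_stabilizer]
  have h2 : (orbit (stabilizer G a) b) = ({a} : Set Ω)ᶜ := by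
    ext c
    simp only [Set.mem_compl_iff, Set.mem_singleton_iff]
    constructor
    · rintro ⟨⟨g, hg⟩, rfl⟩ hc
      apply hab
      have hg' : g • a = a := hg
      have hc' : g • b = a := hc
      exact (MulAction.injective g (hc'.trans hg'.symm)).symm
    · intro hc
      obtain ⟨g, hga, hgb⟩ := exists_smul_pair hZ hab (Ne.symm hc)
      exact ⟨⟨g, hga⟩, hgb⟩
  rw [h2, Set.ncard_eq_toFinset_card', Set.toFinset_compl, Set.toFinset_singleton,
    Finset.card_compl, Finset.card_singleton]
  have := Fintype.card_pos_iff.mpr ⟨a⟩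
  omega

/-- the order of the point stabiliser -/
theorem card_stabilizer [Finite G] [Fintype Ω] (hZ : Cfsg.IsZassenhausGroup G Ω) {a b : Ω}
    (hab : a ≠ b) {h : ℕ} (hh : Fintype.card Ω = h + 1) :
    Nat.card (stabilizer G a) =
      h * Nat.card ↥(stabilizer G a ⊓ stabilizer G b : Subgroup G) := by
  have h1 := index_two_subgroupOf hZ hab
  have h2 := ((stabilizer G a ⊓ stabilizer G b).subgroupOf (stabilizer G a)).card_mul_index
  have h3 : Nat.card ((stabilizer G a ⊓ stabilizer G b).subgroupOf (stabilizer G a)) =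
      Nat.card ↥(stabilizer G a ⊓ stabilizer G b : Subgroup G) :=
    Nat.card_congr (Subgroup.subgroupOfEquivOfLe inf_le_left).toEquiv
  have h4 : ((stabilizer G a ⊓ stabilizer G b).subgroupOf (stabilizer G a)).index = h := by omega
  rw [h3, h4] at h2
  rw [← h2, mul_comm]

/-- the order of a Zassenhaus group -/
theorem card_group [Finite G] [Fintype Ω] (hZ : Cfsg.IsZassenhausGroup G Ω) {a b : Ω}
    (hab : a ≠ b) {h : ℕ} (hh : Fintype.card Ω = h + 1) :
    Nat.card G =
      (h + 1) * h * Nat.card ↥(stabilizer G a ⊓ stabilizer G b : Subgroup G) := by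
  have := isPretransitive hZ
  have h1 := index_stabilizer_of_transitive G a
  have h2 := (stabilizer G a).card_mul_index
  rw [h1, Nat.card_eq_fintype_card (α := Ω), hh, card_stabilizer hZ hab hh] at h2
  rw [← h2]
  ring

/-- all two-point stabilisers have the same order -/
theorem card_two_eq [Finite G] [Fintype Ω] (hZ : Cfsg.IsZassenhausGroup G Ω) {a b c d : Ω}
    (hab : a ≠ b) (hcd : c ≠ d) :
    Nat.card ↥(stabilizer G c ⊓ stabilizer G d : Subgroup G) =
      Nat.card ↥(stabilizer G a ⊓ stabilizer G b : Subgroup G) := by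
  have h3 := three_le_card hZ
  obtain ⟨h, hh⟩ : ∃ h, Fintype.card Ω = h + 1 := ⟨Fintype.card Ω - 1, by omega⟩
  have h1 := card_group hZ hab hh
  have h2 := card_group hZ hcd hh
  rw [h1] at h2
  have hpos : 0 < (h + 1) * h := by
    have : 0 < h := by omega
    positivity
  exact (Nat.eq_of_mul_eq_mul_left hpos h2).symm

theorem even_card [Finite G] [Fintype Ω] (hZ : Cfsg.IsZassenhausGroup G Ω) : 2 ∣ Nat.card G := by
  have h3 := three_le_card hZ
  obtain ⟨a⟩ : Nonempty Ω := Fintype.card_pos_iff.mp (by omega)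
  obtain ⟨b, hab⟩ := exists_ne hZ a
  obtain ⟨h, hh⟩ : ∃ h, Fintype.card Ω = h + 1 := ⟨Fintype.card Ω - 1, by omega⟩
  rw [card_group hZ hab hh]
  apply Dvd.dvd.mul_right
  rw [mul_comm]
  exact (Nat.even_mul_succ_self h).two_dvd

/-- a simple Zassenhaus group has no normal complements to Sylow subgroups of the two-point
stabiliser -/
theorem no_complement [Finite G] [Fintype Ω] [IsSimpleGroup G] (hZ : Cfsg.IsZassenhausGroup G Ω)
    {a b : Ω}
    (hodd : Odd (Nat.card ↥(stabilizer G a ⊓ stabilizer G b : Subgroup G))) :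
    ∀ q : ℕ, q.Prime → q ∣ Nat.card ↥(stabilizer G a ⊓ stabilizer G b : Subgroup G) →
      ¬ ∃ N : Subgroup G, N.Normal ∧ N.index = q ^ (Nat.card G).factorization q := by
  rintro q hq hqE ⟨N, hN, hidx⟩
  have hq2 : Odd q := hodd.of_dvd_nat hqE
  have hqG : q ∣ Nat.card G := hqE.trans (Subgroup.card_subgroup_dvd_card _)
  rcases hN.eq_bot_or_eq_top with h | h
  · rw [h, Subgroup.index_bot] at hidx
    have h2 := even_card hZ
    rw [hidx] at h2
    have h3 := Nat.prime_two.dvd_of_dvd_pow h2
    rcases hq2 with ⟨k, hk⟩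
    omega
  · rw [h, Subgroup.index_top] at hidx
    have h1 : 0 < (Nat.card G).factorization q :=
      hq.factorization_pos_of_dvd Nat.card_pos.ne' hqG
    have h2 := Nat.one_lt_pow h1.ne' hq.one_lt
    omega

section

variable [Finite G] [Fintype Ω] [IsSimpleGroup G] (hZ : Cfsg.IsZassenhausGroup G Ω)
  {a b : Ω} (hab : a ≠ b)
  (hodd : Odd (Nat.card ↥(stabilizer G a ⊓ stabilizer G b : Subgroup G)))

include hZ hab hodd

/-- the two-point stabiliser is cyclic -/
theorem isCyclic_two : IsCyclic ↥(stabilizer G a ⊓ stabilizer G b : Subgroup G) :=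
  (Cfsg.Agent.S0739.result hZ hab hodd (no_complement hZ hodd)).1

/-- the two-point stabiliser is abelian -/
theorem two_comm {x y : G} (hx : x ∈ (stabilizer G a ⊓ stabilizer G b : Subgroup G))
    (hy : y ∈ (stabilizer G a ⊓ stabilizer G b : Subgroup G)) : x * y = y * x := by
  have := isCyclic_two hZ hab hodd
  have h := (this.commGroup).mul_comm ⟨x, hx⟩ ⟨y, hy⟩
  exact congrArg Subtype.val h

/-- swapping elements invert the two-point stabiliser -/
theorem swap_inverts {s : G} (hsa : s • a = b) (hsb : s • b = a) {x : G}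
    (hx : x ∈ (stabilizer G a ⊓ stabilizer G b : Subgroup G)) : s * x * s⁻¹ = x⁻¹ :=
  (Cfsg.Agent.S0739.result hZ hab hodd (no_complement hZ hodd)).2.2 s hsa hsb x hx

omit hab [IsSimpleGroup G] hZ [Fintype Ω] [Finite G] in
/-- no involutions in the two-point stabiliser -/
theorem eq_one_of_sq {x : G} (hx : x ∈ (stabilizer G a ⊓ stabilizer G b : Subgroup G))
    (hx2 : x * x = 1) : x = 1 := by
  have h1 : orderOf x ∣ 2 := orderOf_dvd_of_pow_eq_one (by rw [pow_two, hx2])
  have h2 : orderOf x ∣ Nat.card ↥(stabilizer G a ⊓ stabilizer G b : Subgroup G) := by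
    have := orderOf_dvd_natCard (⟨x, hx⟩ : ↥(stabilizer G a ⊓ stabilizer G b : Subgroup G))
    rwa [Subgroup.orderOf_mk] at this
  have h3 : orderOf x ∣ 1 := by
    rw [← hodd.coprime_two_left.gcd_eq_one]
    exact Nat.dvd_gcd h1 h2
  exact orderOf_eq_one_iff.mp (Nat.dvd_one.mp h3)

/-- swapping elements have square one -/
theorem swap_sq {s : G} (hsa : s • a = b) (hsb : s • b = a) : s * s = 1 := by
  have h1 : s * s ∈ (stabilizer G a ⊓ stabilizer G b : Subgroup G) := by
    rw [mem_two, mul_smul, mul_smul]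
    exact ⟨by rw [hsa, hsb], by rw [hsb, hsa]⟩
  apply eq_one_of_sq hodd h1
  have h2 := swap_inverts hZ hab hodd hsa hsb h1
  have h3 : s * (s * s) * s⁻¹ = s * s := by group
  rw [h3] at h2
  nth_rewrite 1 [h2]
  exact inv_mul_cancel _

/-- swapping elements are involutions -/
theorem orderOf_swap {s : G} (hsa : s • a = b) (hsb : s • b = a) : orderOf s = 2 := by
  apply orderOf_eq_prime
  · rw [pow_two]; exact swap_sq hZ hab hodd hsa hsb
  · rintro rfl
    exact hab ((one_smul G a).symm.trans hsa)

end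

omit [MulAction G Ω] in
theorem mul_self_of_orderOf_two {s : G} (hs : orderOf s = 2) : s * s = 1 := by
  rw [← pow_two, ← hs]; exact pow_orderOf_eq_one s

/-- an element of order two mapping `a` to `b` maps `b` to `a` -/
theorem smul_swap {s : G} (hs : orderOf s = 2) {a b : Ω} (hsa : s • a = b) : s • b = a := by
  rw [← hsa, ← mul_smul, mul_self_of_orderOf_two hs, one_smul]

/-- The number of elements swapping `a` and `b`. -/
theorem card_swaps (hZ : Cfsg.IsZassenhausGroup G Ω) {a b : Ω} (hab : a ≠ b) :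
    Nat.card {s : G // s • a = b ∧ s • b = a} =
      Nat.card ↥(stabilizer G a ⊓ stabilizer G b : Subgroup G) := by
  obtain ⟨t, hta, htb⟩ := exists_smul_pair hZ hab hab.symm
  refine Nat.card_congr (Equiv.symm ⟨fun x => ⟨t * x, ?_, ?_⟩, fun s => ⟨t⁻¹ * s, ?_, ?_⟩, ?_, ?_⟩)
  · have h : (x : G) • a = a := x.2.1
    rw [mul_smul, h, hta]
  · have h : (x : G) • b = b := x.2.2
    rw [mul_smul, h, htb]
  · show (t⁻¹ * (s : G)) • a = a
    rw [mul_smul, s.2.1, inv_smul_eq_iff, hta]
  · show (t⁻¹ * (s : G)) • b = b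
    rw [mul_smul, s.2.2, inv_smul_eq_iff, htb]
  · intro x
    ext
    simp
  · intro x
    ext
    simp

/-- In a simple Zassenhaus group with two-point stabilisers of odd order `e`, exactly `e` involutions
map `a` to `b`. -/
theorem card_involutions_swapping [Finite G] [Fintype Ω] [IsSimpleGroup G]
    (hZ : Cfsg.IsZassenhausGroup G Ω) {a b : Ω} (hab : a ≠ b)
    (hodd : Odd (Nat.card ↥(stabilizer G a ⊓ stabilizer G b : Subgroup G))) :
    Nat.card {s : G // orderOf s = 2 ∧ s • a = b} =
      Nat.card ↥(stabilizer G a ⊓ stabilizer G b : Subgroup G) := by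
  rw [← card_swaps hZ hab]
  apply Nat.card_congr
  apply Equiv.subtypeEquivRight
  intro s
  constructor
  · rintro ⟨h1, h2⟩
    exact ⟨h2, smul_swap h1 h2⟩
  · rintro ⟨h1, h2⟩
    exact ⟨orderOf_swap hZ hab hodd h1 h2, h1⟩

end Cfsg.Agent.CharactersDeep.ZassenhausInvol
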