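import Mathlib
import Cfsg.Agent.Characters.Core
import Cfsg.Agent.Characters.Linear
import Cfsg.Agent.CharactersDeep.FeitInterface
import Cfsg.Agent.CharactersDeep.NormalInd
import Cfsg.Agent.CharactersDeep.ZassenhausOdd
import Cfsg.Agent.S0157
import Cfsg.Agent.S0171
import Cfsg.Agent.S0190
import Cfsg.Agent.S0881
import Cfsg.Agent.S0884

/-!
# Character-theoretic facts on the kernel of a point stabiliser of a simple Zassenhaus group
-/

set_option autoImplicit false

namespace Cfsg.Agent.CharactersDeep.FeitSetup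

open MulAction Cfsg Cfsg.Agent.CharactersDeep.Zassenhaus Cfsg.Agent.CharactersDeep.FeitInterface

variable {G Ω : Type*} [Group G] [MulAction G Ω]

section

variable (hZ : Cfsg.IsZassenhausGroup G Ω) {a b : Ω} (hab : a ≠ b) (H : Subgroup G)
  (hHa : H ≤ MulAction.stabilizer G a)
  (hHfix : ∀ u ∈ H, u ≠ 1 → ∀ c : Ω, u • c = c → c = a)

include hZ hab in
/-- Elements of the two-point stabiliser commute. -/
theorem two_point_comm [Finite G] [IsSimpleGroup G]
    (hodd : Odd (Nat.card ↥(MulAction.stabilizer G a ⊓ MulAction.stabilizer G b : Subgroup G))) :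
    ∀ x ∈ MulAction.stabilizer G a ⊓ MulAction.stabilizer G b,
      ∀ y ∈ MulAction.stabilizer G a ⊓ MulAction.stabilizer G b, x * y = y * x := by
  intro x hx y hy
  have hcyc := ZassenhausOdd.isCyclic_two_point hZ hab hodd
  obtain ⟨g, hg⟩ := hcyc.exists_generator
  obtain ⟨m, hm⟩ := Subgroup.mem_zpowers_iff.1 (hg ⟨x, hx⟩)
  obtain ⟨n, hn⟩ := Subgroup.mem_zpowers_iff.1 (hg ⟨y, hy⟩)
  have h1 : (⟨x, hx⟩ : ↥(MulAction.stabilizer G a ⊓ MulAction.stabilizer G b : Subgroup G)) *
      ⟨y, hy⟩ = ⟨y, hy⟩ * ⟨x, hx⟩ := by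
    rw [← hm, ← hn]
    exact zpow_mul_comm g m n
  exact congrArg Subtype.val h1

include hZ in
/-- The permutation character of a Zassenhaus group is `1 + St` with `St` irreducible. -/
theorem exists_steinberg [Fintype G] [Finite Ω] (N : Subgroup G)
    (hN : N = MulAction.stabilizer G a) :
    ∃ St : G → ℂ, IsIrrCharacter G St ∧ ∀ g, indFun N (fun _ => 1) g = 1 + St g := by
  subst hN
  have hpre := isPretransitive hZ
  have h2 : MulAction.IsMultiplyPretransitive G Ω 2 := hZ.2.1
  obtain ⟨b, hab⟩ := exists_ne hZ a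
  have hcard : 2 ≤ Nat.card Ω := by
    have : Nontrivial Ω := ⟨⟨a, b, hab⟩⟩
    exact Finite.one_lt_card
  refine ⟨fun g => (Nat.card (MulAction.fixedBy Ω g) : ℂ) - 1,
    (Cfsg.Agent.S0157.result Ω hcard).2 h2, fun g => ?_⟩
  have h3 := congrFun (Cfsg.Agent.S0190.result (G := G) Ω a) g
  rw [← h3]
  ring

variable [Fintype Ω] (hHcard : Nat.card H + 1 = Fintype.card Ω)

include hZ hab hHa hHfix hHcard in
/-- Characters induced from nonprincipal linear characters of the point stabiliser, trivial on the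
kernel. -/
theorem indFun_linear [Fintype G] [IsSimpleGroup G]
    (hodd : Odd (Nat.card ↥(MulAction.stabilizer G a ⊓ MulAction.stabilizer G b : Subgroup G)))
    (hlt : Nat.card ↥(MulAction.stabilizer G a ⊓ MulAction.stabilizer G b : Subgroup G) <
      Fintype.card Ω - 2) (N : Subgroup G) (hN : N = MulAction.stabilizer G a)
    (μ : N → ℂ) (hμ : IsCharacter N μ) (hμ1 : μ 1 = 1) (hμH : ∀ u : N, (u : G) ∈ H → μ u = 1)
    (hμne : μ ≠ fun _ => 1) :
    IsIrrCharacter G (indFun N μ) ∧ ∀ u ∈ H, u ≠ 1 → indFun N μ u = 1 := by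
  subst hN
  exact Cfsg.Agent.S0881.result hZ hab hodd hlt H hHa hHcard hHfix μ ⟨hμ, hμ1⟩ hμH hμne

include hZ hab hHa hHfix hHcard in
/-- There is an irreducible character of the normalizer of the kernel, nontrivial on the kernel,
of degree the order of the two-point stabiliser. -/
theorem exists_deg_eq [Fintype G] [Fintype ↥(Subgroup.normalizer (H : Set G))] :
    ∃ χ : ↥(Subgroup.normalizer (H : Set G)) → ℂ, IsIrrCharacter _ χ ∧
      (∃ k : ↥(Subgroup.normalizer (H : Set G)), (k : G) ∈ H ∧ χ k ≠ χ 1) ∧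
      χ 1 = (Nat.card ↥(MulAction.stabilizer G a ⊓ MulAction.stabilizer G b : Subgroup G) : ℂ) := by
  classical
  set N := Subgroup.normalizer (H : Set G) with hNdef
  have hNa : N = MulAction.stabilizer G a := kernel_normalizer hZ a H hHa hHcard hHfix
  have hHN : H ≤ N := Subgroup.le_normalizer
  set K : Subgroup N := H.subgroupOf N with hK
  have hKn : K.Normal := Subgroup.normal_in_normalizer
  set E : Subgroup G := MulAction.stabilizer G a ⊓ MulAction.stabilizer G b with hE
  have hEN : E ≤ N := by rw [hNa]; exact inf_le_left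
  have hKE : K ⊓ E.subgroupOf N = ⊥ := by
    rw [eq_bot_iff]
    rintro ⟨x, hxN⟩ ⟨hx1, hx2⟩
    have h1 : x ∈ H ⊓ E := ⟨hx1, hx2⟩
    rw [inf_eq_bot hab H hHfix, Subgroup.mem_bot] at h1
    subst h1
    exact Subgroup.mem_bot.2 rfl
  have hKE' : K ⊔ E.subgroupOf N = ⊤ := by
    rw [eq_top_iff]
    rintro ⟨x, hxN⟩ -
    have hxa : x • a = a := by
      have := hxN
      rw [hNa] at this
      exact this
    obtain ⟨u, hu, y, hy, hux⟩ := exists_mul_eq hZ hab H hHa hHfix hHcard hxa
    have h1 : (⟨x, hxN⟩ : N) = ⟨u, hHN hu⟩ * ⟨y, hEN hy⟩ := Subtype.ext hux.symm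
    rw [h1]
    exact Subgroup.mul_mem_sup hu hy
  have hfpf : ∀ h ∈ E.subgroupOf N, h ≠ 1 → ∀ k ∈ K, h * k = k * h → k = 1 := by
    intro x hx hx1 k hk hxk
    by_contra hk1
    have hk1' : (k : G) ≠ 1 := fun h => hk1 (Subtype.ext h)
    have h1 : (x : G) ∈ Subgroup.centralizer ({(k : G)} : Set G) :=
      Subgroup.mem_centralizer_singleton_iff.2 (congrArg Subtype.val hxk)
    have h2 : (x : G) ∈ H := centralizer_le hZ H hHa hHfix hHcard hk hk1' h1
    have h3 : (x : G) ∈ H ⊓ E := ⟨h2, hx⟩
    rw [inf_eq_bot hab H hHfix, Subgroup.mem_bot] at h3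
    exact hx1 (Subtype.ext h3)
  -- a nonprincipal linear character of the kernel
  have hnil : Group.IsNilpotent H := kernel_nilpotent hZ hab H hHa hHfix
  have hnilK : Group.IsNilpotent K :=
    Group.nilpotent_of_mulEquiv (Subgroup.subgroupOfEquivOfLe hHN).symm
  have hHb : H ≠ ⊥ := kernel_ne_bot hZ H hHcard
  have hntH : Nontrivial H := (Subgroup.nontrivial_iff_ne_bot H).2 hHb
  have hntK : Nontrivial K := (Subgroup.subgroupOfEquivOfLe hHN).toEquiv.nontrivial
  have hne : commutator K ≠ ⊤ := by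
    have hsol : Group.IsSolvable K := inferInstance
    exact (Group.IsSolvable.commutator_lt_top_of_nontrivial K).ne
  have hcard := Cfsg.Agent.Characters.Linear.card_hom_eq_index_commutator K
  have hidx : 1 < (commutator K).index := by
    have h1 : (commutator K).index ≠ 1 := fun h => hne (Subgroup.index_eq_one.1 h)
    have h2 : (commutator K).index ≠ 0 := Subgroup.index_ne_zero_of_finite
    omega
  rw [← hcard] at hidx
  have hfin : Finite (K →* ℂˣ) := Nat.finite_of_card_ne_zero (by omega)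
  obtain ⟨f, hf⟩ : ∃ f : K →* ℂˣ, f ≠ 1 := by
    have : Nontrivial (K →* ℂˣ) := Finite.one_lt_card_iff_nontrivial.1 hidx
    exact exists_ne 1
  have hfirr := Cfsg.Agent.Characters.Linear.isIrrCharacter_hom f
  have hfne : (fun k => (f k : ℂ)) ≠ fun _ => (1 : ℂ) := by
    intro h
    apply hf
    ext k
    exact congrFun h k
  have hirr := Cfsg.Agent.S0171.result K (E.subgroupOf N) hKE hKE' hfpf _ hfirr hfne
  refine ⟨_, hirr, ?_, ?_⟩
  · -- nontrivial on the kernel
    by_contra hcon
    push Not at hcon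
    have h1 := Cfsg.Agent.CharactersDeep.NormalInd.classInner_indFun K (fun k => (f k : ℂ))
      (indFun K (fun k => (f k : ℂ))) (Cfsg.Agent.Characters.Core.isIrr_isClassFunction hirr)
    rw [Cfsg.Agent.Characters.Core.classInner_irr_self hirr] at h1
    have h2 : (fun k : K => indFun K (fun k => (f k : ℂ)) k) =
        indFun K (fun k => (f k : ℂ)) 1 • (1 : K → ℂ) := by
      funext k
      have := hcon (k : N) k.2
      rw [this]
      simp
    rw [h2, Cfsg.Agent.Characters.Core.classInner_smul_right,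
      Cfsg.Agent.Characters.Core.classInner_irr_ne hfirr Cfsg.Agent.Characters.Core.isIrr_one
        hfne] at h1
    simp at h1
  · rw [Cfsg.Agent.CharactersDeep.NormalInd.indFun_one, map_one, Units.val_one, mul_one,
      hK, hNdef, index_kernel hZ hab H hHa hHfix hHcard]

end

end Cfsg.Agent.CharactersDeep.FeitSetup
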