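import Mathlib
import Cfsg.Agent.CharactersDeep.FeitSetup
import Cfsg.Agent.CharactersDeep.FeitOddSize
import Cfsg.Agent.CharactersDeep.FeitOddAbs

/-!
# Feit's theorem on Zassenhaus groups, kernel of odd prime power order
-/

set_option autoImplicit false

namespace Cfsg.Agent.CharactersDeep.FeitOddP

open MulAction Cfsg Cfsg.Agent.CharactersDeep Cfsg.Agent.CharactersDeep.FeitInterface
  Cfsg.Agent.CharactersDeep.FeitSetup

/-- The permutation character, with the values of the Steinberg character on the kernel. -/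
theorem exists_steinberg' {G Ω : Type*} [Group G] [Fintype G] [MulAction G Ω] [Finite Ω]
    (hZ : Cfsg.IsZassenhausGroup G Ω) {a : Ω} (H : Subgroup G)
    (hHa : H ≤ MulAction.stabilizer G a)
    (hHfix : ∀ u ∈ H, u ≠ 1 → ∀ c : Ω, u • c = c → c = a) (N : Subgroup G)
    (hN : N = MulAction.stabilizer G a) :
    ∃ St : G → ℂ, IsIrrCharacter G St ∧ indFun N (fun _ => 1) = 1 + St ∧
      ∀ u ∈ H, u ≠ 1 → St u = 0 := by
  obtain ⟨St, hSt, hSt1⟩ := exists_steinberg hZ N hN
  refine ⟨St, hSt, funext hSt1, fun u hu hu1 => ?_⟩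
  have h1 := hSt1 u
  have hpre := Zassenhaus.isPretransitive hZ
  have h2 := congrFun (Cfsg.Agent.S0190.result (G := G) Ω a) u
  rw [← hN] at h2
  have h3 : Nat.card (MulAction.fixedBy Ω u) = 1 := by
    rw [Nat.card_eq_one_iff_unique]
    refine ⟨⟨?_⟩, ⟨⟨a, hHa hu⟩⟩⟩
    rintro ⟨c, hc⟩ ⟨d, hd⟩
    apply Subtype.ext
    show c = d
    rw [hHfix u hu hu1 c hc, hHfix u hu hu1 d hd]
  have h4 : ((Nat.card (MulAction.fixedBy Ω u) : ℕ) : ℂ) = 1 + St u := h2.trans h1
  rw [h3, Nat.cast_one] at h4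
  linear_combination -h4

/-- The number of involutions, when the kernel and the two-point stabiliser have odd order. -/
theorem card_involutions {G Ω : Type*} [Group G] [Finite G] [MulAction G Ω] [Fintype Ω]
    [IsSimpleGroup G] (hZ : Cfsg.IsZassenhausGroup G Ω) {a b : Ω} (hab : a ≠ b) (h e : ℕ)
    (hh : Fintype.card Ω = h + 1)
    (he : Nat.card ↥(MulAction.stabilizer G a ⊓ MulAction.stabilizer G b : Subgroup G) = e)
    (hodd : Odd e) (H : Subgroup G) (hHa : H ≤ MulAction.stabilizer G a)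
    (hHcard : Nat.card H + 1 = Fintype.card Ω)
    (hHfix : ∀ u ∈ H, u ≠ 1 → ∀ c : Ω, u • c = c → c = a) (hhodd : Odd h) :
    Nat.card {x : G // orderOf x = 2} = e * h := by
  classical
  have hodd' : Odd (Nat.card ↥(MulAction.stabilizer G a ⊓ MulAction.stabilizer G b :
      Subgroup G)) := by rw [he]; exact hodd
  have hcardH : Nat.card H = h := by omega
  -- no involution fixes `a`
  have hmove : ∀ x : G, orderOf x = 2 → x • a ≠ a := by
    intro x hx hxa
    have h1 : orderOf (⟨x, hxa⟩ : MulAction.stabilizer G a) = 2 := by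
      rw [← hx]
      exact (Subgroup.orderOf_coe (⟨x, hxa⟩ : MulAction.stabilizer G a)).symm
    have h2 := orderOf_dvd_natCard (⟨x, hxa⟩ : MulAction.stabilizer G a)
    rw [h1, card_stabilizer hZ hab H hHa hHfix hHcard, he, hcardH] at h2
    have h3 : Odd (h * e) := hhodd.mul hodd
    exact (Nat.not_even_iff_odd.mpr h3) (even_iff_two_dvd.mpr h2)
  -- count by the image of `a`
  have hequiv : {x : G // orderOf x = 2} ≃
      Σ c : {c : Ω // c ≠ a}, {x : G // orderOf x = 2 ∧ x • a = c} :=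
    { toFun := fun x => ⟨⟨(x : G) • a, hmove x x.2⟩, ⟨x, x.2, rfl⟩⟩
      invFun := fun p => ⟨p.2.1, p.2.2.1⟩
      left_inv := fun x => rfl
      right_inv := by
        rintro ⟨⟨c, hc⟩, ⟨x, hx, hxc⟩⟩
        have hxc' : x • a = c := hxc
        subst hxc'
        rfl }
  rw [Nat.card_congr hequiv, Nat.card_sigma]
  have h1 : ∀ c : {c : Ω // c ≠ a}, Nat.card {x : G // orderOf x = 2 ∧ x • a = (c : Ω)} = e := by
    intro c
    rw [ZassenhausOdd.card_swaps hZ hab hodd' c.2.symm, he]
  rw [Finset.sum_congr rfl (fun c _ => h1 c), Finset.sum_const, smul_eq_mul, Finset.card_univ,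
    Fintype.card_subtype_compl, Fintype.card_subtype_eq, hh, Nat.add_sub_cancel, mul_comm]

/-- Feit's theorem for a kernel of odd prime power order. -/
theorem false_of_odd {G Ω : Type*} [Group G] [Finite G] [MulAction G Ω] [Fintype Ω]
    (hZ : Cfsg.IsZassenhausGroup G Ω) {a b : Ω} (hab : a ≠ b) [IsSimpleGroup G] (h e : ℕ)
    (hh : Fintype.card Ω = h + 1)
    (he : Nat.card ↥(MulAction.stabilizer G a ⊓ MulAction.stabilizer G b : Subgroup G) = e)
    (hodd : Odd e) (hlt : 2 * e < h - 1) (H : Subgroup G) (hHa : H ≤ MulAction.stabilizer G a)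
    (hHcard : Nat.card H + 1 = Fintype.card Ω)
    (hHfix : ∀ u ∈ H, u ≠ 1 → ∀ c : Ω, u • c = c → c = a) (p : ℕ) (hp : p.Prime) (hp2 : p ≠ 2)
    (hHp : IsPGroup p H) : False := by
  classical
  have hfG : Fintype G := Fintype.ofFinite G
  have hNa : Subgroup.normalizer (H : Set G) = MulAction.stabilizer G a :=
    Zassenhaus.kernel_normalizer hZ a H hHa hHcard hHfix
  have hfN : Fintype ↥(Subgroup.normalizer (H : Set G)) := Fintype.ofFinite _
  have hTI : ∀ g : G, g ∉ Subgroup.normalizer (H : Set G) → ∀ k ∈ H, g * k * g⁻¹ ∈ H → k = 1 := by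
    intro g hg k hk hgk
    rw [hNa] at hg
    exact (Cfsg.Agent.S0878.result hZ a H hHa hHcard hHfix).1 g hg k hk hgk
  have hltN := kernel_lt hZ hab H hHa hHfix hHcard
  have hC : ∀ k ∈ H, k ≠ 1 → Subgroup.centralizer ({k} : Set G) ≤ H :=
    fun k hk hk1 => centralizer_le hZ H hHa hHfix hHcard hk hk1
  have hcardH : Nat.card H = h := by omega
  have hidx : (H.subgroupOf (Subgroup.normalizer (H : Set G))).index = e := by
    rw [index_kernel hZ hab H hHa hHfix hHcard, he]
  have hidxN : (Subgroup.normalizer (H : Set G)).index = h + 1 := by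
    rw [index_normalizer hZ H hHa hHfix hHcard, hh]
  have hodd' : Odd (Nat.card ↥(MulAction.stabilizer G a ⊓ MulAction.stabilizer G b :
      Subgroup G)) := by rw [he]; exact hodd
  have hcomm : ∀ x ∈ Subgroup.normalizer (H : Set G), ∀ y ∈ Subgroup.normalizer (H : Set G),
      x * y * x⁻¹ * y⁻¹ ∈ H := fun x hx y hy =>
    commutator_mem hZ hab H hHa hHfix hHcard (two_point_comm hZ hab hodd') hx hy
  have he1 : 1 < e := by
    rw [← he]
    have h1 := Cfsg.Agent.PermutationGroups.ZassenhausBasic.two_point_ne_bot hZ hab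
    have : Nontrivial ↥(MulAction.stabilizer G a ⊓ MulAction.stabilizer G b : Subgroup G) :=
      (Subgroup.nontrivial_iff_ne_bot _).2 h1
    exact Finite.one_lt_card
  have hpf := Fact.mk hp
  have hhodd : Odd h := by
    obtain ⟨m, hm⟩ := IsPGroup.iff_card.1 hHp
    rw [← hcardH, hm]
    exact (hp.odd_of_ne_two hp2).pow
  -- an involution
  have h2G : 2 ∣ Nat.card G := ZassenhausOdd.two_dvd_card hZ hab
  have hfact2 : Fact (Nat.Prime 2) := ⟨Nat.prime_two⟩
  obtain ⟨t, ht⟩ := exists_prime_orderOf_dvd_card' (G := G) 2 h2G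
  refine FeitOddAbs.odd_false H hTI hltN hC h e hcardH hidx hidxN hcomm he1 (by omega) ?_
    (exists_steinberg' hZ H hHa hHfix _ hNa) hhodd hodd t ht
    (fun x hx => ZassenhausOdd.isConj_of_orderOf_eq_two hZ hab hodd' ht hx)
    (card_involutions hZ hab h e hh he hodd H hHa hHcard hHfix hhodd) p hp hHp ?_
  · intro μ hμ hμ1 hμH hμne
    refine indFun_linear hZ hab H hHa hHfix hHcard hodd' ?_ _ hNa μ hμ hμ1 hμH hμne
    rw [he]
    omega
  · exact fun hnc => FeitOddSize.le_card H p hp2 hHp hC e h hidx hcardH hidxN hodd hnc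

end Cfsg.Agent.CharactersDeep.FeitOddP
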