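import Mathlib
import Cfsg.Agent.CharactersDeep.FeitInterface
import Cfsg.Agent.LieExceptional.ZassenhausKernel
import Cfsg.Agent.S0339

/-!
# Reduction of Feit's theorem on Zassenhaus groups to simple groups
-/

set_option autoImplicit false

namespace Cfsg.Agent.CharactersDeep.FeitReduction

open MulAction Cfsg.Agent.CharactersDeep.Zassenhaus

universe u v

/-- The conclusion of Feit's theorem. -/
def Concl {G : Type u} [Group G] (H : Subgroup G) (h e : ℕ) : Prop :=
  h - 1 ≤ 2 * e ∨
    (IsPGroup 2 H ∧ (∃ u v : H, u * v ≠ v * u) ∧ (commutator H).index ≤ 4 * e ^ 2 + 1)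

theorem Concl.of_equiv {G : Type u} [Group G] {G' : Type u} [Group G'] {H : Subgroup G}
    {H' : Subgroup G'} (f : H' ≃* H) {h e e' : ℕ} (he : e' ≤ e) (hc : Concl H' h e') :
    Concl H h e := by
  rcases hc with hc | ⟨h1, ⟨u, v, huv⟩, h2⟩
  · exact Or.inl (hc.trans (Nat.mul_le_mul_left 2 he))
  · refine Or.inr ⟨h1.of_equiv f, ⟨f u, f v, fun hh => huv (f.injective ?_)⟩, ?_⟩
    · rw [map_mul, map_mul, hh]
    · have h3 : (commutator H).index = (commutator H').index := by
        have h4 : (commutator H').map f.toMonoidHom = commutator H := by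
          rw [commutator_def, commutator_def, Subgroup.map_commutator,
            Subgroup.map_top_of_surjective _ f.surjective]
        rw [← h4]
        exact Subgroup.index_map_equiv _ f
      rw [h3]
      refine h2.trans ?_
      have : e' ^ 2 ≤ e ^ 2 := Nat.pow_le_pow_left he 2
      omega

/-- A nontrivial normal subgroup of a Zassenhaus group contains the kernels. -/
theorem kernel_le_of_normal {G : Type u} {Ω : Type v} [Group G] [Finite G] [MulAction G Ω]
    [Fintype Ω] (hZ : Cfsg.IsZassenhausGroup G Ω) (a : Ω) (H : Subgroup G)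
    (hHa : H ≤ MulAction.stabilizer G a) (hHcard : Nat.card H + 1 = Fintype.card Ω)
    (hHfix : ∀ u ∈ H, u ≠ 1 → ∀ c : Ω, u • c = c → c = a) (N : Subgroup G) [N.Normal]
    (hN : N ≠ ⊥) : H ≤ N := by
  have hZN := Cfsg.Agent.S0339.result hZ N hN
  obtain ⟨H₁, h1, -, h2, h3, -⟩ := Cfsg.Agent.LieExceptional.ZassenhausKernel.exists_kernel hZN a
  have h4 : H₁.map N.subtype ≤ H := by
    rintro _ ⟨u, hu, rfl⟩
    rw [mem_kernel_iff hZ a H hHa hHcard hHfix]
    refine ⟨h1 hu, fun hu1 c hc => h3 u hu (fun h => hu1 (by rw [h]; rfl)) c hc⟩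
  have h5 : Nat.card (H₁.map N.subtype) = Nat.card H₁ :=
    Nat.card_congr (Subgroup.equivMapOfInjective H₁ N.subtype N.subtype_injective).toEquiv.symm
  have h6 : H₁.map N.subtype = H := by
    apply Subgroup.eq_of_le_of_card_ge h4
    rw [h5]
    rw [Nat.card_eq_fintype_card (α := Ω)] at h2
    omega
  rw [← h6]
  exact Subgroup.map_subtype_le H₁

theorem reduction
    (hsimple : ∀ (G : Type u) (Ω : Type v) [Group G] [Finite G] [MulAction G Ω] [Fintype Ω]
      [IsSimpleGroup G] (_ : Cfsg.IsZassenhausGroup G Ω) {a b : Ω} (_ : a ≠ b) (h e : ℕ)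
      (_ : Fintype.card Ω = h + 1)
      (_ : Nat.card ↥(MulAction.stabilizer G a ⊓ MulAction.stabilizer G b : Subgroup G) = e)
      (_ : Odd e) (H : Subgroup G) (_ : H ≤ MulAction.stabilizer G a)
      (_ : Nat.card H + 1 = Fintype.card Ω)
      (_ : ∀ u ∈ H, u ≠ 1 → ∀ c : Ω, u • c = c → c = a), Concl H h e)
    (n : ℕ) : ∀ (G : Type u) (Ω : Type v) [Group G] [Finite G] [MulAction G Ω] [Fintype Ω]
      (_ : Nat.card G = n) (_ : Cfsg.IsZassenhausGroup G Ω) {a b : Ω} (_ : a ≠ b) (h e : ℕ)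
      (_ : Fintype.card Ω = h + 1)
      (_ : Nat.card ↥(MulAction.stabilizer G a ⊓ MulAction.stabilizer G b : Subgroup G) = e)
      (_ : Odd e) (H : Subgroup G) (_ : H ≤ MulAction.stabilizer G a)
      (_ : Nat.card H + 1 = Fintype.card Ω)
      (_ : ∀ u ∈ H, u ≠ 1 → ∀ c : Ω, u • c = c → c = a), Concl H h e := by
  induction n using Nat.strong_induction_on with
  | _ n ih =>
  intro G Ω _ _ _ _ hn hZ a b hab h e hh he hodd H hHa hHcard hHfix
  by_cases hs : IsSimpleGroup G
  · exact hsimple G Ω hZ hab h e hh he hodd H hHa hHcard hHfix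
  -- a proper nontrivial normal subgroup
  have hnt : Nontrivial G := by
    obtain ⟨g, hg, -⟩ := hZ.2.2.2.1
    exact ⟨⟨g, 1, hg⟩⟩
  obtain ⟨N, hN, hNb, hNt⟩ : ∃ N : Subgroup G, N.Normal ∧ N ≠ ⊥ ∧ N ≠ ⊤ := by
    by_contra hcon
    push Not at hcon
    exact hs ⟨fun N hN => by
      by_cases hb : N = ⊥
      · exact Or.inl hb
      · exact Or.inr (hcon N hN hb)⟩
  have hZN := Cfsg.Agent.S0339.result hZ N hNb
  have hHN : H ≤ N := kernel_le_of_normal hZ a H hHa hHcard hHfix N hNb
  have hcardN : Nat.card N < n := by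
    rw [← hn]
    exact lt_of_le_of_ne (Subgroup.card_le_card_group N)
      (fun h => hNt (Subgroup.eq_top_of_card_eq N h))
  set E : Subgroup G := MulAction.stabilizer G a ⊓ MulAction.stabilizer G b with hE
  set E' : Subgroup N := MulAction.stabilizer N a ⊓ MulAction.stabilizer N b with hE'
  have hEE : E'.map N.subtype ≤ E := by
    rintro _ ⟨x, hx, rfl⟩
    exact ⟨hx.1, hx.2⟩
  have hdvd : Nat.card E' ∣ Nat.card E := by
    have h1 := Subgroup.card_dvd_of_le hEE
    rwa [Nat.card_congr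
      (Subgroup.equivMapOfInjective E' N.subtype N.subtype_injective).toEquiv.symm] at h1
  have hodd' : Odd (Nat.card E') := by
    rw [he] at hdvd
    exact hodd.of_dvd_nat hdvd
  have hle : Nat.card E' ≤ e := by
    rw [← he]
    exact Nat.le_of_dvd Nat.card_pos hdvd
  have hconcl := ih (Nat.card N) hcardN N Ω rfl hZN hab h (Nat.card E') hh rfl hodd'
    (H.subgroupOf N) (fun x hx => hHa (show (x : G) ∈ H from hx))
    (by
      rw [Nat.card_congr (Subgroup.subgroupOfEquivOfLe hHN).toEquiv]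
      exact hHcard)
    (fun x hx hx1 c hc => hHfix (x : G) hx (fun h => hx1 (Subtype.ext h)) c hc)
  exact hconcl.of_equiv (Subgroup.subgroupOfEquivOfLe hHN) hle

end Cfsg.Agent.CharactersDeep.FeitReduction
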