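import Mathlib
import Cfsg.Prelude.Def_Characters

/-!
# Imprimitivity by an idempotent, and the isotypic idempotent of a linear character

Let `ρ` be an irreducible complex representation of a finite group `G`, `T ≤ G`, and `e` a nonzero
idempotent with `e ρ(t) = ρ(t) e` for `t ∈ T` and `e ρ(y) e = 0` for `y ∉ T`.  Then the character of
`ρ` is induced from the character of `T` on the image of `e`; if `ρ` is irreducible even on a
subgroup `N`, then the image of `e` is irreducible under `N ∩ T`.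

Such an idempotent is provided by any common eigenvector of a normal subgroup `A`.
-/

set_option autoImplicit false

open Cfsg Module

namespace Cfsg.Agent.CharactersDeep.Imprimitivity

section irr

variable {G : Type*} [Group G] {V : Type*} [AddCommGroup V] [Module ℂ V]

/-- Irreducibility in terms of invariant submodules. -/
theorem isIrreducible_iff (ρ : Representation ℂ G V) :
    ρ.IsIrreducible ↔ Nontrivial V ∧
      ∀ U : Submodule ℂ V, (∀ g : G, ∀ v ∈ U, ρ g v ∈ U) → U = ⊥ ∨ U = ⊤ := by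
  constructor
  · intro h
    refine ⟨?_, ?_⟩
    · have h1 : (⊥ : Subrepresentation ρ) ≠ ⊤ := bot_ne_top
      by_contra h2
      rw [not_nontrivial_iff_subsingleton] at h2
      apply h1
      apply Subrepresentation.toSubmodule_injective
      exact Subsingleton.elim _ _
    · intro U hU
      let U' : Subrepresentation ρ := ⟨U, fun g v hv => hU g v hv⟩
      rcases eq_bot_or_eq_top U' with h1 | h1
      · left
        exact congrArg Subrepresentation.toSubmodule h1
      · right
        exact congrArg Subrepresentation.toSubmodule h1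
  · rintro ⟨h1, h2⟩
    have hne : (⊥ : Subrepresentation ρ) ≠ ⊤ := by
      intro h
      have h3 : (⊥ : Submodule ℂ V) = ⊤ := congrArg Subrepresentation.toSubmodule h
      exact bot_ne_top h3
    have : Nontrivial (Subrepresentation ρ) := ⟨⟨_, _, hne⟩⟩
    refine ⟨fun U => ?_⟩
    rcases h2 U.toSubmodule (fun g v hv => U.apply_mem_toSubmodule g hv) with h | h
    · left
      exact Subrepresentation.toSubmodule_injective h
    · right
      exact Subrepresentation.toSubmodule_injective h

/-- A representation irreducible on a subgroup (or under any homomorphism) is irreducible. -/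
theorem isIrreducible_of_comp {H : Type*} [Group H] (f : H →* G) (ρ : Representation ℂ G V)
    (h : Representation.IsIrreducible (ρ.comp f : Representation ℂ H V)) : ρ.IsIrreducible := by
  rw [isIrreducible_iff] at h ⊢
  exact ⟨h.1, fun U hU => h.2 U (fun g v hv => hU (f g) v hv)⟩

variable [FiniteDimensional ℂ V]

/-- Schur's lemma. -/
theorem exists_smul_of_comm (ρ : Representation ℂ G V) (h : ρ.IsIrreducible) (f : Module.End ℂ V)
    (hf : ∀ g, f * ρ g = ρ g * f) : ∃ c : ℂ, f = c • (1 : Module.End ℂ V) := by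
  rw [isIrreducible_iff] at h
  obtain ⟨h1, h2⟩ := h
  obtain ⟨c, hc⟩ := Module.End.exists_eigenvalue f
  refine ⟨c, ?_⟩
  have h3 := h2 (f.eigenspace c) (by
    intro g v hv
    rw [Module.End.mem_eigenspace_iff] at hv ⊢
    have := congrArg (fun F : Module.End ℂ V => F v) (hf g)
    simp only [Module.End.mul_apply] at this
    rw [this, hv, map_smul])
  rcases h3 with h3 | h3
  · exact absurd h3 hc
  · ext v
    have : v ∈ f.eigenspace c := by rw [h3]; exact Submodule.mem_top
    rw [Module.End.mem_eigenspace_iff] at this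
    rw [this]
    rfl

end irr

section imprim

variable {G : Type*} [Group G] {V : Type*} [AddCommGroup V] [Module ℂ V] [FiniteDimensional ℂ V]

theorem extendByZero_of_mem' (H : Subgroup G) (θ : H → ℂ) {g : G} (h : g ∈ H) :
    extendByZero H θ g = θ ⟨g, h⟩ :=
  Subtype.val_injective.extend_apply θ 0 ⟨g, h⟩

theorem extendByZero_of_notMem' (H : Subgroup G) (θ : H → ℂ) {g : G} (h : g ∉ H) :
    extendByZero H θ g = 0 := by
  apply Function.extend_apply'
  rintro ⟨a, rfl⟩
  exact h a.2

/-- Imprimitivity by an idempotent. -/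
theorem character_eq_indFun [Fintype G] (ρ : Representation ℂ G V) (hρ : ρ.IsIrreducible)
    (T : Subgroup G) (e : Module.End ℂ V) (he : e * e = e) (he0 : e ≠ 0)
    (hT : ∀ t ∈ T, e * ρ t = ρ t * e) (hnT : ∀ y, y ∉ T → e * ρ y * e = 0) :
    ρ.character = indFun T (fun t : T => LinearMap.trace ℂ V (ρ t * e)) := by
  classical
  have hmul : ∀ g h, ρ (g * h) = ρ g * ρ h := fun g h => map_mul ρ g h
  have hinv : ∀ g, ρ g * ρ g⁻¹ = 1 := fun g => by rw [← hmul, mul_inv_cancel, map_one]
  have hinv' : ∀ g, ρ g⁻¹ * ρ g = 1 := fun g => by rw [← hmul, inv_mul_cancel, map_one]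
  let S : Module.End ℂ V := ∑ x : G, ρ x * e * ρ x⁻¹
  have hS : ∀ g, S * ρ g = ρ g * S := by
    intro g
    simp only [S]
    rw [Finset.sum_mul, Finset.mul_sum]
    refine Fintype.sum_equiv (Equiv.mulLeft g⁻¹) _ _ (fun x => ?_)
    simp only [Equiv.coe_mulLeft]
    rw [hmul g⁻¹ x, mul_inv_rev, inv_inv, hmul x⁻¹ g]
    have : ρ g * (ρ g⁻¹ * ρ x * e * (ρ x⁻¹ * ρ g)) = (ρ g * ρ g⁻¹) * (ρ x * e * ρ x⁻¹ * ρ g) := by
      simp only [mul_assoc]
    rw [this, hinv, one_mul]
  obtain ⟨c, hc⟩ := exists_smul_of_comm ρ hρ S hS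
  have hSe : S * e = (Nat.card T : ℂ) • e := by
    simp only [S]
    rw [Finset.sum_mul]
    have h1 : ∀ x : G, ρ x * e * ρ x⁻¹ * e = if x ∈ T then e else 0 := by
      intro x
      split_ifs with hx
      · have h2 : ρ x * e = e * ρ x := (hT x hx).symm
        rw [h2, mul_assoc e, hinv, mul_one, he]
      · have h2 : e * ρ x⁻¹ * e = 0 := hnT x⁻¹ (fun h => hx (inv_mem_iff.mp h))
        rw [mul_assoc, mul_assoc, ← mul_assoc e, h2, mul_zero]
    rw [Finset.sum_congr rfl (fun x _ => h1 x), ← Finset.sum_filter, Finset.sum_const]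
    rw [← Nat.cast_smul_eq_nsmul ℂ]
    congr 2
    rw [← Fintype.card_subtype, ← Nat.card_eq_fintype_card]
  have hcT : c = (Nat.card T : ℂ) := by
    rw [hc, smul_mul_assoc, one_mul] at hSe
    have h2 : (c - (Nat.card T : ℂ)) • e = 0 := by rw [sub_smul, hSe, sub_self]
    rcases smul_eq_zero.mp h2 with h3 | h3
    · exact sub_eq_zero.mp h3
    · exact absurd h3 he0
  have hT0 : (Nat.card T : ℂ) ≠ 0 := Nat.cast_ne_zero.mpr Nat.card_pos.ne'
  funext g
  show LinearMap.trace ℂ V (ρ g) = (Nat.card T : ℂ)⁻¹ * ∑ x : G, extendByZero T _ (x⁻¹ * g * x)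
  rw [eq_inv_mul_iff_mul_eq₀ hT0]
  have h3 : (Nat.card T : ℂ) * LinearMap.trace ℂ V (ρ g) = LinearMap.trace ℂ V (ρ g * S) := by
    rw [hc, hcT, mul_smul_comm, mul_one, map_smul, smul_eq_mul]
  rw [h3]
  simp only [S]
  rw [Finset.mul_sum, map_sum]
  refine Finset.sum_congr rfl (fun x _ => ?_)
  have h4 : LinearMap.trace ℂ V (ρ g * (ρ x * e * ρ x⁻¹)) =
      LinearMap.trace ℂ V (ρ (x⁻¹ * g * x) * e) := by
    rw [hmul, hmul, ← mul_assoc (ρ g), LinearMap.trace_mul_comm]
    simp only [mul_assoc]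
  rw [h4]
  by_cases hx : x⁻¹ * g * x ∈ T
  · rw [extendByZero_of_mem' T _ hx]
  · rw [extendByZero_of_notMem' T _ hx]
    have h5 : LinearMap.trace ℂ V (ρ (x⁻¹ * g * x) * e) =
        LinearMap.trace ℂ V (e * ρ (x⁻¹ * g * x) * e) := by
      conv_lhs => rw [← he]
      rw [← mul_assoc, LinearMap.trace_mul_comm, ← mul_assoc]
    rw [h5, hnT _ hx, map_zero]

/-- The representation of `T` on the image of an idempotent commuting with `T`. -/
def onRange (ρ : Representation ℂ G V) (T : Subgroup G) (e : Module.End ℂ V)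
    (hT : ∀ t ∈ T, e * ρ t = ρ t * e) : Representation ℂ T (LinearMap.range e) where
  toFun t := (ρ (t : G)).restrict (p := LinearMap.range e) (q := LinearMap.range e) (by
    rintro _ ⟨v, rfl⟩
    exact ⟨ρ (t : G) v, congrArg (fun F : Module.End ℂ V => F v) (hT t t.2)⟩)
  map_one' := by
    ext v
    simp
  map_mul' s t := by
    ext v
    simp

omit [FiniteDimensional ℂ V] in
theorem onRange_apply (ρ : Representation ℂ G V) (T : Subgroup G) (e : Module.End ℂ V)
    (hT : ∀ t ∈ T, e * ρ t = ρ t * e) (t : T) (v : LinearMap.range e) :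
    ((onRange ρ T e hT t v : LinearMap.range e) : V) = ρ (t : G) v := rfl

theorem onRange_character (ρ : Representation ℂ G V) (T : Subgroup G) (e : Module.End ℂ V)
    (he : e * e = e) (hT : ∀ t ∈ T, e * ρ t = ρ t * e) (t : T) :
    (onRange ρ T e hT).character t = LinearMap.trace ℂ V (ρ t * e) := by
  let ι : LinearMap.range e →ₗ[ℂ] V := (LinearMap.range e).subtype
  let π : V →ₗ[ℂ] LinearMap.range e := e.rangeRestrict
  have h1 : (ρ (t : G) * e : Module.End ℂ V) = (ρ (t : G) ∘ₗ ι) ∘ₗ π := by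
    ext v
    rfl
  have h2 : onRange ρ T e hT t = π ∘ₗ (ρ (t : G) ∘ₗ ι) := by
    ext v
    show ρ (t : G) v = e (ρ (t : G) v)
    obtain ⟨_, ⟨w, rfl⟩⟩ := v
    have h3 := congrArg (fun F : Module.End ℂ V => F w) (hT t t.2)
    have h4 := congrArg (fun F : Module.End ℂ V => F (ρ t w)) he
    simp only [Module.End.mul_apply] at h3 h4
    show ρ (t : G) (e w) = e (ρ (t : G) (e w))
    rw [← h3, h4]
  show LinearMap.trace ℂ _ (onRange ρ T e hT t) = _
  rw [h1, h2]
  exact LinearMap.trace_comp_comm' _ _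

omit [FiniteDimensional ℂ V] in
/-- If `ρ` is irreducible on `N` then the image of `e` is irreducible under `N ∩ T`. -/
theorem onRange_isIrreducible (ρ : Representation ℂ G V) (N T : Subgroup G)
    (hN : Representation.IsIrreducible (ρ.comp N.subtype : Representation ℂ N V))
    (e : Module.End ℂ V) (he : e * e = e) (he0 : e ≠ 0)
    (hT : ∀ t ∈ T, e * ρ t = ρ t * e) (hnT : ∀ y, y ∉ T → e * ρ y * e = 0) :
    Representation.IsIrreducible ((onRange ρ T e hT).comp (N.subgroupOf T).subtype :
      Representation ℂ (N.subgroupOf T) (LinearMap.range e)) := by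
  rw [isIrreducible_iff] at hN ⊢
  refine ⟨?_, ?_⟩
  · by_contra h
    rw [not_nontrivial_iff_subsingleton] at h
    apply he0
    ext v
    have : (⟨e v, v, rfl⟩ : LinearMap.range e) = 0 := Subsingleton.elim _ _
    exact congrArg Subtype.val this
  · intro U hU
    have heU : ∀ w : LinearMap.range e, e (w : V) = w := by
      rintro ⟨_, ⟨w, rfl⟩⟩
      have h4 := congrArg (fun F : Module.End ℂ V => F w) he
      exact h4
    let X : Submodule ℂ V := Submodule.span ℂ {v | ∃ n ∈ N, ∃ u ∈ U, v = ρ n (u : V)}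
    have hX := hN.2 X (by
      intro n v hv
      induction hv using Submodule.span_induction with
      | mem v hv =>
        obtain ⟨m, hm, u, hu, rfl⟩ := hv
        apply Submodule.subset_span
        refine ⟨n * m, N.mul_mem n.2 hm, u, hu, ?_⟩
        rw [map_mul]
        rfl
      | zero => rw [map_zero]; exact X.zero_mem
      | add v w _ _ hv hw => rw [map_add]; exact X.add_mem hv hw
      | smul c v _ hv => rw [map_smul]; exact X.smul_mem c hv)
    rcases hX with hX | hX
    · left
      rw [Submodule.eq_bot_iff]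
      intro u hu
      have : (u : V) ∈ X := by
        apply Submodule.subset_span
        exact ⟨1, N.one_mem, u, hu, by rw [map_one]; rfl⟩
      rw [hX, Submodule.mem_bot] at this
      exact Subtype.ext this
    · right
      have key : ∀ v ∈ X, ∃ u ∈ U, e v = (u : V) := by
        intro v hv
        induction hv using Submodule.span_induction with
        | mem v hv =>
          obtain ⟨m, hm, u, hu, rfl⟩ := hv
          by_cases hmT : m ∈ T
          · refine ⟨onRange ρ T e hT ⟨m, hmT⟩ u, hU ⟨⟨m, hmT⟩, hm⟩ u hu, ?_⟩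
            have h6 := congrArg (fun F : Module.End ℂ V => F (u : V)) (hT m hmT)
            simp only [Module.End.mul_apply] at h6
            rw [heU u] at h6
            exact h6
          · refine ⟨0, U.zero_mem, ?_⟩
            have h4 := congrArg (fun F : Module.End ℂ V => F (u : V)) (hnT m hmT)
            simp only [Module.End.mul_apply] at h4
            rw [heU u] at h4
            rw [h4]
            rfl
        | zero => exact ⟨0, U.zero_mem, by rw [map_zero]; rfl⟩
        | add v w _ _ hv hw =>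
          obtain ⟨a, ha, ha'⟩ := hv
          obtain ⟨b, hb, hb'⟩ := hw
          exact ⟨a + b, U.add_mem ha hb, by rw [map_add, ha', hb']; rfl⟩
        | smul c v _ hv =>
          obtain ⟨a, ha, ha'⟩ := hv
          exact ⟨c • a, U.smul_mem c ha, by rw [map_smul, ha']; rfl⟩
      rw [Submodule.eq_top_iff']
      intro w
      obtain ⟨u, hu, h5⟩ := key (w : V) (by rw [hX]; exact Submodule.mem_top)
      rw [heU w] at h5
      have : w = u := Subtype.ext h5
      rw [this]
      exact hu

end imprim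

section isotypic

variable {G : Type*} [Group G] {V : Type*} [AddCommGroup V] [Module ℂ V]

/-- Elements of a finite group act semisimply. -/
theorem isSemisimple_rep [Finite G] (ρ : Representation ℂ G V) (g : G) :
    Module.End.IsSemisimple (ρ g : Module.End ℂ V) := by
  have hn : Nat.card G ≠ 0 := Nat.card_pos.ne'
  have hg : (ρ g : Module.End ℂ V) ^ Nat.card G = 1 := by
    rw [← map_pow, pow_card_eq_one', map_one]
  refine Module.End.isSemisimple_of_squarefree_aeval_eq_zero
    (p := (Polynomial.X ^ Nat.card G - 1 : Polynomial ℂ)) ?_ ?_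
  · have h := Polynomial.separable_X_pow_sub_C (1 : ℂ) (n := Nat.card G)
      (by exact_mod_cast hn) one_ne_zero
    rw [map_one] at h
    exact h.squarefree
  · simp [hg]

/-- Commuting operators coming from a finite group have a common eigenvector. -/
theorem exists_common_eigenvector [Finite G] [FiniteDimensional ℂ V] [Nontrivial V]
    (ρ : Representation ℂ G V) (A : Subgroup G)
    (hA : ∀ a ∈ A, ∀ b ∈ A, ρ a * ρ b = ρ b * ρ a) :
    ∃ (lam : G → ℂ) (v : V), v ≠ 0 ∧ ∀ a ∈ A, ρ a v = lam a • v := by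
  classical
  let f : A → Module.End ℂ V := fun a => ρ (a : G)
  have h1 := Module.End.iSup_iInf_maxGenEigenspace_eq_top_of_iSup_maxGenEigenspace_eq_top_of_commute
    f (fun a b _ => hA a a.2 b b.2) (fun a => Module.End.iSup_maxGenEigenspace_eq_top _)
  have h2 : ∃ χ : A → ℂ, ⨅ i, (f i).maxGenEigenspace (χ i) ≠ ⊥ := by
    by_contra h
    push Not at h
    have h3 : (⨆ χ : A → ℂ, ⨅ i, (f i).maxGenEigenspace (χ i)) = ⊥ := by
      rw [iSup_eq_bot]
      exact h
    rw [h1] at h3
    exact top_ne_bot h3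
  obtain ⟨χ, hχ⟩ := h2
  obtain ⟨v, hv, hv0⟩ := Submodule.exists_mem_ne_zero_of_ne_bot hχ
  refine ⟨fun g => if h : g ∈ A then χ ⟨g, h⟩ else 0, v, hv0, ?_⟩
  intro a ha
  rw [Submodule.mem_iInf] at hv
  have h4 := hv ⟨a, ha⟩
  rw [((isSemisimple_rep ρ a).isFinitelySemisimple).maxGenEigenspace_eq_eigenspace,
    Module.End.mem_eigenspace_iff] at h4
  simp only [dif_pos ha]
  exact h4

/-- The stabilizer of (the restriction to `A` of) `lam`. -/
def stab (A : Subgroup G) [hA : A.Normal] (lam : G → ℂ) : Subgroup G where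
  carrier := {g | ∀ a ∈ A, lam (g⁻¹ * a * g) = lam a}
  one_mem' := by
    intro a _
    simp
  mul_mem' := by
    intro g h hg hh a ha
    have h1 : (g * h)⁻¹ * a * (g * h) = h⁻¹ * (g⁻¹ * a * g) * h := by group
    rw [h1, hh _ (by simpa using hA.conj_mem a ha g⁻¹), hg a ha]
  inv_mem' := by
    intro g hg a ha
    rw [inv_inv]
    have h1 := hg (g * a * g⁻¹) (hA.conj_mem a ha g)
    have h2 : g⁻¹ * (g * a * g⁻¹) * g = a := by group
    rw [h2] at h1
    exact h1.symm

theorem mem_stab (A : Subgroup G) [hA : A.Normal] (lam : G → ℂ) (g : G) :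
    g ∈ stab A lam ↔ ∀ a ∈ A, lam (g⁻¹ * a * g) = lam a := Iff.rfl

/-- The averaged projection onto the `lam`-eigenspace of `A`. -/
noncomputable def eig (ρ : Representation ℂ G V) (A : Subgroup G) [Fintype A] (lam : G → ℂ) :
    Module.End ℂ V :=
  (Nat.card A : ℂ)⁻¹ • ∑ a : A, (lam (a : G))⁻¹ • (ρ (a : G) : Module.End ℂ V)

variable (ρ : Representation ℂ G V) (A : Subgroup G) [Fintype A] (lam : G → ℂ)

theorem eig_apply_of (h0 : ∀ a ∈ A, lam a ≠ 0) (v : V) (hv : ∀ a ∈ A, ρ a v = lam a • v) :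
    eig ρ A lam v = v := by
  have hA : (Nat.card A : ℂ) ≠ 0 := by
    rw [Nat.card_eq_fintype_card]
    exact Nat.cast_ne_zero.mpr Fintype.card_ne_zero
  simp only [eig, LinearMap.smul_apply, LinearMap.sum_apply]
  rw [Finset.sum_congr rfl (g := fun _ => v) (fun a _ => by
    rw [hv a a.2, smul_smul, inv_mul_cancel₀ (h0 a a.2), one_smul])]
  rw [Finset.sum_const, Finset.card_univ, ← Nat.card_eq_fintype_card,
    ← Nat.cast_smul_eq_nsmul ℂ, smul_smul, inv_mul_cancel₀ hA, one_smul]

theorem mul_eig (hm : ∀ a ∈ A, ∀ b ∈ A, lam (a * b) = lam a * lam b) (h0 : ∀ a ∈ A, lam a ≠ 0)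
    (a : G) (ha : a ∈ A) : ρ a * eig ρ A lam = lam a • eig ρ A lam := by
  simp only [eig]
  rw [mul_smul_comm, smul_comm]
  congr 1
  rw [Finset.mul_sum, Finset.smul_sum]
  refine Fintype.sum_equiv (Equiv.mulLeft (⟨a, ha⟩ : A)) _ _ (fun b => ?_)
  simp only [Equiv.coe_mulLeft, Subgroup.coe_mul]
  rw [mul_smul_comm, hm a ha b b.2, smul_smul, map_mul]
  congr 1
  have := h0 a ha
  have := h0 b b.2
  field_simp

theorem eig_mul (hm : ∀ a ∈ A, ∀ b ∈ A, lam (a * b) = lam a * lam b) (h0 : ∀ a ∈ A, lam a ≠ 0)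
    (a : G) (ha : a ∈ A) : eig ρ A lam * ρ a = lam a • eig ρ A lam := by
  simp only [eig]
  rw [smul_mul_assoc, smul_comm]
  congr 1
  rw [Finset.sum_mul, Finset.smul_sum]
  refine Fintype.sum_equiv (Equiv.mulRight (⟨a, ha⟩ : A)) _ _ (fun b => ?_)
  simp only [Equiv.coe_mulRight, Subgroup.coe_mul]
  rw [smul_mul_assoc, hm b b.2 a ha, smul_smul, map_mul]
  congr 1
  have := h0 a ha
  have := h0 b b.2
  field_simp

theorem eig_mul_eig (hm : ∀ a ∈ A, ∀ b ∈ A, lam (a * b) = lam a * lam b)
    (h0 : ∀ a ∈ A, lam a ≠ 0) : eig ρ A lam * eig ρ A lam = eig ρ A lam := by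
  ext v
  rw [Module.End.mul_apply]
  apply eig_apply_of ρ A lam h0
  intro a ha
  exact congrArg (fun F : Module.End ℂ V => F v) (mul_eig ρ A lam hm h0 a ha)

theorem eig_comm [hA : A.Normal] (t : G) (ht : t ∈ stab A lam) :
    eig ρ A lam * ρ t = ρ t * eig ρ A lam := by
  simp only [eig]
  rw [smul_mul_assoc, mul_smul_comm]
  congr 1
  rw [Finset.sum_mul, Finset.mul_sum]
  refine Fintype.sum_equiv (MulAut.conjNormal t⁻¹).toEquiv _ _ (fun b => ?_)
  have h1 : (((MulAut.conjNormal t⁻¹).toEquiv b : A) : G) = t⁻¹ * b * t := by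
    show ((MulAut.conjNormal t⁻¹ b : A) : G) = _
    rw [MulAut.conjNormal_apply, inv_inv]
  rw [h1, ht b b.2, smul_mul_assoc, mul_smul_comm, ← map_mul, ← map_mul]
  congr 2
  group

theorem eig_zero [hA : A.Normal] (hm : ∀ a ∈ A, ∀ b ∈ A, lam (a * b) = lam a * lam b)
    (h0 : ∀ a ∈ A, lam a ≠ 0) (y : G) (hy : y ∉ stab A lam) :
    eig ρ A lam * ρ y * eig ρ A lam = 0 := by
  rw [mem_stab] at hy
  push Not at hy
  obtain ⟨a, ha, hne⟩ := hy
  have hc : y⁻¹ * a * y ∈ A := by simpa using hA.conj_mem a ha y⁻¹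
  have h1 : eig ρ A lam * ρ a * ρ y * eig ρ A lam =
      lam a • (eig ρ A lam * ρ y * eig ρ A lam) := by
    rw [eig_mul ρ A lam hm h0 a ha, smul_mul_assoc, smul_mul_assoc]
  have h2 : eig ρ A lam * ρ a * ρ y * eig ρ A lam =
      lam (y⁻¹ * a * y) • (eig ρ A lam * ρ y * eig ρ A lam) := by
    have h3 : ρ a * ρ y = ρ y * ρ (y⁻¹ * a * y) := by
      rw [← map_mul, ← map_mul]
      congr 1
      group
    rw [mul_assoc (eig ρ A lam), h3, mul_assoc, mul_assoc (ρ y), mul_eig ρ A lam hm h0 _ hc,
      mul_smul_comm, mul_smul_comm, ← mul_assoc]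
  rw [h1] at h2
  have h4 : (lam a - lam (y⁻¹ * a * y)) • (eig ρ A lam * ρ y * eig ρ A lam) = 0 := by
    rw [sub_smul, h2, sub_self]
  rcases smul_eq_zero.mp h4 with h5 | h5
  · exact absurd (sub_eq_zero.mp h5).symm hne
  · exact h5

omit [Fintype A] in
/-- Multiplicativity and non-vanishing of the eigenvalue function. -/
theorem lam_mul_of_eigenvector {v : V} (hv : v ≠ 0) (h : ∀ a ∈ A, ρ a v = lam a • v) :
    (∀ a ∈ A, ∀ b ∈ A, lam (a * b) = lam a * lam b) ∧ ∀ a ∈ A, lam a ≠ 0 := by
  have hinj : ∀ c d : ℂ, c • v = d • v → c = d := fun c d hcd => smul_left_injective ℂ hv hcd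
  have hmul : ∀ a ∈ A, ∀ b ∈ A, lam (a * b) = lam a * lam b := by
    intro a ha b hb
    apply hinj
    rw [← h (a * b) (A.mul_mem ha hb), map_mul, Module.End.mul_apply, h b hb, map_smul, h a ha,
      smul_smul, mul_comm]
  refine ⟨hmul, fun a ha h0 => ?_⟩
  have h1 : lam (a⁻¹ * a) = lam a⁻¹ * lam a := hmul a⁻¹ (A.inv_mem ha) a ha
  rw [inv_mul_cancel, h0, mul_zero] at h1
  have h2 := h 1 A.one_mem
  rw [h1, zero_smul, map_one] at h2
  exact hv h2

end isotypic

end Cfsg.Agent.CharactersDeep.Imprimitivity
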