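import Mathlib
import Cfsg.Prelude.Def_Characters
import Cfsg.Agent.Characters.Core
import Cfsg.Agent.Characters.Linear
import Cfsg.Agent.CharDeep.LinearChar
import Cfsg.Agent.CharactersDeep.NormalInd
import Cfsg.Agent.CharactersDeep.AbelianQuotient

/-!
# Characters induced from a supplement of an abelian section

Tools for the theorem that an irreducible character induced from a maximal subgroup, whose
restriction to a normal subgroup with solvable quotient is irreducible, is not quasi-primitive.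
-/

set_option autoImplicit false

open scoped ComplexConjugate
open Cfsg

namespace Cfsg.Agent.CharactersDeep.MaxInduced

open Cfsg.Agent.Characters.Core Cfsg.Agent.CharactersDeep.AbelianQuotient

/-- A character whose restriction along a homomorphism is irreducible is irreducible. -/
theorem isIrr_of_comp {X Y : Type*} [Group X] [Group Y] [Finite Y] (f : Y →* X) {α : X → ℂ}
    (hα : IsCharacter X α) (h : IsIrrCharacter Y (α ∘ f)) : IsIrrCharacter X α := by
  obtain ⟨n, ρ, rfl⟩ := hα
  obtain ⟨m, σ, hσ, hσρ⟩ := h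
  have h1 : σ.character = Representation.character (ρ.comp f) := hσρ
  obtain ⟨e⟩ := nonempty_equiv_of_character_eq _ _ h1
  have h2 : Representation.IsIrreducible (ρ.comp f) := isIrreducible_of_equiv e hσ
  exact ⟨n, ρ, Cfsg.Agent.CharDeep.LinearChar.isIrreducible_of_comp f ρ h2, rfl⟩

variable {G : Type*} [Group G] [Fintype G]

open scoped Classical in
/-- sum of squares of absolute values over a subgroup -/
noncomputable def sumSq (X : Subgroup G) (f : G → ℂ) : ℝ :=
  ∑ g ∈ Finset.univ.filter (fun g => g ∈ X), Complex.normSq (f g)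

open scoped Classical in
theorem sumSq_def (X : Subgroup G) (f : G → ℂ) :
    sumSq X f = ∑ g ∈ Finset.univ.filter (fun g => g ∈ X), Complex.normSq (f g) := rfl

theorem sumSq_eq (X : Subgroup G) [Fintype X] (f : G → ℂ) :
    sumSq X f = ∑ x : X, Complex.normSq (f x) := by
  classical
  rw [sumSq_def]
  exact Finset.sum_subtype (p := fun g => g ∈ X) (Finset.univ.filter (fun g => g ∈ X))
    (by simp) (fun g => Complex.normSq (f g))

theorem classInner_eq_sumSq (X : Subgroup G) [Fintype X] (f : G → ℂ) :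
    classInner (fun x : X => f x) (fun x : X => f x) =
      (((Nat.card X : ℝ)⁻¹ * sumSq X f : ℝ) : ℂ) := by
  rw [classInner_self_eq_ofReal, sumSq_eq]

theorem sumSq_nonneg (X : Subgroup G) (f : G → ℂ) : 0 ≤ sumSq X f := by
  classical
  rw [sumSq_def]
  exact Finset.sum_nonneg fun _ _ => Complex.normSq_nonneg _

theorem sumSq_mono {X Y : Subgroup G} (h : X ≤ Y) (f : G → ℂ) : sumSq X f ≤ sumSq Y f := by
  classical
  rw [sumSq_def, sumSq_def]
  refine Finset.sum_le_sum_of_subset_of_nonneg ?_ fun _ _ _ => Complex.normSq_nonneg _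
  intro g hg
  simp only [Finset.mem_filter, Finset.mem_univ, true_and] at hg ⊢
  exact h hg

/-- if the two sums agree the function vanishes on the difference -/
theorem eq_zero_of_sumSq_le {X Y : Subgroup G} (h : X ≤ Y) {f : G → ℂ}
    (hle : sumSq Y f ≤ sumSq X f) {g : G} (hgY : g ∈ Y) (hgX : g ∉ X) : f g = 0 := by
  classical
  by_contra hne
  have h1 : sumSq X f < sumSq Y f := by
    rw [sumSq_def, sumSq_def]
    refine Finset.sum_lt_sum_of_subset (i := g) ?_ ?_ ?_ (Complex.normSq_pos.2 hne)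
      fun _ _ _ => Complex.normSq_nonneg _
    · intro x hx
      simp only [Finset.mem_filter, Finset.mem_univ, true_and] at hx ⊢
      exact h hx
    · simpa using hgY
    · simpa using hgX
  exact absurd hle (not_le.2 h1)

theorem sumSq_eq_of_vanish {X Y : Subgroup G} (h : X ≤ Y) {f : G → ℂ}
    (hf : ∀ g ∈ Y, g ∉ X → f g = 0) : sumSq Y f = sumSq X f := by
  classical
  rw [sumSq_def, sumSq_def]
  symm
  refine Finset.sum_subset ?_ ?_
  · intro x hx
    simp only [Finset.mem_filter, Finset.mem_univ, true_and] at hx ⊢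
    exact h hx
  · intro g hg hg'
    simp only [Finset.mem_filter, Finset.mem_univ, true_and] at hg hg'
    rw [hf g hg hg', map_zero]

theorem sumSq_congr {X : Subgroup G} {f f' : G → ℂ}
    (hf : ∀ g ∈ X, Complex.normSq (f g) = Complex.normSq (f' g)) : sumSq X f = sumSq X f' := by
  classical
  rw [sumSq_def, sumSq_def]
  refine Finset.sum_congr rfl fun g hg => hf g ?_
  simpa using hg

theorem sumSq_const_mul (X : Subgroup G) (c : ℂ) (f : G → ℂ) :
    sumSq X (fun g => c * f g) = Complex.normSq c * sumSq X f := by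
  classical
  rw [sumSq_def, sumSq_def, Finset.mul_sum]
  exact Finset.sum_congr rfl fun g _ => Complex.normSq_mul _ _

theorem sumSq_top_irr {η : G → ℂ} (hη : IsIrrCharacter G η) :
    sumSq (⊤ : Subgroup G) η = Nat.card G := by
  classical
  have h1 := classInner_irr_self hη
  rw [classInner_self_eq_ofReal] at h1
  have hG : (Nat.card G : ℝ) ≠ 0 := Nat.cast_ne_zero.2 Nat.card_pos.ne'
  have h2 : (Nat.card G : ℝ)⁻¹ * ∑ g : G, Complex.normSq (η g) = 1 := by exact_mod_cast h1
  rw [sumSq_def]
  have h3 : (Finset.univ.filter (fun g : G => g ∈ (⊤ : Subgroup G))) = Finset.univ := by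
    ext g; simp
  rw [h3]
  field_simp at h2
  exact h2

theorem sumSq_of_irr (X : Subgroup G) (f : G → ℂ) (h : IsIrrCharacter X (fun x : X => f x)) :
    sumSq X f = Nat.card X := by
  classical
  have h1 := classInner_irr_self h
  rw [classInner_eq_sumSq] at h1
  have hG : (Nat.card X : ℝ) ≠ 0 := Nat.cast_ne_zero.2 Nat.card_pos.ne'
  have h2 : (Nat.card X : ℝ)⁻¹ * sumSq X f = 1 := by exact_mod_cast h1
  field_simp at h2
  exact h2

omit [Fintype G] in
theorem card_mul_card_eq (N K J : Subgroup G) [hN : N.Normal] (hNJ : N ⊔ J = ⊤)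
    (hNJK : N ⊓ J = K) : Nat.card G * Nat.card K = Nat.card N * Nat.card J := by
  have h1 : N.index = K.relIndex J := by
    rw [← hNJK, Subgroup.inf_relIndex_right, ← Subgroup.relIndex_top_right, ← hNJ, sup_comm,
      Subgroup.relIndex_sup_right]
  have hKJ : K ≤ J := hNJK ▸ inf_le_right
  have h2 : K.relIndex J * Nat.card K = Nat.card J := by
    rw [Subgroup.relIndex, ← Subgroup.index_mul_card (K.subgroupOf J)]
    congr 1
    exact (Nat.card_congr (Subgroup.subgroupOfEquivOfLe hKJ).toEquiv).symm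
  rw [← Subgroup.card_mul_index N, h1, ← h2]
  ring

open scoped Classical in
/-- Value on a normal subgroup `N` with `N ⊓ J = K` of the character induced from `J`, when the
restriction to `K` is invariant. -/
theorem indFun_of_mem (N K J : Subgroup G) [hN : N.Normal] [hK : K.Normal] (hNJK : N ⊓ J = K)
    (ϑ : J → ℂ)
    (hinv : ∀ g k : G, k ∈ K → extendByZero J ϑ (g * k * g⁻¹) = extendByZero J ϑ k)
    {n : G} (hn : n ∈ N) :
    indFun J ϑ n = if n ∈ K then (J.index : ℂ) * extendByZero J ϑ n else 0 := by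
  have hJ0 : (Nat.card J : ℂ) ≠ 0 := Nat.cast_ne_zero.2 Nat.card_pos.ne'
  rw [indFun_apply]
  split_ifs with h
  · have h1 : ∀ x : G, extendByZero J ϑ (x⁻¹ * n * x) = extendByZero J ϑ n := by
      intro x
      have := hinv x⁻¹ n h
      rwa [inv_inv] at this
    rw [Finset.sum_congr rfl fun x _ => h1 x, Finset.sum_const, nsmul_eq_mul, Finset.card_univ,
      ← Nat.card_eq_fintype_card, ← mul_assoc]
    congr 1
    rw [← Subgroup.card_mul_index J, Nat.cast_mul, ← mul_assoc, inv_mul_cancel₀ hJ0, one_mul]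
  · rw [Finset.sum_eq_zero, mul_zero]
    intro x _
    apply extendByZero_of_notMem
    intro hx
    apply h
    have h2 : x⁻¹ * n * x ∈ N := by
      have := hN.conj_mem n hn x⁻¹
      rwa [inv_inv] at this
    have h3 : x⁻¹ * n * x ∈ K := by
      rw [← hNJK]
      exact ⟨h2, hx⟩
    have h4 := hK.conj_mem _ h3 x
    have e : x * (x⁻¹ * n * x) * x⁻¹ = n := by group
    rwa [e] at h4

/-- The norm of the restriction to `N`. -/
theorem sumSq_indFun (N K J : Subgroup G) [hN : N.Normal] [hK : K.Normal] (hNJ : N ⊔ J = ⊤)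
    (hNJK : N ⊓ J = K) (ϑ : J → ℂ)
    (hinv : ∀ g k : G, k ∈ K → extendByZero J ϑ (g * k * g⁻¹) = extendByZero J ϑ k)
    (hKirr : sumSq K (extendByZero J ϑ) = Nat.card K) :
    sumSq N (indFun J ϑ) = (J.index : ℝ) * Nat.card N := by
  classical
  have hKN : K ≤ N := hNJK ▸ inf_le_left
  have h1 : sumSq N (indFun J ϑ) = sumSq K (indFun J ϑ) := by
    refine sumSq_eq_of_vanish hKN ?_
    intro g hg hgK
    rw [indFun_of_mem N K J hNJK ϑ hinv hg, if_neg hgK]
  have h2 : sumSq K (indFun J ϑ) = sumSq K (fun g => (J.index : ℂ) * extendByZero J ϑ g) := by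
    refine sumSq_congr ?_
    intro g hg
    rw [indFun_of_mem N K J hNJK ϑ hinv (hKN hg), if_pos hg]
  have h3 : J.index * Nat.card K = Nat.card N := by
    have h4 := card_mul_card_eq N K J hNJ hNJK
    rw [← Subgroup.card_mul_index J, mul_assoc, mul_comm] at h4
    exact Nat.eq_of_mul_eq_mul_right Nat.card_pos h4
  rw [h1, h2, sumSq_const_mul, hKirr, Complex.normSq_natCast, ← h3, Nat.cast_mul]
  ring

/-- Main lemma. -/
theorem normal_of_homogeneous (N K J : Subgroup G) [hN : N.Normal] [hK : K.Normal]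
    (hNJ : N ⊔ J = ⊤) (hNJK : N ⊓ J = K)
    (hab : ∀ x y : G, x * y * x⁻¹ * y⁻¹ ∈ N) (hcop : N.index.Coprime J.index)
    (ϑ : J → ℂ)
    (hirr : ∀ C : Subgroup G, K ≤ C → C ≤ J → sumSq C (extendByZero J ϑ) = Nat.card C)
    (hinv : ∀ g k : G, k ∈ K → extendByZero J ϑ (g * k * g⁻¹) = extendByZero J ϑ k)
    (η : G → ℂ) (hη : IsIrrCharacter G η) (f : ℕ) (hf : indFun J ϑ = (f : ℂ) • η) :
    J.Normal := by
  classical
  have hG0 : (Nat.card G : ℝ) ≠ 0 := Nat.cast_ne_zero.2 Nat.card_pos.ne'
  have hJ0 : (Nat.card J : ℝ) ≠ 0 := Nat.cast_ne_zero.2 Nat.card_pos.ne'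
  have hJ0' : (Nat.card J : ℂ) ≠ 0 := Nat.cast_ne_zero.2 Nat.card_pos.ne'
  have hN0 : (Nat.card N : ℝ) ≠ 0 := Nat.cast_ne_zero.2 Nat.card_pos.ne'
  have hKJ : K ≤ J := hNJK ▸ inf_le_right
  have hKirr := hirr K le_rfl hKJ
  -- step 1 and 2 : `f ^ 2 = [G : J]`
  obtain ⟨Λ, hΛ, hΛc, hΛ1, hΛ2⟩ := exists_linear_dual N hab
  have h1 := sumSq_indFun N K J hNJ hNJK ϑ hinv hKirr
  have hf' : indFun J ϑ = fun g => (f : ℂ) * η g := by
    rw [hf]; rfl
  rw [hf', sumSq_const_mul, Complex.normSq_natCast] at h1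
  have h2 := classInner_restrict_self N hη Λ hΛ1 hΛ2
  rw [classInner_eq_sumSq] at h2
  set r : ℕ := (Λ.filter (fun l => (fun g => (l g : ℂ)) * η = η)).card with hr
  have h3 : (Nat.card N : ℝ)⁻¹ * sumSq N η = r := by exact_mod_cast h2
  have h4 : sumSq N η = r * Nat.card N := by
    rw [← h3]
    field_simp
  have h5 : f * f * r = J.index := by
    rw [h4] at h1
    have : ((f * f * r : ℕ) : ℝ) * Nat.card N = (J.index : ℝ) * Nat.card N := by
      rw [← h1]; push_cast; ring
    exact_mod_cast mul_right_cancel₀ hN0 this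
  -- `r` divides `N.index`
  have h6 : r ∣ N.index := by
    let S1 : Subgroup (G →* ℂˣ) :=
      { carrier := {l | ∀ n ∈ N, l n = 1}
        mul_mem' := by
          intro a b ha hb n hn
          rw [MonoidHom.mul_apply, ha n hn, hb n hn, mul_one]
        one_mem' := fun n _ => rfl
        inv_mem' := by
          intro a ha n hn
          rw [MonoidHom.inv_apply, ha n hn, inv_one] }
    let S2 : Subgroup (G →* ℂˣ) :=
      { carrier := {l | (∀ n ∈ N, l n = 1) ∧ ∀ g, (l g : ℂ) * η g = η g}
        mul_mem' := by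
          rintro a b ⟨ha, ha'⟩ ⟨hb, hb'⟩
          refine ⟨fun n hn => by rw [MonoidHom.mul_apply, ha n hn, hb n hn, mul_one],
            fun g => ?_⟩
          rw [MonoidHom.mul_apply, Units.val_mul, mul_assoc, hb', ha']
        one_mem' := ⟨fun n _ => rfl, fun g => by
          rw [MonoidHom.one_apply, Units.val_one, one_mul]⟩
        inv_mem' := by
          rintro a ⟨ha, ha'⟩
          refine ⟨fun n hn => by rw [MonoidHom.inv_apply, ha n hn, inv_one], fun g => ?_⟩
          rw [MonoidHom.inv_apply]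
          conv_lhs => rw [← ha' g, ← mul_assoc, Units.inv_mul, one_mul] }
    have hle : S2 ≤ S1 := fun l hl => hl.1
    have hc1 : Nat.card S1 = N.index := by
      rw [← hΛc]
      exact Nat.subtype_card Λ hΛ
    have hc2 : Nat.card S2 = r := by
      rw [hr]
      refine Nat.subtype_card _ fun l => ?_
      rw [Finset.mem_filter, hΛ]
      exact and_congr Iff.rfl funext_iff
    rw [← hc1, ← hc2]
    have : Finite S1 := Nat.finite_of_card_ne_zero (by
      rw [hc1]; exact Subgroup.index_ne_zero_of_finite)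
    exact Subgroup.card_dvd_of_le hle
  have h7 : r = 1 := by
    have : r ∣ J.index := ⟨f * f, by rw [← h5]; ring⟩
    exact Nat.eq_one_of_dvd_coprimes hcop h6 this
  have h8 : f * f = J.index := by rw [← h5, h7, mul_one]
  have h9 : (f : ℝ) * f * Nat.card J = Nat.card G := by
    rw [← Nat.cast_mul, ← Nat.cast_mul, h8, Subgroup.index_mul_card]
  have hf0 : f ≠ 0 := by
    intro h
    rw [h, zero_mul] at h8
    exact Subgroup.index_ne_zero_of_finite h8.symm
  have hf0' : (f : ℂ) ≠ 0 := Nat.cast_ne_zero.2 hf0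
  -- Frobenius reciprocity
  set t : G → ℂ := extendByZero J ϑ with ht
  have h10 : ∑ j : J, t j * conj (η j) = f * Nat.card J := by
    have e1 := Cfsg.Agent.CharactersDeep.NormalInd.classInner_indFun J ϑ η
      (isIrr_isClassFunction hη)
    rw [hf, classInner_smul_left, classInner_irr_self hη, mul_one, classInner_def] at e1
    have e2 : ∑ g : J, ϑ g * conj (η g) = ∑ j : J, t j * conj (η j) := by
      refine Finset.sum_congr rfl fun j _ => ?_
      rw [ht, extendByZero_of_mem J ϑ j.2]
    rw [e2] at e1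
    rw [e1, mul_comm, ← mul_assoc, mul_inv_cancel₀ hJ0', one_mul]
  -- the difference `η - f * t` has norm at most zero on `J`
  have h11 : sumSq J (fun g => η g - f * t g) = sumSq J η - Nat.card G := by
    have e1 : ∀ a b : ℂ, Complex.normSq (a - f * b) =
        Complex.normSq a + f * f * Complex.normSq b - 2 * f * (b * conj a).re := by
      intro a b
      rw [Complex.normSq_sub, Complex.normSq_mul, Complex.normSq_natCast, map_mul,
        Complex.conj_natCast]
      have : (a * (f * conj b)).re = f * (b * conj a).re := by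
        have e3 : a * ((f : ℂ) * conj b) = (f : ℝ) * (a * conj b) := by push_cast; ring
        rw [e3, Complex.re_ofReal_mul]
        congr 1
        simp only [Complex.mul_re, Complex.conj_re, Complex.conj_im]
        ring
      rw [this]
      ring
    rw [sumSq_eq, sumSq_eq]
    rw [Finset.sum_congr rfl fun (j : J) _ => e1 (η j) (t j), Finset.sum_sub_distrib,
      Finset.sum_add_distrib, ← Finset.mul_sum, ← Finset.mul_sum, ← Complex.re_sum, h10,
      ← sumSq_eq J t, hirr J hKJ le_rfl, h9]
    have e2 : ((f : ℂ) * (Nat.card J : ℂ)).re = f * Nat.card J := by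
      rw [← Nat.cast_mul, Complex.natCast_re, Nat.cast_mul]
    rw [e2]
    linarith [h9]
  have h12 : sumSq J η ≤ Nat.card G := by
    rw [← sumSq_top_irr hη]
    exact sumSq_mono le_top η
  have h13 : sumSq J (fun g => η g - f * t g) = 0 :=
    le_antisymm (by rw [h11]; linarith) (sumSq_nonneg _ _)
  have h14 : sumSq J η = Nat.card G := by
    rw [h13] at h11; linarith
  have h15 : ∀ j ∈ J, η j = f * t j := by
    intro j hj
    have e1 : sumSq J (fun g => η g - f * t g) ≤ sumSq (⊥ : Subgroup G) (fun g => η g - f * t g) := by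
      rw [h13]; exact sumSq_nonneg _ _
    rw [sumSq_def] at h13
    have e2 := (Finset.sum_eq_zero_iff_of_nonneg fun _ _ => Complex.normSq_nonneg _).1 h13 j
      (by simpa using hj)
    exact sub_eq_zero.1 (Complex.normSq_eq_zero.1 e2)
  have h16 : ∀ g, g ∉ J → η g = 0 := by
    intro g hg
    refine eq_zero_of_sumSq_le (X := J) (Y := ⊤) le_top ?_ (Subgroup.mem_top g) hg
    rw [sumSq_top_irr hη, h14]
  -- the intersections with conjugates
  have h17 : ∀ g : G, ∀ j ∈ J, g⁻¹ * j * g ∈ J := by
    intro g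
    let C : Subgroup G := J ⊓ J.map (MulAut.conj g).toMonoidHom
    have hmem : ∀ j, j ∈ J.map (MulAut.conj g).toMonoidHom ↔ g⁻¹ * j * g ∈ J := by
      intro j
      constructor
      · rintro ⟨x, hx, rfl⟩
        have : g⁻¹ * (MulAut.conj g).toMonoidHom x * g = x := by
          simp [mul_assoc]
        rw [this]
        exact hx
      · intro h
        refine ⟨_, h, ?_⟩
        simp [mul_assoc]
    have hKC : K ≤ C := by
      intro k hk
      refine ⟨hKJ hk, (hmem k).2 (hKJ ?_)⟩
      have := hK.conj_mem k hk g⁻¹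
      rwa [inv_inv] at this
    have hCJ : C ≤ J := inf_le_left
    have e1 : ∀ j ∈ J, j ∉ C → t j = 0 := by
      intro j hj hjC
      have e2 : η j = 0 := by
        have e3 : η (g⁻¹ * j * g) = η j := by
          have := isIrr_isClassFunction hη j g⁻¹
          rwa [inv_inv] at this
        rw [← e3]
        apply h16
        intro h
        exact hjC ⟨hj, (hmem j).2 h⟩
      rw [h15 j hj] at e2
      exact (mul_eq_zero.1 e2).resolve_left hf0'
    have e4 : sumSq J t = sumSq C t := sumSq_eq_of_vanish hCJ e1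
    rw [hirr J hKJ le_rfl, hirr C hKC hCJ] at e4
    have e5 : C = J := by
      have e6 : Nat.card J = Nat.card C := by exact_mod_cast e4
      exact Subgroup.eq_of_le_of_card_ge hCJ e6.le
    intro j hj
    rw [← e5] at hj
    exact (hmem j).1 hj.2
  refine ⟨fun j hj g => ?_⟩
  have := h17 g⁻¹ j hj
  rwa [inv_inv] at this

/-- Restriction to a normal supplement of an induced class function. -/
theorem indFun_restrict (M H : Subgroup G) [hM : M.Normal] (hMH : M ⊔ H = ⊤) [Fintype M]
    (ϑ : H → ℂ) (hϑ : IsClassFunction H ϑ) (m : M) :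
    indFun H ϑ (m : G) =
      indFun (H.subgroupOf M) (fun j => ϑ ⟨(j : M), Subgroup.mem_subgroupOf.1 j.2⟩) m := by
  classical
  set ϑ' : (H.subgroupOf M) → ℂ := fun j => ϑ ⟨(j : M), Subgroup.mem_subgroupOf.1 j.2⟩ with hϑ'
  have hext : ∀ x : M, extendByZero (H.subgroupOf M) ϑ' x = extendByZero H ϑ (x : G) := by
    intro x
    by_cases hx : (x : G) ∈ H
    · rw [extendByZero_of_mem H ϑ hx,
        extendByZero_of_mem (H.subgroupOf M) ϑ' (Subgroup.mem_subgroupOf.2 hx)]
    · rw [extendByZero_of_notMem H ϑ hx,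
        extendByZero_of_notMem (H.subgroupOf M) ϑ' (fun h => hx (Subgroup.mem_subgroupOf.1 h))]
  let F : G → ℂ := fun x => extendByZero H ϑ (x⁻¹ * m * x)
  have hF : ∀ x h : G, h ∈ H → F (x * h) = F x := by
    intro x h hh
    change extendByZero H ϑ ((x * h)⁻¹ * m * (x * h)) = extendByZero H ϑ (x⁻¹ * m * x)
    have e : (x * h)⁻¹ * m * (x * h) = h⁻¹ * (x⁻¹ * m * x) * h := by group
    rw [e]
    by_cases hx : x⁻¹ * (m : G) * x ∈ H
    · have hx' : h⁻¹ * (x⁻¹ * m * x) * h ∈ H := H.mul_mem (H.mul_mem (H.inv_mem hh) hx) hh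
      rw [extendByZero_of_mem H ϑ hx, extendByZero_of_mem H ϑ hx']
      have := hϑ ⟨_, hx⟩ ⟨h⁻¹, H.inv_mem hh⟩
      rw [← this]
      congr 1
      exact Subtype.ext (by simp)
    · have hx' : h⁻¹ * (x⁻¹ * m * x) * h ∉ H := by
        intro h2
        apply hx
        have := H.mul_mem (H.mul_mem hh h2) (H.inv_mem hh)
        have e2 : h * (h⁻¹ * (x⁻¹ * m * x) * h) * h⁻¹ = x⁻¹ * m * x := by group
        rwa [e2] at this
      rw [extendByZero_of_notMem H ϑ hx, extendByZero_of_notMem H ϑ hx']
  have hA : ∀ x : G, ∑ y : M, F (y * x) = ∑ y : M, F y := by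
    intro x
    have hx : x ∈ M ⊔ H := by rw [hMH]; exact Subgroup.mem_top x
    obtain ⟨a, ha, h, hh, rfl⟩ := Subgroup.mem_sup_of_normal_left.1 hx
    refine Fintype.sum_equiv (Equiv.mulRight (⟨a, ha⟩ : M)) _ _ fun y => ?_
    rw [← mul_assoc, hF _ _ hh]
    rfl
  have hsum : (Nat.card M : ℂ) * ∑ x : G, F x = (Nat.card G : ℂ) * ∑ y : M, F y := by
    have e1 : ∑ x : G, ∑ y : M, F (y * x) = (Nat.card G : ℂ) * ∑ y : M, F y := by
      rw [Finset.sum_congr rfl fun x _ => hA x, Finset.sum_const, nsmul_eq_mul, Finset.card_univ,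
        ← Nat.card_eq_fintype_card]
    rw [← e1, Finset.sum_comm]
    have e2 : ∀ y : M, ∑ x : G, F (y * x) = ∑ x : G, F x := by
      intro y
      exact Fintype.sum_equiv (Equiv.mulLeft (y : G)) _ _ fun x => rfl
    rw [Finset.sum_congr rfl fun y _ => e2 y, Finset.sum_const, nsmul_eq_mul, Finset.card_univ,
      ← Nat.card_eq_fintype_card]
  have hcard : Nat.card G * Nat.card (H.subgroupOf M) = Nat.card M * Nat.card H := by
    have e1 : Nat.card (H.subgroupOf M) = Nat.card (M ⊓ H : Subgroup G) := by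
      rw [← Subgroup.inf_subgroupOf_left]
      exact Nat.card_congr (Subgroup.subgroupOfEquivOfLe inf_le_left).toEquiv
    rw [e1]
    exact card_mul_card_eq M (M ⊓ H) H hMH rfl
  have hM0 : (Nat.card M : ℂ) ≠ 0 := Nat.cast_ne_zero.2 Nat.card_pos.ne'
  have hG0 : (Nat.card G : ℂ) ≠ 0 := Nat.cast_ne_zero.2 Nat.card_pos.ne'
  have hH0 : (Nat.card H : ℂ) ≠ 0 := Nat.cast_ne_zero.2 Nat.card_pos.ne'
  have hS0 : (Nat.card (H.subgroupOf M) : ℂ) ≠ 0 := Nat.cast_ne_zero.2 Nat.card_pos.ne'
  have hcard' : (Nat.card G : ℂ) * Nat.card (H.subgroupOf M) = Nat.card M * Nat.card H := by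
    exact_mod_cast hcard
  rw [indFun_apply, indFun_apply]
  have e3 : ∑ x : M, extendByZero (H.subgroupOf M) ϑ' (x⁻¹ * m * x) = ∑ y : M, F y := by
    refine Finset.sum_congr rfl fun x _ => ?_
    rw [hext]
    rfl
  rw [e3]
  change (Nat.card H : ℂ)⁻¹ * ∑ x : G, F x = _
  have e4 : ∑ x : G, F x = (Nat.card M : ℂ)⁻¹ * ((Nat.card G : ℂ) * ∑ y : M, F y) := by
    rw [← hsum, ← mul_assoc, inv_mul_cancel₀ hM0, one_mul]
  rw [e4]
  have e5 : (Nat.card G : ℂ) = (Nat.card M : ℂ) * Nat.card H * (Nat.card (H.subgroupOf M) : ℂ)⁻¹ := by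
    rw [← hcard', mul_assoc, mul_inv_cancel₀ hS0, mul_one]
  rw [e5]
  field_simp

/-- If the restriction to a normal subgroup `K` of an induced character is a multiple of an
irreducible character, the restriction to `K` of the inducing character is invariant. -/
theorem invariant_of_homogeneous (K H : Subgroup G) [hK : K.Normal] (hKH : K ≤ H) (ϑ : H → ℂ)
    (hϑK : IsIrrCharacter K (fun k : K => ϑ ⟨k, hKH k.2⟩))
    (φ : K → ℂ) (hφ : IsIrrCharacter K φ) (e : ℕ)
    (he : (fun k : K => indFun H ϑ k) = (e : ℂ) • φ) :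
    ∀ g k : G, k ∈ K → extendByZero H ϑ (g * k * g⁻¹) = extendByZero H ϑ k := by
  classical
  set t := extendByZero H ϑ with ht
  set ψ : K → ℂ := fun k => t k with hψ
  have hψirr : IsIrrCharacter K ψ := by
    have : ψ = fun k : K => ϑ ⟨k, hKH k.2⟩ := by
      funext k
      rw [hψ, ht]
      exact extendByZero_of_mem H ϑ (hKH k.2)
    rw [this]
    exact hϑK
  have hconj : ∀ x : G, IsIrrCharacter K (fun k : K => t (x⁻¹ * k * x)) := by
    intro x
    have h1 := isIrr_comp ((MulAut.conjNormal x⁻¹ : MulAut K) : K →* K)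
      (MulAut.conjNormal x⁻¹ : MulAut K).surjective hψirr
    have h2 : (ψ ∘ ((MulAut.conjNormal x⁻¹ : MulAut K) : K →* K)) =
        fun k : K => t (x⁻¹ * k * x) := by
      funext k
      change t ((MulAut.conjNormal x⁻¹ : MulAut K) k : K) = _
      rw [MulAut.conjNormal_apply, inv_inv]
    rw [h2] at h1
    exact h1
  have hind : (fun k : K => indFun H ϑ k) =
      (Nat.card H : ℂ)⁻¹ • ∑ x : G, fun k : K => t (x⁻¹ * k * x) := by
    funext k
    rw [indFun_apply, Pi.smul_apply, Finset.sum_apply, smul_eq_mul]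
  have hinner : classInner (fun k : K => indFun H ϑ k) ψ ≠ 0 := by
    rw [hind, classInner_smul_left, classInner_sum_left]
    refine mul_ne_zero (inv_ne_zero (Nat.cast_ne_zero.2 Nat.card_pos.ne')) ?_
    have h1 : ∀ x : G, classInner (fun k : K => t (x⁻¹ * k * x)) ψ =
        ((if (fun k : K => t (x⁻¹ * k * x)) = ψ then 1 else 0 : ℕ) : ℂ) := by
      intro x
      rw [classInner_irr (hconj x) hψirr]
      split_ifs <;> simp
    rw [Finset.sum_congr rfl fun x _ => h1 x, ← Nat.cast_sum, Nat.cast_ne_zero]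
    have h2 : (1 : ℕ) ≤ ∑ x : G, if (fun k : K => t (x⁻¹ * k * x)) = ψ then 1 else 0 := by
      have h3 : (if (fun k : K => t ((1 : G)⁻¹ * k * 1)) = ψ then 1 else 0) ≤
          ∑ x : G, if (fun k : K => t (x⁻¹ * k * x)) = ψ then 1 else 0 :=
        Finset.single_le_sum (f := fun x : G => if (fun k : K => t (x⁻¹ * k * x)) = ψ then 1 else 0)
          (fun _ _ => Nat.zero_le _) (Finset.mem_univ (1 : G))
      rw [if_pos (by
        funext k
        rw [inv_one, one_mul, mul_one])] at h3
      exact h3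
    omega
  have hφψ : φ = ψ := by
    by_contra hne
    apply hinner
    rw [he, classInner_smul_left, classInner_irr_ne hφ hψirr hne, mul_zero]
  have he0 : (e : ℂ) ≠ 0 := by
    intro h0
    apply hinner
    rw [he, h0, zero_smul, classInner_zero_left]
  intro g k hk
  have h1 : ∀ (x : G) (hx : x ∈ K), indFun H ϑ x = e * t x := by
    intro x hx
    have := congrFun he ⟨x, hx⟩
    rw [hφψ] at this
    exact this
  have h2 := h1 k hk
  have h3 := h1 _ (hK.conj_mem k hk g)
  rw [Cfsg.Agent.CharactersDeep.NormalInd.indFun_isClassFunction H ϑ k g, h2] at h3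
  exact (mul_left_cancel₀ he0 h3).symm

end Cfsg.Agent.CharactersDeep.MaxInduced
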