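import Mathlib
import Cfsg.Agent.CharactersDeep.Cover

/-!
# The multiplicity space as a representation of the cover, and the degree ratio theorem
-/

set_option autoImplicit false

open Representation Module

namespace Cfsg.Agent.CharactersDeep.Mult

open Cfsg.Agent.CharactersDeep.InvRep Cfsg.Agent.CharactersDeep.ScalarIndex
  Cfsg.Agent.CharactersDeep.Cover

variable {G : Type*} [Group G] {N : Subgroup G} [hN : N.Normal] {V : Type*} [AddCommGroup V]
  [Module ℂ V] {W : Type*} [AddCommGroup W] [Module ℂ W]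

/-- The space of linear maps `V → W` intertwining `ρ` and the restriction of `σ` to `N`, as a
subrepresentation of `Hom(V, W)` for the covering group. -/
noncomputable def mult (ρ : Representation ℂ N V) (σ : Representation ℂ G W) :
    Subrepresentation (linHom (rep ρ) (σ.comp (proj ρ) : Representation ℂ (cover ρ) W)) where
  toSubmodule :=
    { carrier := {f | ∀ n : N, f ∘ₗ ρ n = σ (n : G) ∘ₗ f}
      add_mem' := fun {f g} hf hg n => by
        rw [LinearMap.add_comp, LinearMap.comp_add, hf n, hg n]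
      zero_mem' := fun n => by rw [LinearMap.zero_comp, LinearMap.comp_zero]
      smul_mem' := fun c f hf n => by
        rw [LinearMap.smul_comp, LinearMap.comp_smul, hf n] }
  apply_mem_toSubmodule x f hf n := by
    rw [linHom_apply]
    show (σ (proj ρ x) ∘ₗ f ∘ₗ rep ρ x⁻¹) ∘ₗ ρ n = σ (n : G) ∘ₗ (σ (proj ρ x) ∘ₗ f ∘ₗ rep ρ x⁻¹)
    have h1 : rep ρ x⁻¹ ∘ₗ ρ n = ρ (MulAut.conjNormal (proj ρ x)⁻¹ n) ∘ₗ rep ρ x⁻¹ := by
      have := rep_conj ρ x⁻¹ n
      rw [map_inv (proj ρ)] at this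
      exact this
    have h2 : σ (proj ρ x) ∘ₗ σ ((MulAut.conjNormal (proj ρ x)⁻¹ n : N) : G) =
        σ (n : G) ∘ₗ σ (proj ρ x) := by
      have h3 : σ (proj ρ x) * σ ((MulAut.conjNormal (proj ρ x)⁻¹ n : N) : G) =
        σ (n : G) * σ (proj ρ x) := by
        rw [← map_mul, ← map_mul]
        congr 1
        rw [MulAut.conjNormal_apply]
        group
      exact h3
    rw [LinearMap.comp_assoc, LinearMap.comp_assoc, h1, ← LinearMap.comp_assoc _ _ f, hf,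
      LinearMap.comp_assoc, ← LinearMap.comp_assoc _ _ (σ (proj ρ x)), h2, LinearMap.comp_assoc]

theorem mem_mult (ρ : Representation ℂ N V) (σ : Representation ℂ G W) (f : V →ₗ[ℂ] W) :
    f ∈ (mult ρ σ).toSubmodule ↔ ∀ n : N, f ∘ₗ ρ n = σ (n : G) ∘ₗ f := Iff.rfl

/-- The multiplicity space is the space of intertwining maps. -/
noncomputable def multEquiv (ρ : Representation ℂ N V) (σ : Representation ℂ G W) :
    (mult ρ σ).toSubmodule ≃ₗ[ℂ]
      IntertwiningMap ρ (σ.comp N.subtype : Representation ℂ N W) where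
  toFun f := ⟨f.1, f.2⟩
  invFun f := ⟨f.toLinearMap, f.isIntertwining'⟩
  map_add' _ _ := rfl
  map_smul' _ _ := rfl
  left_inv _ := rfl
  right_inv _ := rfl

variable [Finite G] [FiniteDimensional ℂ V] [FiniteDimensional ℂ W]

omit hN [Finite G] in
/-- The Schur averaging formula. -/
theorem sum_conj_eq_smul [Fintype G] (σ : Representation ℂ G W) (hσ : σ.IsIrreducible)
    (M : Module.End ℂ W) : ∃ c : ℂ, c * finrank ℂ W = Nat.card G * LinearMap.trace ℂ W M ∧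
      ∑ g : G, σ g * M * σ g⁻¹ = c • (1 : Module.End ℂ W) := by
  obtain ⟨c, hc⟩ := exists_smul_of_comm σ hσ (∑ g : G, σ g * M * σ g⁻¹) (fun x => by
    rw [Finset.sum_mul, Finset.mul_sum]
    refine Fintype.sum_equiv (Equiv.mulLeft x⁻¹) _ _ fun g => ?_
    simp only [Equiv.coe_mulLeft, mul_inv_rev, inv_inv, map_mul]
    have h1 : σ x * σ x⁻¹ = 1 := by rw [← map_mul, mul_inv_cancel, map_one]
    simp only [← mul_assoc]
    rw [h1, one_mul])
  refine ⟨c, ?_, hc⟩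
  have h1 := congrArg (LinearMap.trace ℂ W) hc
  rw [map_sum, map_smul, LinearMap.trace_one, smul_eq_mul] at h1
  rw [← h1]
  have h2 : ∀ g : G, LinearMap.trace ℂ W (σ g * M * σ g⁻¹) = LinearMap.trace ℂ W M := by
    intro g
    rw [LinearMap.trace_mul_comm, ← mul_assoc, ← map_mul, inv_mul_cancel, map_one, one_mul]
  rw [Finset.sum_congr rfl fun g _ => h2 g, Finset.sum_const, Finset.card_univ,
    Nat.card_eq_fintype_card, nsmul_eq_mul]

omit [Finite G] in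
/-- The averaging of `C` over `N` is zero or a multiple of a member of the cover. -/
theorem average_intertwines [Fintype N] (ρ : Representation ℂ N V) (hρ : ρ.IsIrreducible) (g : G)
    (C : Module.End ℂ V) :
    ∃ (x : cover ρ) (c : ℂ), (c ≠ 0 → proj ρ x = g) ∧
      ∑ n : N, ρ (MulAut.conjNormal g n) * C * ρ n⁻¹ = c • rep ρ x := by
  set B : Module.End ℂ V := ∑ n : N, ρ (MulAut.conjNormal g n) * C * ρ n⁻¹ with hB
  have hcomm : ∀ m : N, B * ρ m = ρ (MulAut.conjNormal g m) * B := by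
    intro m
    rw [hB, Finset.sum_mul, Finset.mul_sum]
    refine Fintype.sum_equiv (Equiv.mulLeft m⁻¹) _ _ fun n => ?_
    simp only [Equiv.coe_mulLeft, mul_inv_rev, inv_inv, map_mul]
    have h1 : ρ (MulAut.conjNormal g m) * ρ (MulAut.conjNormal g m⁻¹) = 1 := by
      rw [← map_mul, ← map_mul, mul_inv_cancel, map_one, map_one]
    simp only [← mul_assoc]
    rw [h1, one_mul]
  have hc := conjRep_irreducible ρ hρ g
  let f : IntertwiningMap ρ (conjRep ρ g) := ⟨B, hcomm⟩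
  rcases IsIrreducible.bijective_or_eq_zero f with hbij | h0
  · let e : V ≃ₗ[ℂ] V := LinearEquiv.ofBijective B hbij
    have heB : e.toLinearMap = B := rfl
    let Bu : (Module.End ℂ V)ˣ := ⟨e.toLinearMap, e.symm.toLinearMap,
      by ext v; exact e.apply_symm_apply v, by ext v; exact e.symm_apply_apply v⟩
    obtain ⟨x, hx, c, -, hc⟩ := exists_mem_cover ρ hρ g Bu hcomm
    exact ⟨x, c, fun _ => hx, hc⟩
  · refine ⟨1, 0, fun h => absurd rfl h, ?_⟩
    rw [zero_smul]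
    exact congrArg IntertwiningMap.toLinearMap h0

/-- The multiplicity space is an irreducible representation of the cover. -/
theorem mult_irreducible (ρ : Representation ℂ N V) (hρ : ρ.IsIrreducible)
    (σ : Representation ℂ G W) (hσ : σ.IsIrreducible)
    (hne : ∃ f ∈ (mult ρ σ).toSubmodule, f ≠ 0) : (mult ρ σ).toRepresentation.IsIrreducible := by
  classical
  have := Fintype.ofFinite G
  have := Fintype.ofFinite N
  have hW : Nontrivial W := ((isIrreducible_iff σ).1 hσ).1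
  have hdimW : (finrank ℂ W : ℂ) ≠ 0 := Nat.cast_ne_zero.2 (Module.finrank_pos).ne'
  rw [isIrreducible_iff]
  refine ⟨?_, fun p hp => ?_⟩
  · obtain ⟨f, hf, hf0⟩ := hne
    exact ⟨⟨f, hf⟩, 0, fun h => hf0 (congrArg Subtype.val h)⟩
  by_cases hbot : p = ⊥
  · exact Or.inl hbot
  right
  obtain ⟨f₁, hf₁, hf₁0⟩ := (Submodule.ne_bot_iff p).1 hbot
  rw [eq_top_iff]
  rintro f₂ -
  -- choose R with trace (f₁ R) ≠ 0
  have hf₁0' : (f₁ : V →ₗ[ℂ] W) ≠ 0 := fun h => hf₁0 (Subtype.ext h)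
  obtain ⟨v, hv⟩ : ∃ v, (f₁ : V →ₗ[ℂ] W) v ≠ 0 := by
    by_contra h
    push Not at h
    exact hf₁0' (LinearMap.ext h)
  obtain ⟨φ, hφ⟩ : ∃ φ : Module.Dual ℂ W, φ ((f₁ : V →ₗ[ℂ] W) v) ≠ 0 := by
    by_contra h
    push Not at h
    exact hv ((Module.forall_dual_apply_eq_zero_iff ℂ _).1 h)
  let R : W →ₗ[ℂ] V := φ.smulRight v
  have htr : LinearMap.trace ℂ W ((f₁ : V →ₗ[ℂ] W) ∘ₗ R) ≠ 0 := by
    have : (f₁ : V →ₗ[ℂ] W) ∘ₗ R = φ.smulRight ((f₁ : V →ₗ[ℂ] W) v) := by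
      ext w
      simp [R]
    rw [this, LinearMap.trace_smulRight]
    exact hφ
  obtain ⟨c, hc1, hc2⟩ := sum_conj_eq_smul σ hσ ((f₁ : V →ₗ[ℂ] W) ∘ₗ R)
  have hc0 : c ≠ 0 := by
    rintro rfl
    rw [zero_mul] at hc1
    exact mul_ne_zero (Nat.cast_ne_zero.2 Nat.card_pos.ne') htr hc1.symm
  -- the expression of f₂
  have hexp : ∑ g : G, σ g ∘ₗ (f₁ : V →ₗ[ℂ] W) ∘ₗ (R ∘ₗ σ g⁻¹ ∘ₗ (f₂ : V →ₗ[ℂ] W)) =
      c • (f₂ : V →ₗ[ℂ] W) := by
    have h1 := congrArg (fun x : Module.End ℂ W => x ∘ₗ (f₂ : V →ₗ[ℂ] W)) hc2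
    simp only [LinearMap.smul_comp] at h1
    have h2 : (1 : Module.End ℂ W) ∘ₗ (f₂ : V →ₗ[ℂ] W) = f₂ := LinearMap.id_comp _
    rw [h2] at h1
    rw [← h1]
    ext w
    simp [LinearMap.sum_apply]
  -- average over N
  have hexp2 : ∑ g : G, σ g ∘ₗ (f₁ : V →ₗ[ℂ] W) ∘ₗ
      (∑ n : N, ρ (MulAut.conjNormal g⁻¹ n) * (R ∘ₗ σ g⁻¹ ∘ₗ (f₂ : V →ₗ[ℂ] W)) * ρ n⁻¹) =
      ((Nat.card N : ℂ) * c) • (f₂ : V →ₗ[ℂ] W) := by
    have h1 : ∀ n : N, ∑ g : G, σ g ∘ₗ (f₁ : V →ₗ[ℂ] W) ∘ₗ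
        (ρ (MulAut.conjNormal g⁻¹ n) * (R ∘ₗ σ g⁻¹ ∘ₗ (f₂ : V →ₗ[ℂ] W)) * ρ n⁻¹) =
        c • (f₂ : V →ₗ[ℂ] W) := by
      intro n
      have h2 : ∀ g : G, σ g ∘ₗ (f₁ : V →ₗ[ℂ] W) ∘ₗ
          (ρ (MulAut.conjNormal g⁻¹ n) * (R ∘ₗ σ g⁻¹ ∘ₗ (f₂ : V →ₗ[ℂ] W)) * ρ n⁻¹) =
          σ (n : G) ∘ₗ (σ g ∘ₗ (f₁ : V →ₗ[ℂ] W) ∘ₗ (R ∘ₗ σ g⁻¹ ∘ₗ (f₂ : V →ₗ[ℂ] W))) ∘ₗ
            ρ n⁻¹ := by
        intro g
        have h3 : (f₁ : V →ₗ[ℂ] W) ∘ₗ ρ (MulAut.conjNormal g⁻¹ n) =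
          σ ((MulAut.conjNormal g⁻¹ n : N) : G) ∘ₗ (f₁ : V →ₗ[ℂ] W) := f₁.2 _
        have h4 : σ g ∘ₗ σ ((MulAut.conjNormal g⁻¹ n : N) : G) = σ (n : G) ∘ₗ σ g := by
          have h5 : σ g * σ ((MulAut.conjNormal g⁻¹ n : N) : G) = σ (n : G) * σ g := by
            rw [← map_mul, ← map_mul]
            congr 1
            rw [MulAut.conjNormal_apply]
            group
          exact h5
        simp only [Module.End.mul_eq_comp, LinearMap.comp_assoc]
        rw [← LinearMap.comp_assoc _ _ (f₁ : V →ₗ[ℂ] W), h3, LinearMap.comp_assoc,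
          ← LinearMap.comp_assoc _ _ (σ g), h4, LinearMap.comp_assoc]
      rw [Finset.sum_congr rfl fun g _ => h2 g]
      have h6 : ∑ g : G, σ (n : G) ∘ₗ (σ g ∘ₗ (f₁ : V →ₗ[ℂ] W) ∘ₗ
          (R ∘ₗ σ g⁻¹ ∘ₗ (f₂ : V →ₗ[ℂ] W))) ∘ₗ ρ n⁻¹ =
          σ (n : G) ∘ₗ (∑ g : G, (σ g ∘ₗ (f₁ : V →ₗ[ℂ] W) ∘ₗ
            (R ∘ₗ σ g⁻¹ ∘ₗ (f₂ : V →ₗ[ℂ] W)))) ∘ₗ ρ n⁻¹ := by
        ext w
        simp [LinearMap.sum_apply]
      rw [h6, hexp, LinearMap.smul_comp, LinearMap.comp_smul]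
      congr 1
      have h7 : (f₂ : V →ₗ[ℂ] W) ∘ₗ ρ n = σ (n : G) ∘ₗ (f₂ : V →ₗ[ℂ] W) := f₂.2 n
      rw [← LinearMap.comp_assoc, ← h7, LinearMap.comp_assoc]
      have h8 : ρ n ∘ₗ ρ n⁻¹ = LinearMap.id := by
        have : ρ n * ρ n⁻¹ = 1 := by rw [← map_mul, mul_inv_cancel, map_one]
        exact this
      rw [h8, LinearMap.comp_id]
    have h2 : ∑ n : N, ∑ g : G, σ g ∘ₗ (f₁ : V →ₗ[ℂ] W) ∘ₗ
        (ρ (MulAut.conjNormal g⁻¹ n) * (R ∘ₗ σ g⁻¹ ∘ₗ (f₂ : V →ₗ[ℂ] W)) * ρ n⁻¹) =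
        ((Nat.card N : ℂ) * c) • (f₂ : V →ₗ[ℂ] W) := by
      rw [Finset.sum_congr rfl fun n _ => h1 n, Finset.sum_const, Finset.card_univ,
        Nat.card_eq_fintype_card, ← Nat.cast_smul_eq_nsmul ℂ, smul_smul]
    rw [← h2, Finset.sum_comm]
    refine Finset.sum_congr rfl fun g _ => ?_
    ext w
    simp [LinearMap.sum_apply]
  have hNc : (Nat.card N : ℂ) * c ≠ 0 :=
    mul_ne_zero (Nat.cast_ne_zero.2 Nat.card_pos.ne') hc0
  -- every summand is in p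
  let p' : Submodule ℂ (V →ₗ[ℂ] W) := p.map (mult ρ σ).toSubmodule.subtype
  have hmem : ∀ g : G, σ g ∘ₗ (f₁ : V →ₗ[ℂ] W) ∘ₗ
      (∑ n : N, ρ (MulAut.conjNormal g⁻¹ n) * (R ∘ₗ σ g⁻¹ ∘ₗ (f₂ : V →ₗ[ℂ] W)) * ρ n⁻¹) ∈ p' := by
    intro g
    obtain ⟨x, d, hx, hd⟩ := average_intertwines ρ hρ g⁻¹ (R ∘ₗ σ g⁻¹ ∘ₗ (f₂ : V →ₗ[ℂ] W))
    rw [hd]
    by_cases hd0 : d = 0
    · rw [hd0, zero_smul, LinearMap.comp_zero, LinearMap.comp_zero]
      exact p'.zero_mem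
    · have hxg := hx hd0
      have h1 := hp x⁻¹ f₁ hf₁
      have h2 : (((mult ρ σ).toRepresentation x⁻¹ f₁ : (mult ρ σ).toSubmodule) :
          V →ₗ[ℂ] W) = σ g ∘ₗ (f₁ : V →ₗ[ℂ] W) ∘ₗ rep ρ x := by
        show linHom (rep ρ) (σ.comp (proj ρ) : Representation ℂ (cover ρ) W) x⁻¹
          (f₁ : V →ₗ[ℂ] W) = _
        rw [linHom_apply, inv_inv]
        show σ (proj ρ x⁻¹) ∘ₗ _ = _
        rw [map_inv, hxg, inv_inv]
      have h3 : σ g ∘ₗ (f₁ : V →ₗ[ℂ] W) ∘ₗ rep ρ x ∈ p' := by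
        rw [← h2]
        exact Submodule.mem_map_of_mem h1
      rw [LinearMap.comp_smul, LinearMap.comp_smul]
      exact p'.smul_mem _ h3
  have hf₂ : (f₂ : V →ₗ[ℂ] W) ∈ p' := by
    have h1 : ((Nat.card N : ℂ) * c) • (f₂ : V →ₗ[ℂ] W) ∈ p' := by
      rw [← hexp2]
      exact Submodule.sum_mem _ fun g _ => hmem g
    have h2 := p'.smul_mem ((Nat.card N : ℂ) * c)⁻¹ h1
    rw [smul_smul, inv_mul_cancel₀ hNc, one_smul] at h2
    exact h2
  obtain ⟨f₃, hf₃, hf₃'⟩ := hf₂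
  have : f₃ = f₂ := Subtype.ext hf₃'
  rw [← this]
  exact hf₃

/-- Sums of an irreducible representation against a class function are scalars. -/
theorem sum_classFun {H : Type*} [Group H] [Fintype H] {U : Type*} [AddCommGroup U] [Module ℂ U]
    [FiniteDimensional ℂ U] (τ : Representation ℂ H U) (hτ : τ.IsIrreducible) (a : H → ℂ)
    (ha : ∀ x h : H, a (x * h * x⁻¹) = a h) :
    ∃ c : ℂ, c * finrank ℂ U = ∑ h : H, a h * τ.character h ∧
      ∑ h : H, a h • τ h = c • (1 : Module.End ℂ U) := by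
  obtain ⟨c, hc⟩ := exists_smul_of_comm τ hτ (∑ h : H, a h • τ h) (fun x => by
    rw [Finset.sum_mul, Finset.mul_sum]
    refine Fintype.sum_equiv (MulAut.conj x⁻¹).toEquiv _ _ fun g => ?_
    have h1 : (MulAut.conj x⁻¹).toEquiv g = x⁻¹ * g * (x⁻¹)⁻¹ := rfl
    rw [h1, ha, smul_mul_assoc, mul_smul_comm, ← map_mul, ← map_mul]
    congr 2
    group)
  refine ⟨c, ?_, hc⟩
  have h1 := congrArg (LinearMap.trace ℂ U) hc
  rw [map_sum, map_smul, LinearMap.trace_one, smul_eq_mul] at h1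
  rw [← h1]
  refine Finset.sum_congr rfl fun g _ => ?_
  rw [map_smul, smul_eq_mul]
  rfl

/-- The degree formula from Clifford's theorem: `σ(1) = |G : T| e ρ(1)`. -/
theorem degree_formula (ρ : Representation ℂ N V) (hρ : ρ.IsIrreducible)
    (σ : Representation ℂ G W) (hσ : σ.IsIrreducible)
    (hne : ∃ f ∈ (mult ρ σ).toSubmodule, f ≠ 0) :
    finrank ℂ W * Nat.card (proj ρ).range =
      Nat.card G * finrank ℂ (mult ρ σ).toSubmodule * finrank ℂ V := by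
  classical
  have := Fintype.ofFinite G
  have := Fintype.ofFinite N
  have hV : Nontrivial V := ((isIrreducible_iff ρ).1 hρ).1
  have hN0 : (Nat.card N : ℂ) ≠ 0 := Nat.cast_ne_zero.2 Nat.card_pos.ne'
  have hinv : Invertible (Nat.card N : ℂ) := invertibleOfNonzero hN0
  set T := (proj ρ).range with hT
  -- the element Z
  set Z : Module.End ℂ W := ∑ g : G, ∑ n : N, ρ.character n⁻¹ • σ (g * n * g⁻¹) with hZ
  have hZ1 : Z = ∑ g : G, σ g * (∑ n : N, ρ.character n⁻¹ • σ (n : G)) * σ g⁻¹ := by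
    rw [hZ]
    refine Finset.sum_congr rfl fun g _ => ?_
    rw [Finset.mul_sum, Finset.sum_mul]
    refine Finset.sum_congr rfl fun n _ => ?_
    rw [mul_smul_comm, smul_mul_assoc, map_mul, map_mul]
  obtain ⟨c, hc1, hc2⟩ := sum_conj_eq_smul σ hσ (∑ n : N, ρ.character n⁻¹ • σ (n : G))
  rw [← hZ1] at hc2
  have hc3 : c * finrank ℂ W = Nat.card G * (Nat.card N * finrank ℂ (mult ρ σ).toSubmodule) := by
    rw [hc1]
    congr 1
    have h1 := card_inv_mul_sum_char_mul_char_eq_finrank ρ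
      (σ.comp N.subtype : Representation ℂ N W)
    rw [← (multEquiv ρ σ).finrank_eq] at h1
    rw [← h1, mul_inv_cancel_left₀ hN0, map_sum]
    refine Finset.sum_congr rfl fun n _ => ?_
    rw [map_smul, smul_eq_mul, mul_comm]
    rfl
  -- the scalars for the conjugates
  have hs : ∀ g : G, ∃ s : ℂ, s * finrank ℂ V = (if g ∈ T then (Nat.card N : ℂ) else 0) ∧
      ∑ n : N, ρ.character n⁻¹ • conjRep ρ g n = s • (1 : Module.End ℂ V) := by
    intro g
    obtain ⟨s, hs1, hs2⟩ := sum_classFun (conjRep ρ g) (conjRep_irreducible ρ hρ g)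
      (fun n => ρ.character n⁻¹) (fun x h => by
        have : (x * h * x⁻¹)⁻¹ = x * h⁻¹ * x⁻¹ := by group
        rw [this, char_conj])
    refine ⟨s, ?_, hs2⟩
    rw [hs1]
    have hi := conjRep_irreducible ρ hρ g
    have h1 := char_orthonormal (conjRep ρ g) ρ
    have h2 : ∑ n : N, ρ.character n⁻¹ * (conjRep ρ g).character n =
        Nat.card N * ((Nat.card N : ℂ)⁻¹ *
          ∑ n : N, (conjRep ρ g).character n * ρ.character n⁻¹) := by
      rw [mul_inv_cancel_left₀ hN0]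
      exact Finset.sum_congr rfl fun n _ => mul_comm _ _
    rw [h2, h1]
    have h3 : Nonempty (ρ.Equiv (conjRep ρ g)) ↔ g ∈ T := by
      rw [hT, mem_range_proj ρ hρ]
      constructor
      · rintro ⟨e⟩ n
        rw [← conjRep_character, ← char_iso e]
      · intro h
        exact nonempty_equiv_of_character_eq ρ (conjRep ρ g) hρ hi (by
          ext n
          rw [conjRep_character, h])
    by_cases hg : g ∈ T
    · rw [if_pos (h3.2 hg), if_pos hg, mul_one]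
    · rw [if_neg (fun h => hg (h3.1 h)), if_neg hg, mul_zero]
  choose s hs1 hs2 using hs
  obtain ⟨f, hf, hf0⟩ := hne
  have hZf : Z ∘ₗ f = (∑ g : G, s g) • f := by
    have h1 : Z ∘ₗ f = ∑ g : G, f ∘ₗ (∑ n : N, ρ.character n⁻¹ • conjRep ρ g n) := by
      rw [hZ]
      ext v
      simp only [LinearMap.comp_apply, LinearMap.sum_apply, map_sum, LinearMap.smul_apply,
        map_smul]
      refine Finset.sum_congr rfl fun g _ => Finset.sum_congr rfl fun n _ => ?_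
      congr 1
      exact (LinearMap.congr_fun (hf (MulAut.conjNormal g n)) v).symm
    rw [h1, Finset.sum_smul]
    refine Finset.sum_congr rfl fun g _ => ?_
    rw [hs2, LinearMap.comp_smul]
    congr 1
  have hcs : c = ∑ g : G, s g := by
    rw [hc2, LinearMap.smul_comp] at hZf
    have h2 : (1 : Module.End ℂ W) ∘ₗ f = f := LinearMap.id_comp _
    rw [h2] at hZf
    exact smul_left_injective ℂ hf0 hZf
  have hc4 : c * finrank ℂ V = Nat.card T * Nat.card N := by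
    rw [hcs, Finset.sum_mul, Finset.sum_congr rfl fun g _ => hs1 g, ← Finset.sum_filter,
      Finset.sum_const, nsmul_eq_mul]
    congr 2
    rw [Nat.card_eq_fintype_card, Fintype.card_subtype]
  have hfin : (finrank ℂ W : ℂ) * Nat.card T =
      Nat.card G * finrank ℂ (mult ρ σ).toSubmodule * finrank ℂ V := by
    apply mul_right_cancel₀ hN0
    calc (finrank ℂ W : ℂ) * Nat.card T * Nat.card N = (c * finrank ℂ W) * finrank ℂ V := by
          rw [mul_assoc, ← hc4]; ring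
      _ = _ := by rw [hc3]; ring
  exact_mod_cast hfin

/-- The ratio of degrees divides the index. -/
theorem degree_ratio (ρ : Representation ℂ N V) (hρ : ρ.IsIrreducible)
    (σ : Representation ℂ G W) (hσ : σ.IsIrreducible)
    (hne : ∃ f ∈ (mult ρ σ).toSubmodule, f ≠ 0) :
    finrank ℂ V ∣ finrank ℂ W ∧ finrank ℂ W / finrank ℂ V ∣ N.index := by
  have hV : Nontrivial V := ((isIrreducible_iff ρ).1 hρ).1
  have := finite_cover ρ hρ
  have hirr := mult_irreducible ρ hρ σ hσ hne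
  have hdvd : finrank ℂ (mult ρ σ).toSubmodule ∣ ((N.comap (proj ρ)).index) := by
    refine degree_dvd_index_of_scalar _ hirr _ fun x hx => ?_
    rw [Subgroup.mem_comap] at hx
    obtain ⟨c, hc0, hc⟩ := rep_of_proj_mem ρ hρ x ⟨_, hx⟩ rfl
    refine ⟨c⁻¹, ?_⟩
    ext f : 1
    apply Subtype.ext
    show linHom (rep ρ) (σ.comp (proj ρ) : Representation ℂ (cover ρ) W) x (f : V →ₗ[ℂ] W) =
      c⁻¹ • (f : V →ₗ[ℂ] W)
    rw [linHom_apply]
    show σ (proj ρ x) ∘ₗ (f : V →ₗ[ℂ] W) ∘ₗ rep ρ x⁻¹ = _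
    have h1 : (f : V →ₗ[ℂ] W) ∘ₗ ρ ⟨proj ρ x, hx⟩ = σ (proj ρ x) ∘ₗ (f : V →ₗ[ℂ] W) := f.2 _
    rw [← LinearMap.comp_assoc, ← h1, LinearMap.comp_assoc]
    have h2 : ρ ⟨proj ρ x, hx⟩ = c⁻¹ • rep ρ x := by
      rw [hc, smul_smul, inv_mul_cancel₀ hc0, one_smul]
    rw [h2, LinearMap.smul_comp, LinearMap.comp_smul]
    congr 1
    have h3 : rep ρ x ∘ₗ rep ρ x⁻¹ = LinearMap.id := by
      have : rep ρ x * rep ρ x⁻¹ = 1 := by rw [← map_mul, mul_inv_cancel, map_one]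
      exact this
    rw [h3, LinearMap.comp_id]
  have hNT : N ≤ (proj ρ).range := by
    intro n hn
    rw [mem_range_proj ρ hρ]
    intro m
    have h1 : (⟨n * m * n⁻¹, hN.conj_mem (m : G) m.2 n⟩ : N) = ⟨n, hn⟩ * m * ⟨n, hn⟩⁻¹ := rfl
    rw [h1, char_conj]
  rw [Subgroup.index_comap] at hdvd
  have h1 := degree_formula ρ hρ σ hσ hne
  have h2 : finrank ℂ W = (proj ρ).range.index * finrank ℂ (mult ρ σ).toSubmodule *
      finrank ℂ V := by
    have h3 : Nat.card (proj ρ).range ≠ 0 := Nat.card_pos.ne'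
    apply Nat.eq_of_mul_eq_mul_right (Nat.pos_of_ne_zero h3)
    rw [h1, ← Subgroup.card_mul_index (proj ρ).range]
    ring
  refine ⟨⟨_, by rw [h2, mul_comm]⟩, ?_⟩
  rw [h2, Nat.mul_div_cancel _ Module.finrank_pos, ← Subgroup.relIndex_mul_index hNT,
    mul_comm (N.relIndex _)]
  exact Nat.mul_dvd_mul_left _ hdvd

end Cfsg.Agent.CharactersDeep.Mult
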