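import Mathlib
import Cfsg.Prelude.Def_Characters
import Cfsg.Agent.Characters.Core
import Cfsg.Agent.Characters.Values
import Cfsg.Agent.Characters.Central

/-!
# Linear groups of small degree with a normal p-complement

If `M` is a normal `p'`-subgroup of `G`, `G = M⟨x⟩` with `x` a `p`-element, `x ^ p` central, and
`χ` is an irreducible complex character of `G` of degree `d` with `d + 1 < p`, then `x` acts as a
scalar in the representation affording `χ`.
-/

set_option autoImplicit false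
open Cfsg

namespace Cfsg.Agent.CharactersDeep.SmallDegree

open Cfsg.Agent.Characters.Core
open scoped ComplexConjugate

/-- the norm of a function as a sum of `normSq`. -/
theorem card_mul_inner_re {H : Type*} [Group H] [Fintype H] (f : H → ℂ) :
    (Nat.card H : ℝ) * (classInner f f).re = ∑ x : H, Complex.normSq (f x) := by
  unfold classInner
  have h0 : (Nat.card H : ℝ) ≠ 0 := by exact_mod_cast Nat.card_pos.ne'
  have h1 : ∑ x : H, f x * conj (f x) = ((∑ x : H, Complex.normSq (f x) : ℝ) : ℂ) := by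
    push_cast
    exact Finset.sum_congr rfl fun x _ => Complex.mul_conj _
  rw [h1]
  have h2 : ((Nat.card H : ℂ)⁻¹ * ((∑ x : H, Complex.normSq (f x) : ℝ) : ℂ)) =
    (((Nat.card H : ℝ)⁻¹ * (∑ x : H, Complex.normSq (f x)) : ℝ) : ℂ) := by push_cast; rfl
  rw [h2, Complex.ofReal_re, ← mul_assoc, mul_inv_cancel₀ h0, one_mul]

section central

variable {G : Type*} [Group G]

/-- A central element acts as a scalar of modulus one in an irreducible representation. -/
theorem exists_central_smul [Finite G] {V : Type*} [AddCommGroup V] [Module ℂ V]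
    [FiniteDimensional ℂ V] (ρ : Representation ℂ G V) (hρ : ρ.IsIrreducible) {z : G}
    (hz : ∀ g, g * z = z * g) : ∃ ω : ℂ, ‖ω‖ = 1 ∧ ρ z = ω • (1 : Module.End ℂ V) := by
  obtain ⟨c, hc⟩ := Cfsg.Agent.Characters.Central.exists_smul_of_comm ρ hρ (ρ z) (fun g => by
    rw [← map_mul, ← map_mul, hz g])
  refine ⟨c, ?_, hc⟩
  have h1 : (ρ z) ^ Nat.card G = 1 := Cfsg.Agent.Characters.Values.rep_pow_card ρ z
  have hpos := Cfsg.Agent.Characters.Central.finrank_pos_of_irr ρ hρ
  have : Nontrivial V := Module.nontrivial_of_finrank_pos hpos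
  obtain ⟨v, hv⟩ := exists_ne (0 : V)
  rw [hc, smul_pow, one_pow] at h1
  have h2 := congrArg (fun f : Module.End ℂ V => f v) h1
  simp only [LinearMap.smul_apply, Module.End.one_apply] at h2
  have h3 : c ^ Nat.card G = 1 := by
    have h4 : (c ^ Nat.card G - 1) • v = 0 := by rw [sub_smul, h2, one_smul, sub_self]
    rcases smul_eq_zero.1 h4 with h | h
    · exact sub_eq_zero.1 h
    · exact absurd h hv
  exact Complex.norm_eq_one_of_pow_eq_one h3 Nat.card_pos.ne'

/-- A central element multiplies an irreducible character by a number of modulus one. -/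
theorem exists_central_mul [Finite G] {ψ : G → ℂ} (hψ : IsIrrCharacter G ψ) {z : G}
    (hz : ∀ g, g * z = z * g) : ∃ ω : ℂ, ‖ω‖ = 1 ∧ ∀ g, ψ (g * z) = ω * ψ g := by
  obtain ⟨n, ρ, hρ, rfl⟩ := hψ
  obtain ⟨ω, hω, h⟩ := exists_central_smul ρ hρ hz
  refine ⟨ω, hω, fun g => ?_⟩
  unfold Representation.character
  rw [map_mul, h, mul_smul_comm, mul_one, map_smul, smul_eq_mul]

theorem normSq_mul_central [Finite G] {ψ : G → ℂ} (hψ : IsIrrCharacter G ψ) {z : G}
    (hz : ∀ g, g * z = z * g) (g : G) : Complex.normSq (ψ (g * z)) = Complex.normSq (ψ g) := by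
  obtain ⟨ω, hω, h⟩ := exists_central_mul hψ hz
  rw [h, Complex.normSq_mul, Complex.normSq_eq_norm_sq ω, hω]
  ring

end central

section coset

variable {G : Type*} [Group G]

/-- the p-part argument -/
theorem commute_of_conj {M : Subgroup G} [Finite M] {y : G}
    (hcop : (Nat.card M).Coprime (orderOf y)) {c c' w : G} (hc : c ∈ M) (hc' : c' ∈ M)
    (hcy : c * y = y * c) (hcy' : c' * y = y * c') (h : w * (c * y) * w⁻¹ = c' * y) :
    w * y = y * w := by
  obtain ⟨N, hN0, hN1⟩ := Nat.chineseRemainder hcop 0 1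
  have hcN : ∀ c ∈ M, c ^ N = 1 := by
    intro c hc
    have h1 : Nat.card M ∣ N := (Nat.modEq_zero_iff_dvd).1 hN0
    obtain ⟨k, rfl⟩ := h1
    have h2 : (⟨c, hc⟩ : M) ^ Nat.card M = 1 := pow_card_eq_one'
    have h3 : c ^ Nat.card M = 1 := congrArg Subtype.val h2
    rw [pow_mul, h3, one_pow]
  have hyN : y ^ N = y := by
    have := (pow_eq_pow_iff_modEq (x := y) (n := N) (m := 1)).2 hN1
    rw [this, pow_one]
  have key : ∀ c ∈ M, c * y = y * c → (c * y) ^ N = y := by
    intro c hc hcy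
    have hcomm : Commute c y := hcy
    rw [hcomm.mul_pow, hcN c hc, hyN, one_mul]
  have h1 := congrArg (· ^ N) h
  simp only [conj_pow] at h1
  rw [key c hc hcy, key c' hc' hcy'] at h1
  calc w * y = (w * y * w⁻¹) * w := by group
    _ = y * w := by rw [h1]

/-- Sums of a class function over the coset `M y` and over `C_M(y) y`. -/
theorem sum_coset [Finite G] (M : Subgroup G) [M.Normal] [Fintype M] (y : G)
    (C : Subgroup G) [Fintype C] (hC : ∀ c, c ∈ C ↔ c ∈ M ∧ c * y = y * c)
    (hcop : (Nat.card M).Coprime (orderOf y)) (φ : G → ℝ) (hφ : ∀ u g, φ (u * g * u⁻¹) = φ g) :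
    (Nat.card C : ℝ) * ∑ m : M, φ (m * y) = (Nat.card M : ℝ) * ∑ c : C, φ (c * y) := by
  classical
  have hmem : ∀ (u : M) (c : C), (u : G) * c * y * (u : G)⁻¹ * y⁻¹ ∈ M := by
    intro u c
    have h1 : y * (u : G)⁻¹ * y⁻¹ ∈ M := ‹M.Normal›.conj_mem _ (M.inv_mem u.2) y
    have h2 : (c : G) ∈ M := ((hC c).1 c.2).1
    have : (u : G) * c * y * (u : G)⁻¹ * y⁻¹ = u * c * (y * (u : G)⁻¹ * y⁻¹) := by group
    rw [this]
    exact M.mul_mem (M.mul_mem u.2 h2) h1
  let F : M × C → M := fun p => ⟨(p.1 : G) * p.2 * y * (p.1 : G)⁻¹ * y⁻¹, hmem p.1 p.2⟩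
  have hF : ∀ p : M × C, ((F p : M) : G) * y = p.1 * (p.2 * y) * (p.1 : G)⁻¹ := by
    intro p
    show (p.1 : G) * p.2 * y * (p.1 : G)⁻¹ * y⁻¹ * y = _
    group
  -- fibres have at most |C| elements
  have hfib : ∀ m : M, (Finset.univ.filter (fun p : M × C => F p = m)).card ≤ Fintype.card C := by
    intro m
    by_cases hne : (Finset.univ.filter (fun p : M × C => F p = m)).Nonempty
    · obtain ⟨p₀, hp₀⟩ := hne
      have hp₀' : F p₀ = m := by simpa using hp₀
      have hw : ∀ p : M × C, F p = m → ((p₀.1 : G)⁻¹ * p.1) ∈ C := by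
        intro p hp
        have h1 : (p₀.1 : G) * (p₀.2 * y) * (p₀.1 : G)⁻¹ = p.1 * (p.2 * y) * (p.1 : G)⁻¹ := by
          rw [← hF, ← hF, hp, hp₀']
        have h2 : ((p₀.1 : G)⁻¹ * p.1) * (p.2 * y) * ((p₀.1 : G)⁻¹ * p.1)⁻¹ = p₀.2 * y := by
          calc ((p₀.1 : G)⁻¹ * p.1) * (p.2 * y) * ((p₀.1 : G)⁻¹ * p.1)⁻¹
              = (p₀.1 : G)⁻¹ * (p.1 * (p.2 * y) * (p.1 : G)⁻¹) * p₀.1 := by group
            _ = (p₀.1 : G)⁻¹ * (p₀.1 * (p₀.2 * y) * (p₀.1 : G)⁻¹) * p₀.1 := by rw [h1]
            _ = _ := by group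
        rw [hC]
        refine ⟨M.mul_mem (M.inv_mem p₀.1.2) p.1.2, ?_⟩
        exact commute_of_conj hcop ((hC _).1 p.2.2).1 ((hC _).1 p₀.2.2).1
          ((hC _).1 p.2.2).2 ((hC _).1 p₀.2.2).2 h2
      let T : M × C → C := fun p => if h : F p = m then ⟨(p₀.1 : G)⁻¹ * p.1, hw p h⟩ else 1
      refine Finset.card_le_card_of_injOn T (fun _ _ => Finset.mem_univ _) ?_
      intro p hp q hq hpq
      have hp' : F p = m := by simpa using hp
      have hq' : F q = m := by simpa using hq
      simp only [T, hp', hq', dif_pos] at hpq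
      have h1 : (p₀.1 : G)⁻¹ * p.1 = (p₀.1 : G)⁻¹ * q.1 := congrArg Subtype.val hpq
      have h2 : (p.1 : G) = q.1 := mul_left_cancel h1
      have h3 : p.1 = q.1 := Subtype.ext h2
      have h4 : (p.1 : G) * (p.2 * y) * (p.1 : G)⁻¹ = q.1 * (q.2 * y) * (q.1 : G)⁻¹ := by
        rw [← hF, ← hF, hp', hq']
      rw [h3] at h4
      have h5 : (p.2 : G) = q.2 := by
        have := mul_left_cancel (mul_right_cancel h4)
        exact mul_right_cancel this
      exact Prod.ext h3 (Subtype.ext h5)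
    · rw [Finset.not_nonempty_iff_eq_empty] at hne
      rw [hne]
      simp
  have hsumfib : ∑ m : M, (Finset.univ.filter (fun p : M × C => F p = m)).card =
      Fintype.card M * Fintype.card C := by
    rw [← Finset.card_eq_sum_card_fiberwise (f := F) (s := Finset.univ) (t := Finset.univ)
      (fun _ _ => Finset.mem_univ _)]
    rw [Finset.card_univ, Fintype.card_prod]
  have hfib' : ∀ m : M, (Finset.univ.filter (fun p : M × C => F p = m)).card =
      Fintype.card C := by
    have h1 : ∑ m : M, (Finset.univ.filter (fun p : M × C => F p = m)).card =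
        ∑ m : M, Fintype.card C := by
      rw [hsumfib, Finset.sum_const, Finset.card_univ, smul_eq_mul]
    have h2 := (Finset.sum_eq_sum_iff_of_le (fun m _ => hfib m)).1 h1
    intro m
    exact h2 m (Finset.mem_univ _)
  have e1 : (Nat.card M : ℝ) * ∑ c : C, φ (c * y) = ∑ p : M × C, φ ((F p : M) * y) := by
    rw [Fintype.sum_prod_type]
    simp_rw [hF, hφ]
    rw [Finset.sum_const, Finset.card_univ, nsmul_eq_mul, Nat.card_eq_fintype_card]
  have e2 : ∑ p : M × C, φ ((F p : M) * y) = ∑ m : M, (Fintype.card C : ℝ) * φ (m * y) := by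
    rw [← Finset.sum_fiberwise_of_maps_to (s := Finset.univ) (t := Finset.univ) (g := F)
      (fun _ _ => Finset.mem_univ _)]
    refine Finset.sum_congr rfl fun m _ => ?_
    rw [Finset.sum_congr rfl (g := fun _ => φ (m * y))]
    · rw [Finset.sum_const, hfib' m, nsmul_eq_mul]
    · intro p hp
      rw [(Finset.mem_filter.1 hp).2]
  rw [e1, e2, Finset.mul_sum, Nat.card_eq_fintype_card]

end coset

section decomposition

/-- Decomposition of a character: the multiset of its irreducible constituents. -/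
theorem exists_mult {H : Type*} [Group H] [Fintype H] {χ : H → ℂ} (hχ : IsCharacter H χ) :
    ∃ (s : Finset (H → ℂ)) (m : (H → ℂ) → ℕ), (∀ ψ ∈ s, IsIrrCharacter H ψ) ∧
      χ = ∑ ψ ∈ s, m ψ • ψ := by
  classical
  have := finite_irr (G := H)
  have := Fintype.ofFinite (IrrCharacter H)
  obtain ⟨m, hm⟩ := isCharacter_iff.1 hχ
  refine ⟨Finset.univ.image (fun ψ : IrrCharacter H => (ψ : H → ℂ)),
    fun f => if h : IsIrrCharacter H f then m ⟨f, h⟩ else 0, ?_, ?_⟩
  · intro ψ hψ
    obtain ⟨a, -, rfl⟩ := Finset.mem_image.1 hψ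
    exact a.2
  · rw [Finset.sum_image (fun a _ b _ h => Subtype.ext h), hm]
    refine Finset.sum_congr rfl fun ψ _ => ?_
    simp only [dif_pos ψ.2]

end decomposition

section main

variable {G : Type*} [Group G]

/-- The counting identity behind the main theorem: for `G = M ⋊ A`, `A = ⟨x⟩` a `p`-group with
`x ^ p` central, and `C = C_M(x)`,
`p ⟨χ, χ⟩_{C × A} = ⟨χ, χ⟩_C + p - ⟨χ, χ⟩_M`. -/
theorem count_identity [Fintype G] (p : ℕ) [hp : Fact p.Prime] (M : Subgroup G) [M.Normal]
    [Fintype M] (hM : (Nat.card M).Coprime p) (x : G) (k : ℕ) (hx : orderOf x = p ^ (k + 1))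
    (htop : M ⊔ Subgroup.zpowers x = ⊤) (hxp : ∀ g, g * x ^ p = x ^ p * g)
    [Fintype (Subgroup.zpowers x)]
    (C : Subgroup G) [Fintype C] (hC : ∀ c, c ∈ C ↔ c ∈ M ∧ c * x = x * c)
    (χ : G → ℂ) (hχ : IsIrrCharacter G χ) :
    (p : ℝ) * (classInner (fun q : C × Subgroup.zpowers x => χ (q.1 * q.2))
      (fun q : C × Subgroup.zpowers x => χ (q.1 * q.2))).re =
      (classInner (fun c : C => χ c) (fun c : C => χ c)).re + p -
      (classInner (fun c : M => χ c) (fun c : M => χ c)).re := by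
  classical
  have hp0 : (p : ℝ) ≠ 0 := by exact_mod_cast hp.out.ne_zero
  have hpk : ((p : ℝ) ^ k) ≠ 0 := pow_ne_zero _ hp0
  have hcM : (Nat.card M : ℝ) ≠ 0 := by exact_mod_cast Nat.card_pos.ne'
  have hcC : (Nat.card C : ℝ) ≠ 0 := by exact_mod_cast Nat.card_pos.ne'
  have hcA : Nat.card (Subgroup.zpowers x) = p ^ (k + 1) := by rw [Nat.card_zpowers, hx]
  have hclass : IsClassFunction G χ := isIrr_isClassFunction hχ
  set φ : G → ℝ := fun g => Complex.normSq (χ g) with hφ
  have hφc : ∀ u g, φ (u * g * u⁻¹) = φ g := fun u g => by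
    simp only [hφ]; rw [hclass g u]
  -- the three norms as sums
  have n1 := card_mul_inner_re (fun q : C × Subgroup.zpowers x => χ (q.1 * q.2))
  have n2 := card_mul_inner_re (fun c : C => χ c)
  have n3 := card_mul_inner_re (fun c : M => χ c)
  have n4 := card_mul_inner_re χ
  rw [classInner_irr_self hχ, Complex.one_re, mul_one] at n4
  rw [Nat.card_prod, hcA] at n1
  push_cast at n1
  -- `G = M × A` as a set
  have hdisj : Disjoint M (Subgroup.zpowers x) := by
    apply Subgroup.disjoint_of_coprime_natCard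
    rw [hcA]
    exact Nat.Coprime.pow_right _ hM
  have hcompl : Subgroup.IsComplement' M (Subgroup.zpowers x) := by
    refine Subgroup.isComplement'_of_disjoint_and_mul_eq_univ hdisj ?_
    rw [← Subgroup.normal_mul, htop, Subgroup.coe_top]
  have hcardG : Nat.card G = Nat.card M * p ^ (k + 1) := by
    rw [← hcA]; exact hcompl.card_mul_card.symm
  have hsumG : ∑ g : G, φ g = ∑ y : Subgroup.zpowers x, ∑ m : M, φ (m * y) := by
    rw [Finset.sum_comm, ← Fintype.sum_prod_type']
    exact (Fintype.sum_bijective (fun q : M × Subgroup.zpowers x => (q.1 : G) * q.2) hcompl _ _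
      (fun _ => rfl)).symm
  -- central elements
  have hcent : ∀ y : Subgroup.zpowers x, (y : G) ∈ Subgroup.zpowers (x ^ p) →
      ∀ g : G, φ (g * y) = φ g := by
    intro y hy g
    refine normSq_mul_central hχ ?_ g
    intro g
    obtain ⟨i, hi⟩ := Subgroup.mem_zpowers_iff.1 hy
    rw [← hi]
    have : Commute g (x ^ p) := hxp g
    exact this.zpow_right i
  -- noncentral elements
  have hncent : ∀ y : Subgroup.zpowers x, (y : G) ∉ Subgroup.zpowers (x ^ p) →
      (Nat.card C : ℝ) * ∑ m : M, φ (m * y) = (Nat.card M : ℝ) * ∑ c : C, φ (c * y) := by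
    intro y hy
    obtain ⟨j, hj⟩ := Subgroup.mem_zpowers_iff.1 y.2
    have hpj : ¬ (p : ℤ) ∣ j := by
      rintro ⟨i, rfl⟩
      apply hy
      rw [← hj, zpow_mul, zpow_natCast]
      exact Subgroup.zpow_mem_zpowers _ _
    have hcopj : IsCoprime j ((p : ℤ) ^ (k + 1)) := by
      apply IsCoprime.pow_right
      rw [isCoprime_comm]
      exact (Nat.prime_iff_prime_int.1 hp.out).coprime_iff_not_dvd.2 hpj
    obtain ⟨a, b, hab⟩ := hcopj
    have hxy : x = (y : G) ^ a := by
      have h1 : x ^ ((p : ℤ) ^ (k + 1)) = 1 := by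
        have := pow_orderOf_eq_one x
        rw [hx] at this
        rw [← this, ← zpow_natCast]
        push_cast
        rfl
      calc x = x ^ (a * j + b * (p : ℤ) ^ (k + 1)) := by rw [hab, zpow_one]
        _ = (x ^ j) ^ a * (x ^ ((p : ℤ) ^ (k + 1))) ^ b := by
            rw [zpow_add, mul_comm a j, zpow_mul, mul_comm b, zpow_mul]
        _ = (y : G) ^ a := by rw [h1, one_zpow, mul_one, hj]
    refine sum_coset M y C ?_ ?_ φ hφc
    · intro c
      rw [hC c]
      refine and_congr_right fun _ => ⟨fun h => ?_, fun h => ?_⟩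
      · rw [← hj]
        have : Commute c x := h
        exact this.zpow_right j
      · rw [hxy]
        have : Commute c (y : G) := h
        exact this.zpow_right a
    · have h1 : orderOf (y : G) ∣ p ^ (k + 1) := by
        rw [← hcA, Subgroup.orderOf_coe]
        exact orderOf_dvd_natCard y
      exact Nat.Coprime.coprime_dvd_right h1 (Nat.Coprime.pow_right _ hM)
  -- number of central elements
  have hcount : (Finset.univ.filter
      (fun y : Subgroup.zpowers x => (y : G) ∈ Subgroup.zpowers (x ^ p))).card = p ^ k := by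
    have h1 : orderOf (x ^ p) = p ^ k := by
      rw [orderOf_pow, hx, pow_succ, Nat.gcd_mul_left_left, Nat.mul_div_cancel _ hp.out.pos]
    have hle : Subgroup.zpowers (x ^ p) ≤ Subgroup.zpowers x := by
      rw [Subgroup.zpowers_le]
      exact Subgroup.npow_mem_zpowers x p
    rw [← h1, ← Nat.card_zpowers, ← Fintype.card_subtype, ← Nat.card_eq_fintype_card]
    refine Nat.card_congr ⟨fun y => ⟨y.1, y.2⟩, fun y => ⟨⟨y.1, hle y.2⟩, y.2⟩, ?_, ?_⟩
    · intro y; rfl
    · intro y; rfl
  -- assemble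
  have s1 : ∑ q : C × Subgroup.zpowers x, φ (q.1 * q.2) =
      (p : ℝ) ^ k * ∑ c : C, φ c +
        ∑ y ∈ Finset.univ.filter (fun y : Subgroup.zpowers x => ¬ (y : G) ∈ Subgroup.zpowers (x ^ p)),
          ∑ c : C, φ (c * y) := by
    rw [Fintype.sum_prod_type, Finset.sum_comm, ← Finset.sum_filter_add_sum_filter_not Finset.univ
      (fun y : Subgroup.zpowers x => (y : G) ∈ Subgroup.zpowers (x ^ p))]
    congr 1
    rw [Finset.sum_congr rfl (g := fun _ => ∑ c : C, φ c)]
    · rw [Finset.sum_const, hcount, nsmul_eq_mul]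
      push_cast
      rfl
    · intro y hy
      exact Finset.sum_congr rfl fun c _ => hcent y (Finset.mem_filter.1 hy).2 c
  have s2 : ∑ g : G, φ g =
      (p : ℝ) ^ k * ∑ c : M, φ c +
        ∑ y ∈ Finset.univ.filter (fun y : Subgroup.zpowers x => ¬ (y : G) ∈ Subgroup.zpowers (x ^ p)),
          ∑ m : M, φ (m * y) := by
    rw [hsumG, ← Finset.sum_filter_add_sum_filter_not Finset.univ
      (fun y : Subgroup.zpowers x => (y : G) ∈ Subgroup.zpowers (x ^ p))]
    congr 1
    rw [Finset.sum_congr rfl (g := fun _ => ∑ c : M, φ c)]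
    · rw [Finset.sum_const, hcount, nsmul_eq_mul]
      push_cast
      rfl
    · intro y hy
      exact Finset.sum_congr rfl fun c _ => hcent y (Finset.mem_filter.1 hy).2 c
  have s3 : (Nat.card M : ℝ) *
      ∑ y ∈ Finset.univ.filter (fun y : Subgroup.zpowers x => ¬ (y : G) ∈ Subgroup.zpowers (x ^ p)), ∑ c : C, φ (c * y) =
      (Nat.card C : ℝ) *
      ∑ y ∈ Finset.univ.filter (fun y : Subgroup.zpowers x => ¬ (y : G) ∈ Subgroup.zpowers (x ^ p)), ∑ m : M, φ (m * y) := by
    rw [Finset.mul_sum, Finset.mul_sum]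
    refine Finset.sum_congr rfl fun y hy => ?_
    exact (hncent y (Finset.mem_filter.1 hy).2).symm
  rw [hcardG] at n4
  push_cast at n4
  have n1' : (Nat.card C : ℝ) * (p : ℝ) ^ (k + 1) *
      (classInner (fun q : C × Subgroup.zpowers x => χ (q.1 * q.2))
        (fun q : C × Subgroup.zpowers x => χ (q.1 * q.2))).re =
      ∑ q : C × Subgroup.zpowers x, φ (q.1 * q.2) := n1
  have n2' : (Nat.card C : ℝ) * (classInner (fun c : C => χ c) (fun c : C => χ c)).re =
      ∑ c : C, φ c := n2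
  have n3' : (Nat.card M : ℝ) * (classInner (fun c : M => χ c) (fun c : M => χ c)).re =
      ∑ c : M, φ c := n3
  have n4' : (Nat.card M : ℝ) * (p : ℝ) ^ (k + 1) = ∑ g : G, φ g := n4
  rw [s1, ← n2'] at n1'
  rw [s2, ← n3'] at n4'
  generalize (classInner (fun q : C × Subgroup.zpowers x => χ (q.1 * q.2))
        (fun q : C × Subgroup.zpowers x => χ (q.1 * q.2))).re = I1 at *
  generalize (classInner (fun c : C => χ c) (fun c : C => χ c)).re = I2 at *
  generalize (classInner (fun c : M => χ c) (fun c : M => χ c)).re = I3 at *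
  generalize (∑ y ∈ Finset.univ.filter (fun y : Subgroup.zpowers x => ¬ (y : G) ∈ Subgroup.zpowers (x ^ p)),
    ∑ c : C, φ (c * y)) = T1 at *
  generalize (∑ y ∈ Finset.univ.filter (fun y : Subgroup.zpowers x => ¬ (y : G) ∈ Subgroup.zpowers (x ^ p)),
    ∑ m : M, φ (m * y)) = T2 at *
  have key : ((Nat.card M : ℝ) * Nat.card C * (p : ℝ) ^ k) * (p * I1) =
      ((Nat.card M : ℝ) * Nat.card C * (p : ℝ) ^ k) * (I2 + p - I3) := by
    calc ((Nat.card M : ℝ) * Nat.card C * (p : ℝ) ^ k) * (p * I1)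
        = (Nat.card M : ℝ) * ((Nat.card C : ℝ) * (p : ℝ) ^ (k + 1) * I1) := by ring
      _ = (Nat.card M : ℝ) * ((p : ℝ) ^ k * ((Nat.card C : ℝ) * I2)) + (Nat.card M : ℝ) * T1 := by
          rw [n1']; ring
      _ = (Nat.card M : ℝ) * ((p : ℝ) ^ k * ((Nat.card C : ℝ) * I2)) + (Nat.card C : ℝ) * T2 := by
          rw [s3]
      _ = (Nat.card M : ℝ) * ((p : ℝ) ^ k * ((Nat.card C : ℝ) * I2)) + (Nat.card C : ℝ) *
          ((Nat.card M : ℝ) * (p : ℝ) ^ (k + 1) - (p : ℝ) ^ k * ((Nat.card M : ℝ) * I3)) := by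
          rw [n4']; ring
      _ = _ := by ring
  exact mul_left_cancel₀ (mul_ne_zero (mul_ne_zero hcM hcC) hpk) key

/-- **Main theorem.** `G = M⟨x⟩` with `M` a normal `p'`-subgroup, `x` a `p`-element and `x ^ p`
central. In an irreducible representation of degree `d` with `d + 1 < p`, the element `x` acts as
a scalar. -/
theorem norm_eq_degree [Fintype G] (p : ℕ) [hp : Fact p.Prime] (M : Subgroup G) [M.Normal]
    (hM : (Nat.card M).Coprime p) (x : G) (k : ℕ) (hx : orderOf x = p ^ (k + 1))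
    (htop : M ⊔ Subgroup.zpowers x = ⊤) (hxp : ∀ g, g * x ^ p = x ^ p * g)
    (χ : G → ℂ) (hχ : IsIrrCharacter G χ) (d : ℕ) (hd : χ 1 = d) (hdp : d + 1 < p) :
    ‖χ x‖ = d := by
  classical
  have : Fintype M := Fintype.ofFinite _
  have : Fintype (Subgroup.zpowers x) := Fintype.ofFinite _
  let C : Subgroup G := M ⊓ Subgroup.centralizer {x}
  have : Fintype C := Fintype.ofFinite _
  have hC : ∀ c, c ∈ C ↔ c ∈ M ∧ c * x = x * c := by
    intro c
    show c ∈ M ⊓ Subgroup.centralizer {x} ↔ _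
    rw [Subgroup.mem_inf, Subgroup.mem_centralizer_singleton_iff]
  have key := count_identity p M hM x k hx htop hxp C hC χ hχ
  have hAcomm : ∀ a b : Subgroup.zpowers x, a * b = b * a := by
    intro a b
    obtain ⟨i, hi⟩ := Subgroup.mem_zpowers_iff.1 a.2
    obtain ⟨j, hj⟩ := Subgroup.mem_zpowers_iff.1 b.2
    apply Subtype.ext
    show (a : G) * b = b * a
    rw [← hi, ← hj, ← zpow_add, ← zpow_add, add_comm]
  -- the character of `C × A`
  have hcomm : ∀ (c : C) (y : Subgroup.zpowers x), Commute (C.subtype c)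
      ((Subgroup.zpowers x).subtype y) := by
    intro c y
    obtain ⟨j, hj⟩ := Subgroup.mem_zpowers_iff.1 y.2
    simp only [Subgroup.coe_subtype]
    rw [← hj]
    have : Commute (c : G) x := ((hC c).1 c.2).2
    exact this.zpow_right j
  let f : C × Subgroup.zpowers x →* G :=
    MonoidHom.noncommCoprod C.subtype (Subgroup.zpowers x).subtype hcomm
  have hf : ∀ q : C × Subgroup.zpowers x, f q = (q.1 : G) * q.2 := fun q => rfl
  have hχ' : IsCharacter (C × Subgroup.zpowers x) (χ ∘ f) :=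
    isCharacter_comp f (isIrr_isCharacter hχ)
  obtain ⟨s, m, hs, hsum⟩ := exists_mult hχ'
  set χ' : C × Subgroup.zpowers x → ℂ := fun q => χ (q.1 * q.2) with hχ'def
  have hχ'eq : χ' = ∑ ψ ∈ s, m ψ • ψ := by rw [← hsum]; rfl
  have hχ'1 : χ' 1 = d := by
    show χ (((1 : C) : G) * ((1 : Subgroup.zpowers x) : G)) = d
    rw [OneMemClass.coe_one, OneMemClass.coe_one, one_mul, hd]
  -- degrees
  have hdeg : ∀ ψ : C × Subgroup.zpowers x → ℂ, ∃ n : ℕ, ψ ∈ s → (0 < n ∧ ψ 1 = n) := by
    intro ψ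
    by_cases h : ψ ∈ s
    · obtain ⟨n, hn⟩ := isIrr_apply_one (hs ψ h)
      exact ⟨n, fun _ => hn⟩
    · exact ⟨0, fun h' => absurd h' h⟩
  choose deg hdeg using hdeg
  set S : ℕ := ∑ ψ ∈ s, m ψ with hS
  have hSd : S ≤ d := by
    have h1 : (d : ℂ) = ((∑ ψ ∈ s, m ψ * deg ψ : ℕ) : ℂ) := by
      rw [← hχ'1, hχ'eq, Finset.sum_apply]
      push_cast
      refine Finset.sum_congr rfl fun ψ hψ => ?_
      rw [Pi.smul_apply, (hdeg ψ hψ).2, nsmul_eq_mul]
    have h2 : d = ∑ ψ ∈ s, m ψ * deg ψ := by exact_mod_cast h1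
    rw [h2]
    refine Finset.sum_le_sum fun ψ hψ => ?_
    exact Nat.le_mul_of_pos_right _ (hdeg ψ hψ).1
  have hdpos : 0 < d := by
    obtain ⟨n, hn, hn1⟩ := isIrr_apply_one hχ
    have : (d : ℂ) = n := by rw [← hd, hn1]
    have : d = n := by exact_mod_cast this
    omega
  -- norm of `χ'`
  have hnorm' : (classInner χ' χ').re = ((∑ ψ ∈ s, m ψ * m ψ : ℕ) : ℝ) := by
    have h1 : classInner χ' χ' = ((∑ ψ ∈ s, m ψ * m ψ : ℕ) : ℂ) := by
      rw [hχ'eq, classInner_sum_left]
      push_cast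
      refine Finset.sum_congr rfl fun ψ hψ => ?_
      rw [← Nat.cast_smul_eq_nsmul ℂ, classInner_smul_left, classInner_sum_right,
        Finset.sum_eq_single ψ]
      · rw [← Nat.cast_smul_eq_nsmul ℂ, classInner_smul_right, classInner_irr_self (hs ψ hψ),
          mul_one, Complex.conj_natCast]
      · intro ψ' hψ' hne
        rw [← Nat.cast_smul_eq_nsmul ℂ, classInner_smul_right,
          classInner_irr_ne (hs ψ hψ) (hs ψ' hψ') (fun h => hne h.symm), mul_zero]
      · intro h
        exact absurd hψ h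
    rw [h1, Complex.natCast_re]
  -- restriction to `C`
  let ι : C →* C × Subgroup.zpowers x := MonoidHom.inl _ _
  have hι : ∀ c : C, ι c = (c, 1) := fun c => rfl
  have hirrC : ∀ ψ ∈ s, IsIrrCharacter C (ψ ∘ ι) := by
    intro ψ hψ
    rw [isIrr_iff_classInner_self (isCharacter_comp ι (isIrr_isCharacter (hs ψ hψ)))]
    have h1 : (Nat.card C : ℝ) * Nat.card (Subgroup.zpowers x) * 1 =
        (Nat.card (Subgroup.zpowers x) : ℝ) *
          ((Nat.card C : ℝ) * (classInner (ψ ∘ ι) (ψ ∘ ι)).re) := by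
      have h2 := card_mul_inner_re ψ
      rw [classInner_irr_self (hs ψ hψ), Complex.one_re, Nat.card_prod] at h2
      push_cast at h2
      rw [h2, card_mul_inner_re, Fintype.sum_prod_type, Finset.sum_comm]
      rw [Finset.sum_congr rfl (g := fun _ => ∑ c : C, Complex.normSq ((ψ ∘ ι) c))]
      · rw [Finset.sum_const, Finset.card_univ, nsmul_eq_mul, Nat.card_eq_fintype_card]
      · intro y _
        refine Finset.sum_congr rfl fun c _ => ?_
        have hz : ∀ g : C × Subgroup.zpowers x, g * (1, y) = (1, y) * g := by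
          intro g
          refine Prod.ext ?_ ?_
          · simp
          · exact hAcomm _ _
        have h3 := normSq_mul_central (hs ψ hψ) hz (c, 1)
        rw [Prod.mk_mul_mk, mul_one, one_mul] at h3
        exact h3
    have hcC : (Nat.card C : ℝ) ≠ 0 := by exact_mod_cast Nat.card_pos.ne'
    have hcA : (Nat.card (Subgroup.zpowers x) : ℝ) ≠ 0 := by exact_mod_cast Nat.card_pos.ne'
    have h4 : (classInner (ψ ∘ ι) (ψ ∘ ι)).re = 1 := by
      have h5 : ((Nat.card C : ℝ) * Nat.card (Subgroup.zpowers x)) *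
          (classInner (ψ ∘ ι) (ψ ∘ ι)).re =
          ((Nat.card C : ℝ) * Nat.card (Subgroup.zpowers x)) * 1 := by
        rw [h1]; ring
      exact mul_left_cancel₀ (mul_ne_zero hcC hcA) h5
    obtain ⟨n, hn⟩ := classInner_isNat (isCharacter_comp ι (isIrr_isCharacter (hs ψ hψ)))
      (isCharacter_comp ι (isIrr_isCharacter (hs ψ hψ)))
    rw [hn] at h4 ⊢
    rw [Complex.natCast_re] at h4
    have : n = 1 := by exact_mod_cast h4
    rw [this, Nat.cast_one]
  have hnormC : (classInner (fun c : C => χ c) (fun c : C => χ c)).re ≤ (S : ℝ) * S := by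
    have h1 : (fun c : C => χ c) = ∑ ψ ∈ s, m ψ • (ψ ∘ ι) := by
      funext c
      have h2 := congrFun hχ'eq (c, 1)
      rw [Finset.sum_apply] at h2 ⊢
      have h3 : χ' (c, 1) = χ c := by
        show χ ((c : G) * ((1 : Subgroup.zpowers x) : G)) = χ c
        rw [OneMemClass.coe_one, mul_one]
      rw [← h3, h2]
      rfl
    have h2 : classInner (fun c : C => χ c) (fun c : C => χ c) =
        ∑ ψ ∈ s, ∑ ψ' ∈ s, ((m ψ : ℂ) * ((m ψ' : ℂ) * classInner (ψ ∘ ι) (ψ' ∘ ι))) := by
      rw [h1, classInner_sum_left]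
      refine Finset.sum_congr rfl fun ψ hψ => ?_
      rw [← Nat.cast_smul_eq_nsmul ℂ, classInner_smul_left, classInner_sum_right, Finset.mul_sum]
      refine Finset.sum_congr rfl fun ψ' hψ' => ?_
      rw [← Nat.cast_smul_eq_nsmul ℂ, classInner_smul_right, Complex.conj_natCast]
    rw [h2, Complex.re_sum]
    have h3 : (S : ℝ) * S = ∑ ψ ∈ s, ∑ ψ' ∈ s, (m ψ : ℝ) * m ψ' := by
      rw [hS]
      push_cast
      rw [Finset.sum_mul_sum]
    rw [h3]
    refine Finset.sum_le_sum fun ψ hψ => ?_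
    rw [Complex.re_sum]
    refine Finset.sum_le_sum fun ψ' hψ' => ?_
    rw [classInner_irr (hirrC ψ hψ) (hirrC ψ' hψ')]
    split_ifs
    · rw [mul_one, ← Nat.cast_mul, Complex.natCast_re]
      push_cast
      exact le_refl _
    · rw [mul_zero, mul_zero, Complex.zero_re]
      positivity
  -- restriction to `M`
  have hnormM : 1 ≤ (classInner (fun c : M => χ c) (fun c : M => χ c)).re := by
    have hchM : IsCharacter M (fun c : M => χ c) :=
      isCharacter_comp M.subtype (isIrr_isCharacter hχ)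
    obtain ⟨n, hn⟩ := classInner_isNat hchM hchM
    have hn0 : n ≠ 0 := by
      rintro rfl
      rw [Nat.cast_zero] at hn
      have h1 := congrFun (classInner_self_eq_zero hn) 1
      simp only [OneMemClass.coe_one, hd, Pi.zero_apply] at h1
      have : d = 0 := by exact_mod_cast h1
      omega
    rw [hn, Complex.natCast_re]
    exact_mod_cast Nat.one_le_iff_ne_zero.2 hn0
  -- arithmetic
  have hS1 : S ≤ ∑ ψ ∈ s, m ψ * m ψ := by
    rw [hS]
    refine Finset.sum_le_sum fun ψ _ => ?_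
    rcases Nat.eq_zero_or_pos (m ψ) with h | h
    · simp [h]
    · exact Nat.le_mul_of_pos_right _ h
  have hSpos : 0 < S := by
    rcases Nat.eq_zero_or_pos S with h | h
    · exfalso
      rw [hS, Finset.sum_eq_zero_iff] at h
      have h1 : χ' = 0 := by
        rw [hχ'eq]
        exact Finset.sum_eq_zero fun ψ hψ => by rw [h ψ hψ, zero_smul]
      rw [h1] at hχ'1
      have : d = 0 := by
        have : (d : ℂ) = 0 := by rw [← hχ'1]; rfl
        exact_mod_cast this
      omega
    · exact h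
  have hS_eq : S = 1 := by
    by_contra hne
    have h2 : 2 ≤ S := by omega
    have h3 : (p : ℝ) * S ≤ (S : ℝ) * S + p - 1 := by
      have h4 : (p : ℝ) * S ≤ (p : ℝ) * ((∑ ψ ∈ s, m ψ * m ψ : ℕ) : ℝ) := by
        apply mul_le_mul_of_nonneg_left _ (by positivity)
        exact_mod_cast hS1
      rw [← hnorm'] at h4
      linarith
    have h4 : (S : ℝ) + 1 < p := by
      have : S + 1 < p := by omega
      exact_mod_cast this
    have h5 : (1 : ℝ) ≤ (S : ℝ) - 1 := by
      have : (2 : ℝ) ≤ S := by exact_mod_cast h2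
      linarith
    nlinarith
  -- so `χ'` is irreducible
  obtain ⟨ψ₀, hψ₀, hm₀⟩ : ∃ ψ ∈ s, m ψ ≠ 0 := by
    by_contra hcon
    push Not at hcon
    have : S = 0 := by rw [hS]; exact Finset.sum_eq_zero hcon
    omega
  have h5 : ∑ ψ ∈ s.erase ψ₀, m ψ + m ψ₀ = 1 := by
    rw [Finset.sum_erase_add _ _ hψ₀]; exact hS_eq
  have hm1 : m ψ₀ = 1 := by omega
  have hrest : ∑ ψ ∈ s.erase ψ₀, m ψ = 0 := by omega
  have hχirr : χ' = ψ₀ := by
    rw [hχ'eq, ← Finset.sum_erase_add _ _ hψ₀, hm1, one_smul, Finset.sum_eq_zero, zero_add]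
    intro ψ hψ
    rw [(Finset.sum_eq_zero_iff.1 hrest) ψ hψ, zero_smul]
  have hz : ∀ g : C × Subgroup.zpowers x,
      g * (1, (⟨x, Subgroup.mem_zpowers x⟩ : Subgroup.zpowers x)) =
        (1, (⟨x, Subgroup.mem_zpowers x⟩ : Subgroup.zpowers x)) * g := by
    intro g
    refine Prod.ext ?_ ?_
    · simp
    · exact hAcomm _ _
  obtain ⟨ω, hω, h6⟩ := exists_central_mul (hχirr ▸ hs ψ₀ hψ₀ : IsIrrCharacter _ χ') hz
  have h7 := h6 1
  rw [one_mul, hχ'1] at h7
  have h8 : χ x = ω * d := by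
    rw [← h7]
    show χ x = χ (((1 : C) : G) * x)
    rw [OneMemClass.coe_one, one_mul]
  rw [h8, norm_mul, hω, one_mul, Complex.norm_natCast]

end main

end Cfsg.Agent.CharactersDeep.SmallDegree
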