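import Mathlib
import Cfsg.Prelude.Def_Characters
import Cfsg.Agent.Characters.Core
import Cfsg.Agent.Characters.Clifford
import Cfsg.Agent.Characters.Linear

/-!
# Restriction of an irreducible character to a normal subgroup of prime index, and ramification
indices over a `p`-quotient

* `norm_restrict_prime_index` : the restriction to a normal subgroup of prime index `p` has
  norm `1` or `p`.
* `sum_restrict_prime_index` : it is irreducible, or a sum of `p` distinct conjugate irreducibles
  (stated through sums of invariant functions).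
* `mult_eq_pow` : if `G/N` is a `p`-group and `θ ∈ Irr(N)` is `G`-invariant, the multiplicity of
  `θ` in the restriction of an irreducible character of `G` is zero or a power of `p`.
* `restrict_eq_of_not_dvd` : if this multiplicity is prime to `p`, the character extends `θ`.
-/

set_option autoImplicit false
open scoped ComplexConjugate
open Cfsg Cfsg.Agent.Characters.Core

namespace Cfsg.Agent.CharactersDeep.PrimeIndex

universe u

section hom

variable {G : Type*} [Group G] [Finite G]

/-- A normal subgroup of prime index is the kernel of a linear character. -/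
theorem exists_hom_ker (K : Subgroup G) [K.Normal] {p : ℕ} (hp : p.Prime) (hK : K.index = p) :
    ∃ l : G →* ℂˣ, (∀ g, l g = 1 ↔ g ∈ K) ∧ ∀ g, l g ^ p = 1 := by
  have hpf : Fact p.Prime := ⟨hp⟩
  have hcard : Nat.card (G ⧸ K) = p := hK
  have hcyc : IsCyclic (G ⧸ K) := isCyclic_of_prime_card hcard
  let _ : CommGroup (G ⧸ K) := IsCyclic.commGroup
  have hnt : Nontrivial (G ⧸ K) := by
    rw [← Finite.one_lt_card_iff_nontrivial, hcard]
    exact hp.one_lt
  obtain ⟨a, ha⟩ := exists_ne (1 : G ⧸ K)
  obtain ⟨φ, hφ⟩ := CommGroup.exists_apply_ne_one_of_hasEnoughRootsOfUnity (G ⧸ K) ℂ ha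
  have hker : φ.ker = ⊥ := by
    have hpc : Fact (Nat.card (G ⧸ K)).Prime := ⟨hcard ▸ hp⟩
    rcases Subgroup.eq_bot_or_eq_top_of_prime_card φ.ker with h | h
    · exact h
    · exfalso
      apply hφ
      rw [← MonoidHom.mem_ker, h]
      exact Subgroup.mem_top a
  refine ⟨φ.comp (QuotientGroup.mk' K), fun g => ?_, fun g => ?_⟩
  · rw [MonoidHom.comp_apply, ← MonoidHom.mem_ker, hker, Subgroup.mem_bot]
    exact QuotientGroup.eq_one_iff g
  · rw [MonoidHom.comp_apply, ← map_pow, ← hcard, pow_card_eq_one', map_one]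

end hom

variable {G : Type u} [Group G] [Fintype G]

theorem sum_subtype_eq (K : Subgroup G) [Fintype K] (F : G → ℂ) (hF : ∀ g, g ∉ K → F g = 0) :
    ∑ g : G, F g = ∑ k : K, F k := by
  classical
  rw [← Finset.sum_subset (Finset.subset_univ ((Finset.univ : Finset K).map
    ⟨Subtype.val, Subtype.val_injective⟩))]
  · rw [Finset.sum_map]
    rfl
  · intro g _ hg
    apply hF
    intro h
    apply hg
    rw [Finset.mem_map]
    exact ⟨⟨g, h⟩, Finset.mem_univ _, rfl⟩

/-- The restriction of an irreducible character to a normal subgroup of prime index `p` has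
norm `1` or `p`. -/
theorem norm_restrict_prime_index (K : Subgroup G) [hKn : K.Normal] [Fintype K] {p : ℕ}
    (hp : p.Prime) (hK : K.index = p) {χ : G → ℂ} (hχ : IsIrrCharacter G χ) :
    classInner (fun k : K => χ k) (fun k : K => χ k) = 1 ∨
      classInner (fun k : K => χ k) (fun k : K => χ k) = p := by
  classical
  obtain ⟨l, hl, hlp⟩ := exists_hom_ker K hp hK
  have hp0 : (p : ℂ) ≠ 0 := by exact_mod_cast hp.ne_zero
  have hG : (Nat.card G : ℂ) ≠ 0 := by exact_mod_cast Nat.card_pos.ne'
  -- the twists
  have htw : ∀ i : ℕ, IsCharacter G (fun g => χ g * ((l g : ℂ)) ^ i) := by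
    intro i
    have h1 : IsCharacter G (fun g => (((l ^ i : G →* ℂˣ) g : ℂˣ) : ℂ)) :=
      Characters.Linear.isCharacter_hom (l ^ i)
    have h2 := isCharacter_mul (isIrr_isCharacter hχ) h1
    convert h2 using 1
    funext g
    simp
  have hnorm1 : ∀ g, (l g : ℂ) * conj (l g : ℂ) = 1 := by
    intro g
    rw [Complex.mul_conj, Complex.normSq_eq_norm_sq, Characters.Linear.norm_hom_apply]
    simp
  have htwirr : ∀ i : ℕ, IsIrrCharacter G (fun g => χ g * ((l g : ℂ)) ^ i) := by
    intro i
    rw [isIrr_iff_classInner_self (htw i), ← classInner_irr_self hχ]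
    show (Nat.card G : ℂ)⁻¹ * ∑ g : G, (χ g * ((l g : ℂ)) ^ i) * conj (χ g * ((l g : ℂ)) ^ i) =
      (Nat.card G : ℂ)⁻¹ * ∑ g : G, χ g * conj (χ g)
    congr 1
    refine Finset.sum_congr rfl (fun g _ => ?_)
    rw [map_mul, map_pow]
    calc χ g * (l g : ℂ) ^ i * (conj (χ g) * conj (l g : ℂ) ^ i) =
        χ g * conj (χ g) * ((l g : ℂ) * conj (l g : ℂ)) ^ i := by ring
      _ = χ g * conj (χ g) := by rw [hnorm1, one_pow, mul_one]
  -- the sum formula
  have hgeom : ∀ g, ∑ i ∈ Finset.range p, (l g : ℂ) ^ i = if g ∈ K then (p : ℂ) else 0 := by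
    intro g
    by_cases hg : g ∈ K
    · rw [if_pos hg]
      have : (l g : ℂ) = 1 := by rw [(hl g).2 hg]; rfl
      simp [this]
    · rw [if_neg hg]
      have h1 : (l g : ℂ) ≠ 1 := by
        intro h
        apply hg
        rw [← hl g]
        exact Units.ext h
      have h2 : (l g : ℂ) ^ p = 1 := by
        rw [← Units.val_pow_eq_pow_val, hlp]; rfl
      have h3 := geom_sum_mul (l g : ℂ) p
      rw [h2, sub_self] at h3
      rcases mul_eq_zero.1 h3 with h | h
      · exact h
      · exact absurd (sub_eq_zero.1 h) h1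
  have hcardK : (Nat.card G : ℂ) = p * Nat.card K := by
    have := Subgroup.card_mul_index K
    rw [hK] at this
    rw [← this]; push_cast; ring
  have hsum : classInner (fun k : K => χ k) (fun k : K => χ k) =
      ∑ i ∈ Finset.range p, classInner (fun g => χ g * ((l g : ℂ)) ^ i) χ := by
    show (Nat.card K : ℂ)⁻¹ * ∑ k : K, χ k * conj (χ k) =
      ∑ i ∈ Finset.range p, (Nat.card G : ℂ)⁻¹ * ∑ g : G, (χ g * ((l g : ℂ)) ^ i) * conj (χ g)
    rw [← Finset.mul_sum, Finset.sum_comm]
    have h1 : ∀ g : G, ∑ i ∈ Finset.range p, (χ g * ((l g : ℂ)) ^ i) * conj (χ g) =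
        (if g ∈ K then (p : ℂ) else 0) * (χ g * conj (χ g)) := by
      intro g
      rw [← hgeom g, Finset.sum_mul]
      exact Finset.sum_congr rfl (fun i _ => by ring)
    rw [Finset.sum_congr rfl (fun g _ => h1 g), sum_subtype_eq K]
    · have h2 : ∀ k : K, (if (k : G) ∈ K then (p : ℂ) else 0) * (χ k * conj (χ k)) =
          p * (χ k * conj (χ k)) := fun k => by rw [if_pos k.2]
      rw [Finset.sum_congr rfl (fun k _ => h2 k), ← Finset.mul_sum, hcardK]
      have hK0 : (Nat.card K : ℂ) ≠ 0 := by exact_mod_cast Nat.card_pos.ne'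
      field_simp
    · intro g hg
      rw [if_neg hg, zero_mul]
  rw [hsum]
  by_cases hex : ∃ i ∈ Finset.range p, i ≠ 0 ∧ (fun g => χ g * ((l g : ℂ)) ^ i) = χ
  · right
    obtain ⟨i, hi, hi0, hieq⟩ := hex
    have hvan : ∀ g, g ∉ K → χ g = 0 := by
      intro g hg
      have h1 : χ g * (l g : ℂ) ^ i = χ g := congrFun hieq g
      have h2 : (l g : ℂ) ^ i ≠ 1 := by
        intro h
        have h3 : l g ^ i = 1 := Units.ext (by simpa using h)
        have h4 : orderOf (l g) ∣ i := orderOf_dvd_of_pow_eq_one h3
        have h5 : orderOf (l g) ∣ p := orderOf_dvd_of_pow_eq_one (hlp g)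
        rcases (Nat.dvd_prime hp).1 h5 with h6 | h6
        · apply hg
          rw [← hl g]
          exact orderOf_eq_one_iff.1 h6
        · rw [h6] at h4
          have := Nat.le_of_dvd (Nat.pos_of_ne_zero hi0) h4
          have := Finset.mem_range.1 hi
          omega
      have h3 : χ g * ((l g : ℂ) ^ i - 1) = 0 := by rw [mul_sub, h1, mul_one, sub_self]
      rcases mul_eq_zero.1 h3 with h | h
      · exact h
      · exact absurd (sub_eq_zero.1 h) h2
    have hall : ∀ j : ℕ, (fun g => χ g * ((l g : ℂ)) ^ j) = χ := by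
      intro j
      funext g
      by_cases hg : g ∈ K
      · have : (l g : ℂ) = 1 := by rw [(hl g).2 hg]; rfl
        rw [this, one_pow, mul_one]
      · rw [hvan g hg, zero_mul]
    rw [Finset.sum_congr rfl (fun j _ => by rw [hall j]), Finset.sum_const,
      classInner_irr_self hχ]
    simp
  · left
    push Not at hex
    rw [Finset.sum_eq_single 0]
    · have : (fun g => χ g * ((l g : ℂ)) ^ 0) = χ := by funext g; simp
      rw [this, classInner_irr_self hχ]
    · intro i hi hi0
      exact classInner_irr_ne (htwirr i) hχ (hex i hi hi0)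
    · intro h
      exact absurd (Finset.mem_range.2 hp.pos) h

/-- For a `G`-invariant natural number valued function on the irreducible characters of a normal
subgroup of prime index `p`, its weighted sum over the constituents of `χ` restricted to `K`
is a value of the function or `p` times a value. -/
theorem sum_restrict_prime_index (K : Subgroup G) [hKn : K.Normal] [Fintype K] {p : ℕ}
    (hp : p.Prime) (hK : K.index = p) {χ : G → ℂ} (hχ : IsIrrCharacter G χ)
    [Fintype (IrrCharacter K)] (w : IrrCharacter K → ℕ)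
    (hw : ∀ (g : G) (η η' : IrrCharacter K), (η' : K → ℂ) = (η : K → ℂ) ∘ (MulAut.conjNormal g : MulAut K)
      → w η' = w η) (c : IrrCharacter K → ℕ)
    (hc : ∀ η : IrrCharacter K, classInner (fun k : K => χ k) (η : K → ℂ) = c η) :
    ∃ η, (∑ η, c η * w η = w η) ∨ (∑ η, c η * w η = p * w η) := by
  classical
  have hχK : IsCharacter K (fun k : K => χ k) := Characters.Clifford.isCharacter_restrict K (isIrr_isCharacter hχ)
  have hsq : ((∑ η, c η ^ 2 : ℕ) : ℂ) = classInner (fun k : K => χ k) (fun k : K => χ k) := by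
    rw [classInner_eq_sum (isCharacter_isClassFunction hχK) (isCharacter_isClassFunction hχK)]
    push_cast
    refine Finset.sum_congr rfl (fun η _ => ?_)
    rw [hc, Complex.conj_natCast, sq]
  have hsq' : (∑ η, c η ^ 2 = 1) ∨ (∑ η, c η ^ 2 = p) := by
    rcases norm_restrict_prime_index K hp hK hχ with h | h
    · left; rw [h] at hsq; exact_mod_cast hsq
    · right; rw [h] at hsq; exact_mod_cast hsq
  set S := Finset.univ.filter (fun η : IrrCharacter K => c η ≠ 0) with hS
  have hSne : S.Nonempty := by
    by_contra hne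
    rw [Finset.not_nonempty_iff_eq_empty] at hne
    have : ∑ η, c η ^ 2 = 0 := by
      refine Finset.sum_eq_zero (fun η _ => ?_)
      have h1 : η ∉ S := by rw [hne]; simp
      have h2 : c η = 0 := by
        by_contra h3
        exact h1 (by rw [hS, Finset.mem_filter]; exact ⟨Finset.mem_univ _, h3⟩)
      rw [h2]; rfl
    rcases hsq' with h | h
    · omega
    · have := hp.pos; omega
  obtain ⟨η₀, hη₀⟩ := hSne
  have hη₀' : c η₀ ≠ 0 := (Finset.mem_filter.1 hη₀).2
  have hconj : ∀ η ∈ S, ∃ g : G, (η : K → ℂ) = (η₀ : K → ℂ) ∘ (MulAut.conjNormal g : MulAut K) := by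
    intro η hη
    have hη' : c η ≠ 0 := (Finset.mem_filter.1 hη).2
    refine Characters.Clifford.exists_conj_of_constituents K hχ η₀.2 η.2 ?_ ?_
    · rw [hc]; exact_mod_cast hη₀'
    · rw [hc]; exact_mod_cast hη'
  have hcc : ∀ η ∈ S, c η = c η₀ := by
    intro η hη
    obtain ⟨g, hg⟩ := hconj η hη
    have h1 := Characters.Clifford.classInner_restrict_conjNormal (N := K) (isIrr_isClassFunction hχ)
      (η₀ : K → ℂ) g
    rw [← hg, hc, hc] at h1
    exact_mod_cast h1
  have hww : ∀ η ∈ S, w η = w η₀ := by
    intro η hη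
    obtain ⟨g, hg⟩ := hconj η hη
    exact hw g η₀ η hg
  have hsum1 : ∀ F : IrrCharacter K → ℕ, (∀ η, c η = 0 → F η = 0) →
      ∑ η, F η = ∑ η ∈ S, F η := by
    intro F hF
    symm
    refine Finset.sum_subset (Finset.subset_univ _) (fun η _ hη => ?_)
    apply hF
    by_contra h3
    exact hη (by rw [hS, Finset.mem_filter]; exact ⟨Finset.mem_univ _, h3⟩)
  have h1 : ∑ η, c η ^ 2 = S.card * c η₀ ^ 2 := by
    rw [hsum1 _ (fun η h => by rw [h]; rfl), Finset.sum_congr rfl (fun η hη => by rw [hcc η hη]),
      Finset.sum_const, smul_eq_mul]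
  have h2 : ∑ η, c η * w η = S.card * (c η₀ * w η₀) := by
    rw [hsum1 _ (fun η h => by rw [h, zero_mul]),
      Finset.sum_congr rfl (fun η hη => by rw [hcc η hη, hww η hη]),
      Finset.sum_const, smul_eq_mul]
  refine ⟨η₀, ?_⟩
  rw [h2]
  rw [h1] at hsq'
  rcases hsq' with h | h
  · left
    have h3 : S.card = 1 := Nat.eq_one_of_mul_eq_one_right h
    have h4 : c η₀ ^ 2 = 1 := Nat.eq_one_of_mul_eq_one_left h
    have h5 : c η₀ = 1 := by
      rw [sq] at h4
      exact Nat.eq_one_of_mul_eq_one_right h4
    rw [h3, h5]; ring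
  · right
    have h4 : c η₀ = 1 := by
      have h5 : c η₀ * c η₀ ∣ p := by rw [← h, sq]; exact dvd_mul_left _ _
      exact Nat.isUnit_iff.1 ((Nat.prime_iff.1 hp).squarefree _ h5)
    rw [h4, one_pow, mul_one] at h
    rw [h, h4, one_mul]

/-- A group with a normal subgroup `N` of index `p ^ (k + 1)` has a normal subgroup of index `p`
containing `N`. -/
theorem exists_normal_between {G : Type*} [Group G] [Finite G] (N : Subgroup G) [N.Normal]
    {p k : ℕ} (hp : p.Prime) (hk : N.index = p ^ (k + 1)) :
    ∃ K : Subgroup G, K.Normal ∧ N ≤ K ∧ K.index = p := by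
  have hpf : Fact p.Prime := ⟨hp⟩
  have hcard : Nat.card (G ⧸ N) = p ^ (k + 1) := hk
  obtain ⟨L, hL⟩ := Sylow.exists_subgroup_card_pow_prime (G := G ⧸ N) p (n := k)
    (by rw [hcard]; exact pow_dvd_pow p (Nat.le_succ k))
  have hLi : L.index = p := by
    have := Subgroup.card_mul_index L
    rw [hL, hcard, pow_succ] at this
    exact Nat.eq_of_mul_eq_mul_left (pow_pos hp.pos k) this
  have hLn : L.Normal := by
    apply Subgroup.normal_of_index_eq_minFac_card
    rw [hLi, hcard, Nat.Prime.pow_minFac hp (Nat.succ_ne_zero k)]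
  refine ⟨L.comap (QuotientGroup.mk' N), inferInstance, ?_, ?_⟩
  · intro n hn
    rw [Subgroup.mem_comap]
    have : QuotientGroup.mk' N n = 1 := (QuotientGroup.eq_one_iff n).2 hn
    rw [this]
    exact L.one_mem
  · rw [Subgroup.index_comap_of_surjective L (QuotientGroup.mk'_surjective N), hLi]

/-- If `G / N` is a `p`-group and `θ ∈ Irr(N)` is `G`-invariant, then the multiplicity of `θ` in
the restriction of an irreducible character of `G` is zero or a power of `p`. -/
theorem mult_eq_pow {N : Type u} [Group N] [Fintype N] {p : ℕ} (hp : p.Prime) {θ : N → ℂ}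
    (hθ : IsIrrCharacter N θ) (k : ℕ) : ∀ (G : Type u) [Group G] [Fintype G] (f : N →* G)
    (_ : Function.Injective f) (_ : f.range.Normal) (_ : f.range.index = p ^ k)
    (_ : ∀ (g : G) (n n' : N), f n' = g * f n * g⁻¹ → θ n' = θ n) (χ : G → ℂ)
    (_ : IsIrrCharacter G χ) (m : ℕ) (_ : classInner (χ ∘ f) θ = m), m = 0 ∨ ∃ j, m = p ^ j := by
  induction k with
  | zero =>
    intro G _ _ f hf hn hk hinv χ hχ m hm
    classical
    have hsurj : Function.Surjective f := by
      rw [pow_zero, Subgroup.index_eq_one] at hk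
      exact MonoidHom.range_eq_top.1 hk
    rw [classInner_irr (isIrr_comp f hsurj hχ) hθ] at hm
    split_ifs at hm with h
    · right; exact ⟨0, by rw [pow_zero]; exact_mod_cast hm.symm⟩
    · left; exact_mod_cast hm.symm
  | succ k ih =>
    intro G _ _ f hf hn hk hinv χ hχ m hm
    classical
    obtain ⟨K, hKn, hNK, hKi⟩ := exists_normal_between f.range hp hk
    have : Fintype K := Fintype.ofFinite K
    have := finite_irr (G := K)
    have := Fintype.ofFinite (IrrCharacter K)
    let f' : N →* K := f.codRestrict K (fun n => hNK ⟨n, rfl⟩)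
    have hf'c : ∀ n, ((f' n : K) : G) = f n := fun n => rfl
    have hf' : Function.Injective f' := fun a b hab => hf (congrArg Subtype.val hab)
    have hr : f'.range = f.range.subgroupOf K := by
      ext x
      rw [Subgroup.mem_subgroupOf]
      constructor
      · rintro ⟨n, rfl⟩; exact ⟨n, rfl⟩
      · rintro ⟨n, hn⟩; exact ⟨n, Subtype.ext hn⟩
    have hn' : f'.range.Normal := by rw [hr]; infer_instance
    have hk' : f'.range.index = p ^ k := by
      rw [hr]
      have h1 : f.range.relIndex K * K.index = f.range.index := Subgroup.relIndex_mul_index hNK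
      rw [hKi, hk, pow_succ] at h1
      exact Nat.eq_of_mul_eq_mul_right hp.pos h1
    have hinv' : ∀ (g : K) (n n' : N), f' n' = g * f' n * g⁻¹ → θ n' = θ n := by
      intro g n n' h
      exact hinv g n n' (congrArg Subtype.val h)
    have hχK : IsCharacter K (fun k : K => χ k) :=
      Characters.Clifford.isCharacter_restrict K (isIrr_isCharacter hχ)
    choose c hc using fun η : IrrCharacter K =>
      classInner_isNat hχK (isIrr_isCharacter η.2)
    choose w hw using fun η : IrrCharacter K =>
      classInner_isNat (isCharacter_comp f' (isIrr_isCharacter η.2)) (isIrr_isCharacter hθ)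
    have hm' : m = ∑ η, c η * w η := by
      have h1 : χ ∘ f = ∑ η : IrrCharacter K, (c η : ℂ) • ((η : K → ℂ) ∘ f') := by
        funext n
        have h2 := congrFun (classFunction_eq_sum (isCharacter_isClassFunction hχK)) (f' n)
        simp only [Finset.sum_apply, Pi.smul_apply, smul_eq_mul, hc] at h2
        simp only [Finset.sum_apply, Pi.smul_apply, smul_eq_mul, Function.comp]
        exact h2
      rw [h1, classInner_sum_left] at hm
      simp only [classInner_smul_left, hw] at hm
      exact_mod_cast hm.symm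
    have hwinv : ∀ (g : G) (η η' : IrrCharacter K),
        (η' : K → ℂ) = (η : K → ℂ) ∘ (MulAut.conjNormal g : MulAut K) → w η' = w η := by
      intro g η η' h
      let e : N ≃* f.range := MonoidHom.ofInjective hf
      let α : N ≃* N := (e.trans (MulAut.conjNormal g : MulAut f.range)).trans e.symm
      have hα : ∀ n, f (α n) = g * f n * g⁻¹ := by
        intro n
        have h1 : (e (α n) : G) = g * f n * g⁻¹ := by
          show ((e (e.symm ((MulAut.conjNormal g : MulAut f.range) (e n))) : f.range) : G) = _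
          rw [MulEquiv.apply_symm_apply, MulAut.conjNormal_apply]
          rfl
        exact h1
      have h1 : (η' : K → ℂ) ∘ f' = ((η : K → ℂ) ∘ f') ∘ α := by
        funext n
        rw [h]
        simp only [Function.comp]
        refine congrArg (η : K → ℂ) (Subtype.ext ?_)
        rw [MulAut.conjNormal_apply, hf'c, hf'c, hα]
      have h2 : θ = θ ∘ α := by
        funext n
        exact (hinv g n (α n) (hα n)).symm
      have h3 := Characters.Clifford.classInner_comp_mulEquiv α ((η : K → ℂ) ∘ f') θ
      rw [← h1, ← h2, hw, hw] at h3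
      exact_mod_cast h3
    obtain ⟨η, hη⟩ := sum_restrict_prime_index K hp hKi hχ w hwinv c hc
    rw [← hm'] at hη
    rcases ih K f' hf' hn' hk' hinv' η η.2 (w η) (hw η) with h0 | ⟨j, hj⟩
    · left
      rcases hη with h | h
      · rw [h, h0]
      · rw [h, h0, mul_zero]
    · right
      rcases hη with h | h
      · exact ⟨j, by rw [h, hj]⟩
      · exact ⟨j + 1, by rw [h, hj, pow_succ, mul_comm]⟩

/-- If `G / N` is a `p`-group, `θ ∈ Irr(N)` is `G`-invariant and the multiplicity of `θ` in the
restriction of an irreducible character `χ` is prime to `p`, then `χ` extends `θ`. -/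
theorem restrict_eq_of_not_dvd {G : Type u} [Group G] [Fintype G] (N : Subgroup G)
    [hN : N.Normal] [Fintype N] {p : ℕ} (hp : p.Prime) (hind : ∃ k : ℕ, N.index = p ^ k)
    {θ : N → ℂ} (hθ : IsIrrCharacter N θ)
    (hinv : ∀ (g : G) (n : N), θ ⟨g * n * g⁻¹, hN.conj_mem (n : G) n.2 g⟩ = θ n)
    {χ : G → ℂ} (hχ : IsIrrCharacter G χ) {m : ℕ}
    (hm : classInner (fun n : N => χ n) θ = m) (hpm : ¬ p ∣ m) : ∀ n : N, χ n = θ n := by
  classical
  obtain ⟨k, hk⟩ := hind
  have h1 : m = 0 ∨ ∃ j, m = p ^ j := by
    refine mult_eq_pow hp hθ k G N.subtype N.subtype_injective ?_ ?_ ?_ χ hχ m hm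
    · rw [Subgroup.range_subtype]; exact hN
    · rw [Subgroup.range_subtype, hk]
    · intro g n n' h
      have : n' = ⟨g * n * g⁻¹, hN.conj_mem (n : G) n.2 g⟩ := Subtype.ext h
      rw [this, hinv]
  have h2 : m = 1 := by
    rcases h1 with h | ⟨j, hj⟩
    · exact absurd (h ▸ dvd_zero p) hpm
    · rcases Nat.eq_zero_or_pos j with h0 | h0
      · rw [hj, h0, pow_zero]
      · exact absurd (hj ▸ dvd_pow_self p h0.ne') hpm
  subst h2
  have := finite_irr (G := N)
  have := Fintype.ofFinite (IrrCharacter N)
  have hχN : IsCharacter N (fun n : N => χ n) :=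
    Characters.Clifford.isCharacter_restrict N (isIrr_isCharacter hχ)
  have h3 := classFunction_eq_sum (isCharacter_isClassFunction hχN)
  rw [Finset.sum_eq_single (⟨θ, hθ⟩ : IrrCharacter N)] at h3
  · rw [hm] at h3
    intro n
    have := congrFun h3 n
    simpa using this
  · intro η _ hη
    by_contra hcon
    have h4 : classInner (fun n : N => χ n) (η : N → ℂ) ≠ 0 := by
      intro h
      exact hcon (by rw [h, zero_smul])
    have h5 : classInner (fun n : N => χ n) θ ≠ 0 := by rw [hm]; simp
    obtain ⟨g, hg⟩ := Characters.Clifford.exists_conj_of_constituents N hχ hθ η.2 h5 h4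
    apply hη
    apply Subtype.ext
    rw [hg]
    funext n
    exact hinv g n
  · intro h
    exact absurd (Finset.mem_univ _) h

end Cfsg.Agent.CharactersDeep.PrimeIndex
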