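import Cfsg.Agent.S0218
import Cfsg.Agent.OddOrderCharacters.ClassSum
import Cfsg.Agent.Characters.Values
import Cfsg.Prelude.Def_Characters
import Mathlib

/-!
# Involutions in groups with a generalized quaternion Sylow 2-subgroup

* all involutions are conjugate, commuting involutions are equal, the order of a product of two
  involutions is not divisible by four;
* if `χ₁ - χ₂` is constantly one on elements of order not divisible by four, for two irreducible
  characters, then all involutions lie in the kernels of `χ₁` and `χ₂` (Brauer–Suzuki).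
-/

set_option autoImplicit false

namespace Cfsg.Agent.CharactersDeep.QuatInvolutions

variable {G : Type*} [Group G]

/-- A generalized quaternion subgroup has exactly one involution. -/
theorem exists_unique_involution (S : Subgroup G) (n : ℕ) (e : S ≃* QuaternionGroup (2 ^ (n + 1))) :
    ∃ t ∈ S, orderOf t = 2 ∧ ∀ s ∈ S, orderOf s = 2 → s = t := by
  obtain ⟨hs, ⟨⟨x, hx⟩⟩⟩ := Nat.card_eq_one_iff_unique.1 (Cfsg.Agent.S0218.result n)
  refine ⟨e.symm x, (e.symm x).2, ?_, ?_⟩
  · rw [Subgroup.orderOf_coe, MulEquiv.orderOf_eq]; exact hx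
  · intro s hs' hs2
    have h1 : orderOf (e ⟨s, hs'⟩) = 2 := by
      rw [MulEquiv.orderOf_eq, Subgroup.orderOf_mk]; exact hs2
    have h2 : (⟨e ⟨s, hs'⟩, h1⟩ : {x : QuaternionGroup (2 ^ (n + 1)) // orderOf x = 2}) = ⟨x, hx⟩ :=
      hs.elim _ _
    have h3 : e ⟨s, hs'⟩ = x := congrArg Subtype.val h2
    rw [← h3, e.symm_apply_apply]

section finite

variable [Finite G]

/-- The unique involution of a subgroup of a conjugate of the Sylow 2-subgroup. -/
theorem conj_of_mem_isPGroup (S : Sylow 2 G) {t : G}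
    (ht : ∀ s ∈ S, orderOf s = 2 → s = t) {H : Subgroup G} (hH : IsPGroup 2 H) :
    ∃ g : G, ∀ x ∈ H, orderOf x = 2 → x = g * t * g⁻¹ := by
  have : Fact (Nat.Prime 2) := ⟨Nat.prime_two⟩
  obtain ⟨P, hP⟩ := hH.exists_le_sylow
  obtain ⟨g, hg⟩ := MulAction.exists_smul_eq G S P
  refine ⟨g, fun x hx hx2 => ?_⟩
  have h1 : x ∈ P := hP hx
  rw [← hg] at h1
  obtain ⟨s, hs, hsx⟩ := h1
  have hsx' : g * s * g⁻¹ = x := by simpa using hsx
  have h2 : orderOf s = 2 := by
    rw [← hx2, ← hsx']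
    have := orderOf_injective (MulAut.conj g).toMonoidHom (MulAut.conj g).injective s
    simpa [MulAut.conj_apply] using this.symm
  rw [← ht s hs h2, hsx']

/-- All involutions are conjugate to the one of the Sylow 2-subgroup. -/
theorem exists_conj_of_orderOf_eq_two (S : Sylow 2 G) {t : G}
    (ht : ∀ s ∈ S, orderOf s = 2 → s = t) {x : G} (hx : orderOf x = 2) :
    ∃ g : G, x = g * t * g⁻¹ := by
  have hp : IsPGroup 2 (Subgroup.zpowers x) := by
    rw [IsPGroup.iff_card, Nat.card_zpowers, hx]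
    exact ⟨1, by norm_num⟩
  obtain ⟨g, hg⟩ := conj_of_mem_isPGroup S ht hp
  exact ⟨g, hg x (Subgroup.mem_zpowers x) hx⟩

/-- Commuting involutions are equal. -/
theorem eq_of_commute (S : Sylow 2 G) {t : G} (ht : ∀ s ∈ S, orderOf s = 2 → s = t) {x y : G}
    (hx : orderOf x = 2) (hy : orderOf y = 2) (hxy : Commute x y) : x = y := by
  have hx2 : x * x = 1 := by rw [← sq, ← hx, pow_orderOf_eq_one]
  have hy2 : y * y = 1 := by rw [← sq, ← hy, pow_orderOf_eq_one]
  have hyx : y * x = x * y := hxy.symm.eq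
  -- the subgroup {1, x, y, xy}
  let H : Subgroup G :=
    { carrier := {1, x, y, x * y}
      one_mem' := by simp
      mul_mem' := by
        have e1 : x * (x * y) = y := by rw [← mul_assoc, hx2, one_mul]
        have e2 : y * (x * y) = x := by rw [← mul_assoc, hyx, mul_assoc, hy2, mul_one]
        have e3 : x * y * x = y := by rw [mul_assoc, hyx, e1]
        have e4 : x * y * y = x := by rw [mul_assoc, hy2, mul_one]
        have e5 : x * y * (x * y) = 1 := by rw [← mul_assoc, e3, hy2]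
        rintro a b (rfl | rfl | rfl | rfl) (rfl | rfl | rfl | rfl) <;>
          simp [hx2, hy2, hyx, e1, e2, e3, e4, e5]
      inv_mem' := by
        have e1 : x⁻¹ = x := inv_eq_of_mul_eq_one_left hx2
        have e2 : y⁻¹ = y := inv_eq_of_mul_eq_one_left hy2
        rintro a (rfl | rfl | rfl | rfl) <;> simp [e1, e2, hyx] }
  have hH : IsPGroup 2 H := by
    rintro ⟨a, ha⟩
    refine ⟨1, Subtype.ext ?_⟩
    rcases ha with rfl | rfl | rfl | rfl
    · simp
    · simp [sq, hx2]
    · simp [sq, hy2]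
    · show (x * y) ^ (2 ^ 1) = 1
      rw [pow_one, hxy.mul_pow, sq, sq, hx2, hy2, one_mul]
  obtain ⟨g, hg⟩ := conj_of_mem_isPGroup S ht hH
  have h1 : x ∈ H := by show x ∈ ({1, x, y, x * y} : Set G); simp
  have h2 : y ∈ H := by show y ∈ ({1, x, y, x * y} : Set G); simp
  rw [hg x h1 hx, hg y h2 hy]

/-- The order of a product of two involutions is not divisible by four. -/
theorem not_four_dvd_orderOf_mul (S : Sylow 2 G) {t : G} (ht : ∀ s ∈ S, orderOf s = 2 → s = t)
    {x y : G} (hx : orderOf x = 2) (hy : orderOf y = 2) : ¬ 4 ∣ orderOf (x * y) := by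
  have hx2 : x * x = 1 := by rw [← sq, ← hx, pow_orderOf_eq_one]
  have hy2 : y * y = 1 := by rw [← sq, ← hy, pow_orderOf_eq_one]
  rintro ⟨k, hk⟩
  have hpos : 0 < orderOf (x * y) := orderOf_pos _
  have hk0 : k ≠ 0 := by rintro rfl; omega
  set h := (x * y) ^ k with hh
  have hho : orderOf h = 4 := by
    rw [hh, orderOf_pow, hk]
    rw [Nat.gcd_eq_right (Dvd.intro_left 4 rfl)]
    exact Nat.mul_div_cancel _ (Nat.pos_of_ne_zero hk0)
  have hxinv : x⁻¹ = x := inv_eq_of_mul_eq_one_left hx2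
  have hyinv : y⁻¹ = y := inv_eq_of_mul_eq_one_left hy2
  have hconj : x * h * x⁻¹ = h⁻¹ := by
    rw [hh, ← conj_pow, ← inv_pow]
    congr 1
    rw [mul_inv_rev, hyinv, hxinv, ← mul_assoc x x y, hx2, one_mul]
  have h2o : orderOf (h ^ 2) = 2 := by
    rw [orderOf_pow, hho]
    norm_num
  have hcomm : Commute x (h ^ 2) := by
    have e1 : x * h ^ 2 * x⁻¹ = h ^ 2 := by
      rw [← conj_pow, hconj, inv_pow]
      have e2 : h ^ 2 * h ^ 2 = 1 := by
        have e0 : h ^ 4 = 1 := by rw [← hho, pow_orderOf_eq_one]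
        rw [← pow_add]; exact e0
      exact inv_eq_of_mul_eq_one_left e2
    exact mul_inv_eq_iff_eq_mul.1 e1
  have hxh : x = h ^ 2 := eq_of_commute S ht hx h2o hcomm
  have e3 : x * h * x⁻¹ = h := by
    rw [hxh]; group
  rw [hconj] at e3
  have e4 : h ^ 2 = 1 := by
    rw [sq]
    nth_rewrite 1 [← e3]
    exact inv_mul_cancel h
  rw [e4, orderOf_one] at h2o
  omega

/-- If `χ₁ - χ₂` is constantly one on elements of order not divisible by four, for two irreducible
characters, then `χ₂ t = χ₂ 1` for all involutions `t`, hence `χ₁ t = χ₁ 1`. -/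
theorem character_involution (S : Sylow 2 G) (n : ℕ)
    (e : (S : Subgroup G) ≃* QuaternionGroup (2 ^ (n + 1)))
    {χ₁ χ₂ : G → ℂ} (h1 : Cfsg.IsIrrCharacter G χ₁) (h2 : Cfsg.IsIrrCharacter G χ₂)
    (h : ∀ g : G, ¬ 4 ∣ orderOf g → χ₁ g - χ₂ g = 1) :
    ∀ t : G, orderOf t = 2 → χ₁ t = χ₁ 1 ∧ χ₂ t = χ₂ 1 := by
  classical
  have := Fintype.ofFinite G
  obtain ⟨t, htS, ht2, ht⟩ := exists_unique_involution (S : Subgroup G) n e
  obtain ⟨n₁, ρ₁, hρ₁, rfl⟩ := h1
  obtain ⟨n₂, ρ₂, hρ₂, rfl⟩ := h2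
  set T : Finset G := Finset.univ.filter (fun x => orderOf x = 2) with hT
  have hTmem : ∀ x, x ∈ T ↔ orderOf x = 2 := by intro x; simp [hT]
  have hTconj : ∀ g : G, ∀ x ∈ T, g * x * g⁻¹ ∈ T := by
    intro g x hx
    rw [hTmem] at hx ⊢
    rw [← hx]
    have := orderOf_injective (MulAut.conj g).toMonoidHom (MulAut.conj g).injective x
    simpa [MulAut.conj_apply] using this
  have hval : ∀ {V : Type} [AddCommGroup V] [Module ℂ V] (ρ : Representation ℂ G V),
      ∀ x : G, orderOf x = 2 → ρ.character x = ρ.character t := by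
    intro V _ _ ρ x hx
    obtain ⟨g, rfl⟩ := exists_conj_of_orderOf_eq_two S ht hx
    exact ρ.char_conj t g
  have hTpos : (T.card : ℂ) ≠ 0 := by
    have : t ∈ T := (hTmem t).2 ht2
    exact_mod_cast (Finset.card_pos.2 ⟨t, this⟩).ne'
  have hsum : ∀ {m : ℕ} (ρ : Representation ℂ G (Fin m → ℂ)), ρ.IsIrreducible →
      ρ.character 1 * ∑ x ∈ T, ∑ y ∈ T, ρ.character (x * y) = (T.card * ρ.character t) ^ 2 := by
    intro m ρ hρ
    rw [Cfsg.Agent.OddOrderCharacters.ClassSum.character_class_sum_mul ρ hρ T T hTconj hTconj]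
    have : ∑ x ∈ T, ρ.character x = T.card * ρ.character t := by
      rw [Finset.sum_congr rfl (fun x hx => hval ρ x ((hTmem x).1 hx)), Finset.sum_const,
        nsmul_eq_mul]
    rw [this, sq]
  have hdiff : ∑ x ∈ T, ∑ y ∈ T, ρ₁.character (x * y)
      = ∑ x ∈ T, ∑ y ∈ T, ρ₂.character (x * y) + (T.card : ℂ) ^ 2 := by
    have e1 : ∀ x ∈ T, ∀ y ∈ T, ρ₁.character (x * y) = ρ₂.character (x * y) + 1 := by
      intro x hx y hy
      have := h (x * y) (not_four_dvd_orderOf_mul S ht ((hTmem x).1 hx) ((hTmem y).1 hy))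
      linear_combination this
    rw [Finset.sum_congr rfl (fun x hx => Finset.sum_congr rfl (fun y hy => e1 x hx y hy))]
    simp only [Finset.sum_add_distrib, Finset.sum_const, nsmul_eq_mul]
    ring
  have hs1 := hsum ρ₁ hρ₁
  have hs2 := hsum ρ₂ hρ₂
  have ht' : ρ₁.character t - ρ₂.character t = 1 := h t (by rw [ht2]; norm_num)
  have hone : ρ₁.character 1 - ρ₂.character 1 = 1 := h 1 (by rw [orderOf_one]; norm_num)
  have key : (T.card : ℂ) ^ 2 * (ρ₂.character 1 - ρ₂.character t) ^ 2 = 0 := by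
    have e1 : ρ₁.character 1 = ρ₂.character 1 + 1 := by linear_combination hone
    have e2 : ρ₁.character t = ρ₂.character t + 1 := by linear_combination ht'
    rw [hdiff, e1, e2] at hs1
    linear_combination (ρ₂.character 1) * hs1 - (ρ₂.character 1 + 1) * hs2
  have hkey : ρ₂.character 1 - ρ₂.character t = 0 := by
    rcases mul_eq_zero.1 key with h0 | h0
    · exact absurd (pow_eq_zero_iff (two_ne_zero) |>.1 h0) hTpos
    · exact pow_eq_zero_iff (two_ne_zero) |>.1 h0
  intro x hx
  rw [hval ρ₁ x hx, hval ρ₂ x hx]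
  constructor
  · linear_combination ht' - hone - hkey
  · linear_combination -hkey

end finite

end Cfsg.Agent.CharactersDeep.QuatInvolutions
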