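import Mathlib

set_option autoImplicit false

/-! Facts on generalized quaternion Sylow 2-subgroups of order at least 16: the derived subgroup,
its centralizer and its normalizer (helper484, used for S0842, S0843). -/

namespace Cfsg.Agent.CharactersDeep.QuatSylow

open Subgroup

open scoped commutatorElement

theorem pow_natCard_eq_one_of_mem {G : Type*} [Group G] {H : Subgroup G} {x : G} (hx : x ∈ H) :
    x ^ Nat.card H = 1 := by
  have h1 : (⟨x, hx⟩ : H) ^ Nat.card H = 1 := pow_card_eq_one'
  have h2 := congrArg (Subtype.val : H → G) h1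
  exact h2

/-! ### Cyclic groups -/

/-- In a finite cyclic group a subgroup whose order divides the order of another one is contained
in it. -/
theorem le_of_card_dvd_of_isCyclic {W : Type*} [Group W] [Finite W] [IsCyclic W]
    {H K : Subgroup W} (h : Nat.card H ∣ Nat.card K) : H ≤ K := by
  classical
  have := Fintype.ofFinite W
  intro x hx
  have hx1 : x ^ Nat.card K = 1 := by
    obtain ⟨c, hc⟩ := h
    rw [hc, pow_mul, pow_natCard_eq_one_of_mem hx, one_pow]
  have hle := IsCyclic.card_pow_eq_one_le (α := W) (n := Nat.card K) Nat.card_pos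
  have hsub : (Finset.univ.filter (fun y : W => y ∈ K)) ⊆
      (Finset.univ.filter (fun y : W => y ^ Nat.card K = 1)) := by
    intro y hy
    simp only [Finset.mem_filter, Finset.mem_univ, true_and] at hy ⊢
    exact pow_natCard_eq_one_of_mem hy
  have hcard : (Finset.univ.filter (fun y : W => y ∈ K)).card = Nat.card K := by
    rw [Nat.card_eq_fintype_card, Fintype.card_subtype]
  have heq := Finset.eq_of_subset_of_card_le hsub (by rw [hcard]; exact hle)
  have : x ∈ Finset.univ.filter (fun y : W => y ∈ K) := by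
    rw [heq]; exact Finset.mem_filter.mpr ⟨Finset.mem_univ _, hx1⟩
  simpa using this

/-- In a cyclic subgroup, containment of subgroups is decided by their orders. -/
theorem le_of_card_dvd_of_le_cyclic {G : Type*} [Group G] [Finite G] {W H K : Subgroup G}
    (hW : IsCyclic W) (hH : H ≤ W) (hK : K ≤ W) (h : Nat.card H ∣ Nat.card K) : H ≤ K := by
  have key : H.subgroupOf W ≤ K.subgroupOf W := by
    apply le_of_card_dvd_of_isCyclic
    rw [Nat.card_congr (subgroupOfEquivOfLe hH).toEquiv,
      Nat.card_congr (subgroupOfEquivOfLe hK).toEquiv]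
    exact h
  intro x hx
  exact key (x := ⟨x, hH hx⟩) hx

/-! ### The quaternion group of order `4m` -/

theorem quat_commutator (m : ℕ) [NeZero m] :
    commutator (QuaternionGroup m) = zpowers (QuaternionGroup.a 2 : QuaternionGroup m) := by
  have h2m : (m : ZMod (2 * m)) + m = 0 := by
    have : ((2 * m : ℕ) : ZMod (2 * m)) = 0 := ZMod.natCast_self _
    rw [← this]; push_cast; ring
  apply le_antisymm
  · rw [_root_.commutator_def, commutator_le]
    have hmem : ∀ k : ZMod (2 * m), (QuaternionGroup.a (k * 2) : QuaternionGroup m) ∈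
        zpowers (QuaternionGroup.a 2 : QuaternionGroup m) := by
      intro k
      refine ⟨(k.val : ℤ), ?_⟩
      have hcast : ∀ j : ℕ, (QuaternionGroup.a 2 : QuaternionGroup m) ^ j =
          QuaternionGroup.a ((j : ZMod (2 * m)) * 2) := by
        intro j
        induction j with
        | zero => simp
        | succ j ih => rw [pow_succ, ih, QuaternionGroup.a_mul_a]; congr 1; push_cast; ring
      simp only [zpow_natCast]
      rw [hcast, ZMod.natCast_zmod_val]
    rintro (i | i) - (j | j) -
    · have : (⁅(QuaternionGroup.a i : QuaternionGroup m), QuaternionGroup.a j⁆) =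
          QuaternionGroup.a (0 * 2) := by
        rw [commutatorElement_def]
        change (QuaternionGroup.a (((i + j) + -i) + -j) : QuaternionGroup m) = _
        congr 1; ring
      rw [this]; exact hmem _
    · have : (⁅(QuaternionGroup.a i : QuaternionGroup m), QuaternionGroup.xa j⁆) =
          QuaternionGroup.a (i * 2) := by
        rw [commutatorElement_def]
        change (QuaternionGroup.a (m + (m + j) - (j - i + -i)) : QuaternionGroup m) = _
        congr 1; linear_combination h2m
      rw [this]; exact hmem _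
    · have : (⁅(QuaternionGroup.xa i : QuaternionGroup m), QuaternionGroup.a j⁆) =
          QuaternionGroup.a (-j * 2) := by
        rw [commutatorElement_def]
        change (QuaternionGroup.a (m + (m + i) - (i + j) + -j) : QuaternionGroup m) = _
        congr 1; linear_combination h2m
      rw [this]; exact hmem _
    · have : (⁅(QuaternionGroup.xa i : QuaternionGroup m), QuaternionGroup.xa j⁆) =
          QuaternionGroup.a ((j - i) * 2) := by
        rw [commutatorElement_def]
        change (QuaternionGroup.a (m + (m + j) - ((m + i) - (m + j - i))) : QuaternionGroup m) = _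
        congr 1; linear_combination h2m
      rw [this]; exact hmem _
  · rw [zpowers_le]
    have : (QuaternionGroup.a 2 : QuaternionGroup m) =
        ⁅(QuaternionGroup.a 1 : QuaternionGroup m), QuaternionGroup.xa 0⁆ := by
      rw [commutatorElement_def]
      change _ = (QuaternionGroup.a (m + (m + 0) - (0 - 1 + -1)) : QuaternionGroup m)
      congr 1; linear_combination -h2m
    rw [this, _root_.commutator_def]
    exact commutator_mem_commutator (mem_top _) (mem_top _)

theorem quat_mem_zpowers_a_one (m : ℕ) [NeZero m] (i : ZMod (2 * m)) :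
    (QuaternionGroup.a i : QuaternionGroup m) ∈ zpowers (QuaternionGroup.a 1 : QuaternionGroup m) :=
  ⟨(i.val : ℤ), by
    simp only [zpow_natCast]
    rw [QuaternionGroup.a_one_pow, ZMod.natCast_zmod_val]⟩

theorem quat_commute_a_two (m : ℕ) [NeZero m] (hm : 3 ≤ m) (x : QuaternionGroup m) :
    x * QuaternionGroup.a 2 = QuaternionGroup.a 2 * x ↔
      x ∈ zpowers (QuaternionGroup.a 1 : QuaternionGroup m) := by
  rcases x with i | i
  · constructor
    · intro _; exact quat_mem_zpowers_a_one m i
    · intro _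
      rw [QuaternionGroup.a_mul_a, QuaternionGroup.a_mul_a, add_comm]
  · constructor
    · intro h
      rw [QuaternionGroup.xa_mul_a, QuaternionGroup.a_mul_xa] at h
      injection h with h
      exfalso
      have h4 : ((4 : ℕ) : ZMod (2 * m)) = 0 := by
        push_cast; linear_combination h
      rw [ZMod.natCast_eq_zero_iff] at h4
      have := Nat.le_of_dvd (by norm_num) h4
      omega
    · intro h
      obtain ⟨k, hk⟩ := h
      exfalso
      have hz : ∀ k : ℤ, ∃ j, (QuaternionGroup.a 1 : QuaternionGroup m) ^ k =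
          QuaternionGroup.a j := by
        intro k
        obtain ⟨l, rfl | rfl⟩ := k.eq_nat_or_neg
        · exact ⟨l, by simp⟩
        · exact ⟨-l, by rw [zpow_neg, zpow_natCast, QuaternionGroup.a_one_pow]; rfl⟩
      obtain ⟨j, hj⟩ := hz k
      simp only at hk
      rw [hj] at hk
      exact QuaternionGroup.noConfusion rfl (heq_of_eq hk)

/-! ### A subgroup isomorphic to the quaternion group of order at least 16 -/

section

variable {G : Type*} [Group G]

theorem exists_generator (S : Subgroup G) (n : ℕ) (e : S ≃* QuaternionGroup (2 ^ (n + 2))) :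
    ∃ α : G, α ∈ S ∧ orderOf α = 2 ^ (n + 3) ∧ ⁅S, S⁆ = zpowers (α ^ 2) ∧
      (∀ s ∈ S, s * α ^ 2 = α ^ 2 * s ↔ s ∈ zpowers α) ∧ Nat.card S = 2 ^ (n + 4) := by
  have hne : NeZero (2 ^ (n + 2)) := ⟨by positivity⟩
  have hα2 : ((e.symm (QuaternionGroup.a 2) : S) : G) =
      ((e.symm (QuaternionGroup.a 1) : S) : G) ^ 2 := by
    rw [← Subgroup.coe_pow, ← map_pow, QuaternionGroup.a_one_pow]; norm_num
  refine ⟨e.symm (QuaternionGroup.a 1), SetLike.coe_mem _, ?_, ?_, ?_, ?_⟩
  · rw [Subgroup.orderOf_coe, MulEquiv.orderOf_eq, QuaternionGroup.orderOf_a_one]; ring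
  · have h1 : map (S.subtype.comp e.symm.toMonoidHom) (commutator _) =
        map (S.subtype.comp e.symm.toMonoidHom) (zpowers (QuaternionGroup.a 2)) := by
      rw [quat_commutator]
    rw [_root_.commutator_def, map_commutator, MonoidHom.map_zpowers, ← Subgroup.map_map] at h1
    have h2 : map e.symm.toMonoidHom ⊤ = ⊤ :=
      Subgroup.map_top_of_surjective _ e.symm.surjective
    rw [h2, ← MonoidHom.range_eq_map, Subgroup.range_subtype] at h1
    rw [h1, ← hα2]; rfl
  · intro s hs
    have := quat_commute_a_two (2 ^ (n + 2)) (by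
      have : 2 ^ 2 ≤ 2 ^ (n + 2) := Nat.pow_le_pow_right (by norm_num) (by omega)
      omega) (e ⟨s, hs⟩)
    rw [← hα2]
    constructor
    · intro h
      have h' : (⟨s, hs⟩ : S) * e.symm (QuaternionGroup.a 2) =
          e.symm (QuaternionGroup.a 2) * ⟨s, hs⟩ := Subtype.ext h
      have h'' := this.mp (by
        have := congrArg e h'
        rwa [map_mul, map_mul, e.apply_symm_apply] at this)
      obtain ⟨k, hk⟩ := h''
      refine ⟨k, ?_⟩
      simp only at hk ⊢
      rw [← Subgroup.coe_zpow, ← map_zpow, hk, e.symm_apply_apply]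
    · rintro ⟨k, hk⟩
      simp only at hk
      rw [← hk, hα2, ← zpow_natCast, ← zpow_add, ← zpow_add, add_comm k]
  · rw [Nat.card_congr e.toEquiv, Nat.card_eq_fintype_card, QuaternionGroup.card]; ring

end

section

variable {G : Type*} [Group G]

theorem card_derived {α : G} {n : ℕ} (hα : orderOf α = 2 ^ (n + 3)) :
    Nat.card (zpowers (α ^ 2)) = 2 ^ (n + 2) := by
  rw [Nat.card_zpowers, orderOf_pow' _ (by norm_num), hα]
  have : Nat.gcd (2 ^ (n + 3)) 2 = 2 := by
    apply Nat.gcd_eq_right
    exact dvd_pow_self 2 (by omega)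
  rw [this]
  rw [show n + 3 = (n + 2) + 1 from rfl, pow_succ]
  exact Nat.mul_div_cancel _ (by norm_num)

theorem inf_centralizer_eq {S : Subgroup G} {α : G} (hαS : α ∈ S)
    (hcomm : ∀ s ∈ S, s * α ^ 2 = α ^ 2 * s ↔ s ∈ zpowers α) :
    S ⊓ centralizer (zpowers (α ^ 2) : Set G) = zpowers α := by
  ext s
  rw [mem_inf]
  constructor
  · rintro ⟨hs, hc⟩
    exact (hcomm s hs).mp ((mem_centralizer_iff.mp hc _ (mem_zpowers _)).symm)
  · intro hs
    refine ⟨(zpowers_le.mpr hαS) hs, mem_centralizer_iff.mpr ?_⟩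
    rintro x ⟨k, rfl⟩
    obtain ⟨l, rfl⟩ := hs
    simp only
    rw [← zpow_natCast, ← zpow_mul, ← zpow_add, ← zpow_add, add_comm]

theorem le_normalizer_derived (S : Subgroup G) : S ≤ normalizer (⁅S, S⁆ : Subgroup G) :=
  normalizer_commutator_ge_left S S

variable [Finite G]

/-- If `L` is normal in `G` then `S ⊓ L` has index prime to `p` in `L`. -/
theorem not_dvd_relIndex_of_normal {p : ℕ} [Fact p.Prime] (S : Sylow p G) (L : Subgroup G)
    [L.Normal] : ¬ p ∣ (S : Subgroup G).relIndex L := by
  intro h
  have h1 : L.relIndex ((S : Subgroup G) ⊔ L) = L.relIndex (S : Subgroup G) :=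
    relIndex_sup_right _ _
  have h2 := relIndex_mul_relIndex ((S : Subgroup G) ⊓ L) S ((S : Subgroup G) ⊔ L) inf_le_left
    le_sup_left
  have h3 := relIndex_mul_relIndex ((S : Subgroup G) ⊓ L) L ((S : Subgroup G) ⊔ L) inf_le_right
    le_sup_right
  rw [inf_relIndex_left] at h2
  rw [inf_relIndex_right, h1, ← h2, mul_comm] at h3
  have h4 : L.relIndex (S : Subgroup G) ≠ 0 :=
    ne_zero_of_dvd_ne_zero Nat.card_pos.ne' (relIndex_dvd_card _ _)
  have h5 := Nat.eq_of_mul_eq_mul_left (Nat.pos_of_ne_zero h4) h3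
  rw [h5] at h
  exact S.not_dvd_index (h.trans (relIndex_dvd_index_of_le le_sup_left))

/-- A relative version: `S ≤ N`, `L ≤ N` normalized by `N`. -/
theorem not_dvd_relIndex_of_le_normalizer {p : ℕ} [Fact p.Prime] (S : Sylow p G)
    (L N : Subgroup G) (hSN : (S : Subgroup G) ≤ N) (hLN : L ≤ N)
    (hN : N ≤ normalizer (L : Set G)) : ¬ p ∣ (S : Subgroup G).relIndex L := by
  have hn : (L.subgroupOf N).Normal := by
    rw [normal_subgroupOf_iff_le_normalizer hLN]; exact hN
  have := not_dvd_relIndex_of_normal (S.subtype hSN) (L.subgroupOf N)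
  rwa [Sylow.coe_subtype, relIndex_subgroupOf hLN] at this

/-- A finite group with a cyclic Sylow 2-subgroup has a normal 2-complement, consisting of the
elements of odd order. -/
theorem exists_two_complement (P : Sylow 2 G) (hP : IsCyclic P) :
    ∃ K : Subgroup G, Odd (Nat.card K) ∧ K ⊔ (P : Subgroup G) = ⊤ ∧
      ∀ x : G, x ∈ K ↔ Odd (orderOf x) := by
  by_cases h2 : 2 ∣ Nat.card G
  · have hmin : (Nat.card G).minFac = 2 := by
      rwa [Nat.minFac_eq_two_iff]
    have hc := IsCyclic.isComplement' hmin hP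
    have hnd := MonoidHom.not_dvd_card_ker_transferSylow P (hP.normalizer_le_centralizer hmin)
    have hker : ∀ x, x ∈ (MonoidHom.transferSylow P (hP.normalizer_le_centralizer hmin)).ker ↔
        MonoidHom.transferSylow P (hP.normalizer_le_centralizer hmin) x = 1 := by
      intro x; exact MonoidHom.mem_ker
    set f := MonoidHom.transferSylow P (hP.normalizer_le_centralizer hmin)
    refine ⟨f.ker, ?_, hc.sup_eq_top, ?_⟩
    · rw [← Nat.not_even_iff_odd, even_iff_two_dvd]
      exact hnd
    · intro x
      constructor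
      · intro hx
        rw [← Nat.not_even_iff_odd, even_iff_two_dvd]
        intro h
        apply hnd
        have := orderOf_dvd_natCard (⟨x, hx⟩ : f.ker)
        rw [Subgroup.orderOf_mk] at this
        exact h.trans this
      · intro hx
        rw [hker]
        have h1 : orderOf (f x) ∣ orderOf x := orderOf_map_dvd f x
        obtain ⟨k, hk⟩ := P.2 (f x)
        have h3 : orderOf (f x) ∣ 2 ^ k := orderOf_dvd_of_pow_eq_one hk
        rw [← orderOf_eq_one_iff]
        have hcop : Nat.Coprime (orderOf x) (2 ^ k) := (Nat.Coprime.pow_right k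
          (Nat.coprime_two_right.mpr hx))
        exact Nat.eq_one_of_dvd_coprimes hcop h1 h3
  · refine ⟨⊤, ?_, by simp, ?_⟩
    · rw [← Nat.not_even_iff_odd, even_iff_two_dvd, Subgroup.card_top]
      exact h2
    · intro x
      simp only [mem_top, true_iff]
      rw [← Nat.not_even_iff_odd, even_iff_two_dvd]
      intro h
      exact h2 (h.trans (orderOf_dvd_natCard x))

omit [Finite G] in
theorem conj_mem_centralizer {D : Subgroup G} {g y : G} (hg : g ∈ normalizer (D : Set G))
    (hy : y ∈ centralizer (D : Set G)) : g * y * g⁻¹ ∈ centralizer (D : Set G) := by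
  rw [mem_centralizer_iff] at hy ⊢
  intro d hd
  have hd' : g⁻¹ * d * g ∈ D := by
    have := (mem_normalizer_iff.mp (inv_mem hg) d).mp hd
    rwa [inv_inv] at this
  have := hy _ hd'
  calc d * (g * y * g⁻¹) = g * ((g⁻¹ * d * g) * y) * g⁻¹ := by group
    _ = g * (y * (g⁻¹ * d * g)) * g⁻¹ := by rw [this]
    _ = g * y * g⁻¹ * d := by group

omit [Finite G] in
theorem normalizer_le_normalizer_centralizer (D : Subgroup G) :
    normalizer (D : Set G) ≤ normalizer (centralizer (D : Set G) : Set G) := by
  intro g hg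
  rw [mem_normalizer_iff]
  intro y
  constructor
  · intro hy
    exact conj_mem_centralizer hg hy
  · intro hy
    have := conj_mem_centralizer (inv_mem hg) hy
    have h2 : g⁻¹ * (g * y * g⁻¹) * g⁻¹⁻¹ = y := by group
    rwa [h2] at this

/-- The Sylow 2-subgroup `S ∩ C` of `C = C(D)`. -/
theorem exists_sylow_centralizer (S : Sylow 2 G) {α : G} (hαS : α ∈ S)
    (hder : ⁅(S : Subgroup G), (S : Subgroup G)⁆ = zpowers (α ^ 2))
    (hcomm : ∀ s ∈ S, s * α ^ 2 = α ^ 2 * s ↔ s ∈ zpowers α) :
    ∃ P : Sylow 2 (centralizer (zpowers (α ^ 2) : Set G)),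
      (P : Subgroup (centralizer (zpowers (α ^ 2) : Set G))) =
        (zpowers α).subgroupOf (centralizer (zpowers (α ^ 2) : Set G)) ∧ IsCyclic P := by
  have hSN : (S : Subgroup G) ≤ normalizer (zpowers (α ^ 2) : Set G) := by
    rw [← hder]; exact le_normalizer_derived _
  have hinf := inf_centralizer_eq (S := (S : Subgroup G)) hαS hcomm
  set C := centralizer (zpowers (α ^ 2) : Set G) with hC
  have hnd : ¬ 2 ∣ (S : Subgroup G).relIndex C := by
    apply not_dvd_relIndex_of_le_normalizer S C (normalizer (zpowers (α ^ 2) : Set G)) hSN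
    · exact centralizer_le_normalizer _
    · exact normalizer_le_normalizer_centralizer _
  have hp : IsPGroup 2 ((S : Subgroup G).subgroupOf C) := S.2.comap_subtype
  have hnd' : ¬ 2 ∣ ((S : Subgroup G).subgroupOf C).index := hnd
  have hαC : zpowers α ≤ C := by rw [← hinf]; exact inf_le_right
  have hco : ((hp.toSylow hnd' : Sylow 2 C) : Subgroup C) = (zpowers α).subgroupOf C := by
    rw [IsPGroup.toSylow_coe, ← hinf, inf_subgroupOf_right]
  refine ⟨hp.toSylow hnd', hco, ?_⟩
  rw [hco]
  exact (subgroupOfEquivOfLe hαC).isCyclic.mpr inferInstance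

/-- `[N(D) : C(D)]` is a power of 2 for a cyclic 2-group `D`. -/
theorem relIndex_centralizer_dvd {D : Subgroup G} (hD : IsCyclic D) {k : ℕ}
    (hk : Nat.card D = 2 ^ k) :
    (centralizer (D : Set G)).relIndex (normalizer (D : Set G)) ∣ 2 ^ (k - 1) := by
  have key := card_dvd_of_injective _ (QuotientGroup.kerLift_injective D.normalizerMonoidHom)
  rw [normalizerMonoidHom_ker, ← index, ← relIndex] at key
  rw [hD.card_mulAut, hk] at key
  rcases Nat.eq_zero_or_pos k with h0 | h0
  · subst h0; simpa using key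
  · rw [Nat.totient_prime_pow Nat.prime_two h0] at key
    simpa using key

/-- The main structure theorem. -/
theorem main_structure (S : Sylow 2 G) (n : ℕ)
    (e : (S : Subgroup G) ≃* QuaternionGroup (2 ^ (n + 2))) (D : Subgroup G)
    (hD : D = ⁅(S : Subgroup G), (S : Subgroup G)⁆) :
    ∃ K : Subgroup G, Odd (Nat.card K) ∧ K ≤ centralizer (D : Set G) ∧
      normalizer (D : Set G) ≤ normalizer (K : Set G) ∧
      K ⊔ (S : Subgroup G) = normalizer (D : Set G) ∧
      K ⊔ ((S : Subgroup G) ⊓ centralizer (D : Set G)) = centralizer (D : Set G) ∧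
      ((centralizer (D : Set G)).subgroupOf (normalizer (D : Set G))).index = 2 := by
  obtain ⟨α, hαS, hαo, hder, hcomm, hcS⟩ := exists_generator (S : Subgroup G) n e
  have hSyl := exists_sylow_centralizer S hαS hder hcomm
  have hinf := inf_centralizer_eq (S := (S : Subgroup G)) hαS hcomm
  have hSN := le_normalizer_derived (S : Subgroup G)
  rw [hder] at hD hSN
  subst hD
  have hcD := card_derived hαo
  have hdvd := relIndex_centralizer_dvd (D := zpowers (α ^ 2)) inferInstance hcD
  have hNC := normalizer_le_normalizer_centralizer (zpowers (α ^ 2))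
  have hCN := centralizer_le_normalizer (zpowers (α ^ 2) : Set G)
  set C := centralizer (zpowers (α ^ 2) : Set G) with hC
  set N := normalizer (zpowers (α ^ 2) : Set G) with hN
  obtain ⟨P, hP, hPc⟩ := hSyl
  obtain ⟨K₀, hK₀odd, hK₀sup, hK₀mem⟩ := exists_two_complement P hPc
  have hαC : zpowers α ≤ C := by rw [← hinf]; exact inf_le_right
  have hKmem : ∀ x : G, x ∈ K₀.map C.subtype ↔ x ∈ C ∧ Odd (orderOf x) := by
    intro x
    constructor
    · rintro ⟨y, hy, rfl⟩
      refine ⟨y.2, ?_⟩
      have := (hK₀mem y).mp hy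
      rwa [← Subgroup.orderOf_coe] at this
    · rintro ⟨hx, hx'⟩
      refine ⟨⟨x, hx⟩, (hK₀mem _).mpr ?_, rfl⟩
      rwa [Subgroup.orderOf_mk]
  have hsupC : K₀.map C.subtype ⊔ ((S : Subgroup G) ⊓ C) = C := by
    have h1 := congrArg (map C.subtype) hK₀sup
    rw [Subgroup.map_sup, hP, subgroupOf_map_subtype, ← MonoidHom.range_eq_map, range_subtype,
      inf_eq_left.mpr hαC] at h1
    rw [hinf]; exact h1
  have hKC : K₀.map C.subtype ≤ C := map_subtype_le K₀
  have hCM : C ≤ K₀.map C.subtype ⊔ (S : Subgroup G) := by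
    conv_lhs => rw [← hsupC]
    exact sup_le_sup_left inf_le_left _
  have hMN : K₀.map C.subtype ⊔ (S : Subgroup G) ≤ N := sup_le (hKC.trans hCN) hSN
  have hM : K₀.map C.subtype ⊔ (S : Subgroup G) = N := by
    apply le_antisymm hMN
    rw [← relIndex_eq_one]
    have h1 : (K₀.map C.subtype ⊔ (S : Subgroup G)).relIndex N ∣ 2 ^ (n + 2 - 1) :=
      (relIndex_dvd_of_le_left N hCM).trans hdvd
    have h2 : (K₀.map C.subtype ⊔ (S : Subgroup G)).relIndex N ∣ (S : Subgroup G).index :=
      (relIndex_dvd_of_le_left N le_sup_right).trans (relIndex_dvd_index_of_le hSN)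
    have h3 : Nat.Coprime (2 ^ (n + 2 - 1)) (S : Subgroup G).index := by
      apply Nat.Coprime.pow_left
      rw [Nat.Prime.coprime_iff_not_dvd Nat.prime_two]
      exact S.not_dvd_index
    exact Nat.eq_one_of_dvd_coprimes h3 h1 h2
  refine ⟨K₀.map C.subtype, ?_, hKC, ?_, hM, hsupC, ?_⟩
  · rwa [Nat.card_congr (K₀.equivMapOfInjective _ C.subtype_injective).toEquiv.symm]
  · intro g hg
    rw [mem_normalizer_iff]
    intro x
    rw [hKmem, hKmem]
    have h1 := mem_normalizer_iff.mp (hNC hg) x
    rw [h1]
    have h2 : orderOf (g * x * g⁻¹) = orderOf x := by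
      have := MulEquiv.orderOf_eq (MulAut.conj g) x
      rwa [MulAut.conj_apply] at this
    rw [h2]
  · have hn : (C.subgroupOf N).Normal := by
      rw [normal_subgroupOf_iff_le_normalizer hCN]; exact hNC
    have hCS : C ⊔ (S : Subgroup G) = N := by
      apply le_antisymm (sup_le hCN hSN)
      rw [← hM]
      exact sup_le_sup_right hKC _
    have h1 : (S : Subgroup G).subgroupOf N ⊔ C.subgroupOf N = ⊤ := by
      rw [← subgroupOf_sup hSN hCN, sup_comm, hCS, subgroupOf_self]
    have h2 : (C.subgroupOf N).relIndex ((S : Subgroup G).subgroupOf N ⊔ C.subgroupOf N) =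
        (C.subgroupOf N).relIndex ((S : Subgroup G).subgroupOf N) := relIndex_sup_right _ _
    rw [h1, relIndex_top_right, relIndex_subgroupOf hSN, ← inf_relIndex_left, hinf] at h2
    rw [h2]
    have h3 : Nat.card (zpowers α) * (zpowers α).relIndex (S : Subgroup G) =
        Nat.card (S : Subgroup G) := by
      rw [← relIndex_bot_left, ← relIndex_bot_left]
      exact relIndex_mul_relIndex ⊥ _ _ bot_le (zpowers_le.mpr hαS)
    rw [Nat.card_zpowers, hαo, hcS, show n + 4 = n + 3 + 1 from rfl, pow_succ] at h3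
    exact Nat.eq_of_mul_eq_mul_left (by positivity) h3

/-- Part 1 of the statement on the TI set. -/
theorem derived_le_zpowers (S : Sylow 2 G) (n : ℕ)
    (e : (S : Subgroup G) ≃* QuaternionGroup (2 ^ (n + 2))) (D : Subgroup G)
    (hD : D = ⁅(S : Subgroup G), (S : Subgroup G)⁆) (y : G)
    (hy : y ∈ centralizer (D : Set G)) (hdvd : Nat.card D ∣ orderOf y) : D ≤ zpowers y := by
  obtain ⟨α, hαS, hαo, hder, hcomm, hcS⟩ := exists_generator (S : Subgroup G) n e
  have hSyl := exists_sylow_centralizer S hαS hder hcomm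
  have hinf := inf_centralizer_eq (S := (S : Subgroup G)) hαS hcomm
  rw [hder] at hD
  subst hD
  have hcD := card_derived hαo
  set C := centralizer (zpowers (α ^ 2) : Set G) with hC
  obtain ⟨P, hP, hPc⟩ := hSyl
  have hαC : zpowers α ≤ C := by rw [← hinf]; exact inf_le_right
  -- the 2-part `u` of `y`
  obtain ⟨k, m, hm, hkm⟩ := Nat.exists_eq_two_pow_mul_odd (orderOf_pos y).ne'
  set u := y ^ m with hu
  have huo : orderOf u = 2 ^ k := by
    rw [hu, orderOf_pow_of_dvd (by rintro rfl; simp at hm) (by rw [hkm]; exact dvd_mul_left _ _),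
      hkm]
    exact Nat.mul_div_cancel _ (hm.pos)
  have huC : u ∈ C := pow_mem hy m
  -- `⟨u⟩ D` is a 2-group
  have huD : zpowers u ≤ normalizer (zpowers (α ^ 2) : Set G) :=
    (zpowers_le.mpr huC).trans (centralizer_le_normalizer _)
  have hpu : IsPGroup 2 (zpowers u) := IsPGroup.of_card (n := k) (by rw [Nat.card_zpowers, huo])
  have hpD : IsPGroup 2 (zpowers (α ^ 2)) := IsPGroup.of_card hcD
  have hW : IsPGroup 2 (zpowers u ⊔ zpowers (α ^ 2) : Subgroup G) :=
    hpu.to_sup_of_normal_right' hpD huD
  have hDC : zpowers (α ^ 2) ≤ C := (zpowers_le.mpr (pow_mem (mem_zpowers α) 2)).trans hαC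
  have hWC : zpowers u ⊔ zpowers (α ^ 2) ≤ C := sup_le (zpowers_le.mpr huC) hDC
  obtain ⟨Q, hQ⟩ := (hW.comap_subtype (K := C)).exists_le_sylow
  have hQc : IsCyclic Q := (Sylow.equiv P Q).isCyclic.mp hPc
  have hQ' : zpowers u ⊔ zpowers (α ^ 2) ≤ (Q : Subgroup C).map C.subtype := by
    have := map_mono (f := C.subtype) hQ
    change ((zpowers u ⊔ zpowers (α ^ 2)).subgroupOf C).map C.subtype ≤ _ at this
    rwa [subgroupOf_map_subtype, inf_eq_left.mpr hWC] at this
  have hQc' : IsCyclic ((Q : Subgroup C).map C.subtype) :=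
    ((Q : Subgroup C).equivMapOfInjective _ C.subtype_injective).isCyclic.mp hQc
  refine (le_of_card_dvd_of_le_cyclic hQc' (le_sup_right.trans hQ') (le_sup_left.trans hQ')
    ?_).trans (zpowers_le.mpr (pow_mem (mem_zpowers y) m) : zpowers u ≤ zpowers y)
  rw [Nat.card_zpowers u, huo]
  have h1 : Nat.card (zpowers (α ^ 2)) ∣ 2 ^ k * m := by rw [← hkm]; exact hdvd
  rw [hcD] at h1 ⊢
  exact (Nat.Coprime.dvd_of_dvd_mul_right (Nat.Coprime.pow_left _
    (Nat.coprime_two_left.mpr hm)) h1)

end

end Cfsg.Agent.CharactersDeep.QuatSylow
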