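import Mathlib

/-!
# Carmichael presentation of the alternating group: the upper bound

If `y 0, ..., y (m-1)` are elements of a finite group with `(y i)^3 = 1` and `(y i * y j)^2 = 1`
for `i ≠ j`, then the subgroup they generate has order at most `(m+2)!/2`.
-/

set_option autoImplicit false

namespace Cfsg.Agent.CharactersDeep.SchurAltCount

open Subgroup
open scoped Pointwise Nat

variable {Q : Type*} [Group Q]

/-- the set of coset representatives -/
def reps (y : ℕ → Q) (m : ℕ) : Set Q :=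
  {1, y m, y m * y m} ∪ (fun i => y m * y m * y i) '' (Set.Iio m)

theorem reps_def (y : ℕ → Q) (m : ℕ) :
    reps y m = {1, y m, y m * y m} ∪ (fun i => y m * y m * y i) '' (Set.Iio m) := rfl

theorem card_reps_le (y : ℕ → Q) (m : ℕ) : (reps y m).ncard ≤ m + 3 := by
  rw [reps_def]
  refine (Set.ncard_union_le _ _).trans ?_
  have h1 : ({1, y m, y m * y m} : Set Q).ncard ≤ 3 := by
    refine (Set.ncard_insert_le _ _).trans ?_
    have := Set.ncard_insert_le (y m) ({y m * y m} : Set Q)
    rw [Set.ncard_singleton] at this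
    omega
  have h2 : ((fun i => y m * y m * y i) '' (Set.Iio m)).ncard ≤ m := by
    refine (Set.ncard_image_le (Set.finite_Iio m)).trans ?_
    simp
  omega

theorem reps_finite (y : ℕ → Q) (m : ℕ) : (reps y m).Finite := by
  rw [reps_def]
  exact ((Set.toFinite _).union ((Set.finite_Iio m).image _))

theorem step (y : ℕ → Q) (m : ℕ) (h3 : ∀ i < m + 1, y i ^ 3 = 1)
    (h2 : ∀ i < m + 1, ∀ j < m + 1, i ≠ j → (y i * y j) ^ 2 = 1)
    (r : Q) (hr : r ∈ reps y m) (i : ℕ) (hi : i < m + 1) :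
    ∃ k ∈ closure (y '' Set.Iio m), ∃ r' ∈ reps y m, r * y i = k * r' := by
  have hK : ∀ j < m, y j ∈ closure (y '' Set.Iio m) := fun j hj =>
    subset_closure ⟨j, hj, rfl⟩
  have m1 : (1 : Q) ∈ reps y m := by rw [reps_def]; left; simp
  have m2 : y m ∈ reps y m := by rw [reps_def]; left; simp
  have m3 : y m * y m ∈ reps y m := by rw [reps_def]; left; simp
  have m4 : ∀ j < m, y m * y m * y j ∈ reps y m := fun j hj => by
    rw [reps_def]; right; exact ⟨j, hj, rfl⟩
  -- basic consequences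
  have a3 : ∀ j < m + 1, y j * y j = (y j)⁻¹ := fun j hj => by
    have := h3 j hj
    rw [pow_succ, pow_two] at this
    exact eq_inv_of_mul_eq_one_left this
  have a2 : ∀ i < m + 1, ∀ j < m + 1, i ≠ j → y i * y j = (y j)⁻¹ * (y i)⁻¹ :=
    fun i hi j hj hij => by
      have := h2 i hi j hj hij
      rw [pow_two] at this
      rw [← mul_inv_rev]
      exact eq_inv_of_mul_eq_one_left this
  have hm : m < m + 1 := Nat.lt_succ_self m
  rw [reps_def] at hr
  rcases hr with hr | ⟨j, hj, rfl⟩
  · simp only [Set.mem_insert_iff, Set.mem_singleton_iff] at hr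
    rcases Nat.lt_succ_iff_lt_or_eq.mp hi with hi' | rfl
    · rcases hr with rfl | rfl | rfl
      · exact ⟨y i, hK i hi', 1, m1, by simp⟩
      · refine ⟨(y i)⁻¹, inv_mem (hK i hi'), _, m3, ?_⟩
        rw [a3 m hm, a2 m hm i hi (by omega)]
      · exact ⟨1, one_mem _, _, m4 i hi', by simp⟩
    · rcases hr with rfl | rfl | rfl
      · exact ⟨1, one_mem _, _, m2, by simp⟩
      · exact ⟨1, one_mem _, _, m3, by simp⟩
      · refine ⟨1, one_mem _, 1, m1, ?_⟩
        rw [a3 i hi]; simp
  · have hj' : j < m := hj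
    have hj1 : j < m + 1 := by omega
    have hjm : j ≠ m := by omega
    simp only
    rcases Nat.lt_succ_iff_lt_or_eq.mp hi with hi' | rfl
    · by_cases hij : j = i
      · subst hij
        refine ⟨y j, hK j hi', _, m2, ?_⟩
        rw [mul_assoc, a3 j hj1, a3 m hm, a2 j hj1 m hm hjm]
      · refine ⟨y i * (y j)⁻¹, mul_mem (hK i hi') (inv_mem (hK j hj')), _, m4 j hj', ?_⟩
        -- a⁻¹ y_j y_i = y_i y_j⁻¹ a⁻¹ y_j
        have e1 : y j * y i = (y i)⁻¹ * (y j)⁻¹ := a2 j hj1 i hi hij
        have e2 : (y m)⁻¹ * (y i)⁻¹ = y i * y m := (a2 i hi m hm (by omega)).symm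
        have e3 : (y j)⁻¹ * (y m)⁻¹ = y m * y j := (a2 m hm j hj1 (by omega)).symm
        calc y m * y m * y j * y i = (y m)⁻¹ * (y j * y i) := by rw [a3 m hm, mul_assoc]
          _ = ((y m)⁻¹ * (y i)⁻¹) * (y j)⁻¹ := by rw [e1, mul_assoc]
          _ = y i * y m * (y j * y j) := by rw [e2, a3 j hj1]
          _ = y i * ((y m * y j) * y j) := by group
          _ = y i * (y j)⁻¹ * (y m * y m * y j) := by rw [← e3, a3 m hm]; group
    · refine ⟨(y j)⁻¹, inv_mem (hK j hj'), _, m4 j hj', ?_⟩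
      have e3 : (y j)⁻¹ * (y i)⁻¹ = y i * y j := (a2 i hi j hj1 (by omega)).symm
      calc y i * y i * y j * y i = (y i)⁻¹ * (y j * y i) := by rw [a3 i hi, mul_assoc]
        _ = ((y i)⁻¹ * (y i)⁻¹) * (y j)⁻¹ := by rw [a2 j hj1 i hi hjm, mul_assoc]
        _ = ((y i * y i) * (y i * y i)) * (y j * y j) := by rw [a3 i hi, a3 j hj1]
        _ = ((y i)⁻¹ * (y i * y i)) * (y j * y j) := by rw [a3 i hi]
        _ = (y i * y j) * y j := by group
        _ = (y j)⁻¹ * (y i * y i * y j) := by rw [← e3, a3 i hi]; group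

theorem mul_reps_closed (y : ℕ → Q) (m : ℕ) (h3 : ∀ i < m + 1, y i ^ 3 = 1)
    (h2 : ∀ i < m + 1, ∀ j < m + 1, i ≠ j → (y i * y j) ^ 2 = 1) :
    ((closure (y '' Set.Iio (m + 1)) : Subgroup Q) : Set Q) ⊆
      ((closure (y '' Set.Iio m) : Subgroup Q) : Set Q) * reps y m := by
  have key : ∀ x ∈ ((closure (y '' Set.Iio m) : Subgroup Q) : Set Q) * reps y m,
      ∀ i < m + 1, x * y i ∈ ((closure (y '' Set.Iio m) : Subgroup Q) : Set Q) * reps y m := by
    rintro x ⟨k, hk, r, hr, rfl⟩ i hi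
    obtain ⟨k', hk', r', hr', e⟩ := step y m h3 h2 r hr i hi
    refine ⟨k * k', mul_mem hk hk', r', hr', ?_⟩
    simp only
    rw [mul_assoc, mul_assoc, e]
  intro x hx
  induction hx using Subgroup.closure_induction_right with
  | one => exact ⟨1, one_mem _, 1, by rw [reps_def]; left; simp, by simp⟩
  | mul_right x _ z hz ih =>
    obtain ⟨i, hi, rfl⟩ := hz
    exact key x ih i hi
  | mul_inv_cancel x _ z hz ih =>
    obtain ⟨i, hi, rfl⟩ := hz
    have e : (y i)⁻¹ = y i * y i := by
      have := h3 i hi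
      rw [pow_succ, pow_two] at this
      exact (eq_inv_of_mul_eq_one_left this).symm
    rw [e, ← mul_assoc]
    exact key _ (key x ih i hi) i hi

theorem card_closure_le [Finite Q] (y : ℕ → Q) (m : ℕ) (h3 : ∀ i < m, y i ^ 3 = 1)
    (h2 : ∀ i < m, ∀ j < m, i ≠ j → (y i * y j) ^ 2 = 1) :
    2 * Nat.card (closure (y '' Set.Iio m)) ≤ (m + 2)! := by
  induction m with
  | zero => simp
  | succ m ih =>
    have ih' := ih (fun i hi => h3 i (by omega)) (fun i hi j hj => h2 i (by omega) j (by omega))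
    have h := mul_reps_closed y m h3 h2
    have h' := Set.ncard_le_ncard h (Set.toFinite _)
    have h'' : (((closure (y '' Set.Iio m) : Subgroup Q) : Set Q) * reps y m).ncard ≤
        Nat.card (closure (y '' Set.Iio m)) * (reps y m).ncard := by
      simpa [Nat.card_coe_set_eq] using
        Set.natCard_mul_le (s := ((closure (y '' Set.Iio m) : Subgroup Q) : Set Q))
          (t := reps y m)
    have c2 : ((closure (y '' Set.Iio (m + 1)) : Subgroup Q) : Set Q).ncard =
        Nat.card (closure (y '' Set.Iio (m + 1))) := by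
      rw [← Nat.card_coe_set_eq]; rfl
    have c3 := card_reps_le y m
    rw [c2] at h'
    have : (m + 1 + 2)! = (m + 3) * (m + 2)! := by
      rw [show m + 1 + 2 = (m + 2) + 1 by ring, Nat.factorial_succ]
    rw [this]
    calc 2 * Nat.card (closure (y '' Set.Iio (m + 1)))
        ≤ 2 * (Nat.card (closure (y '' Set.Iio m)) * (reps y m).ncard) :=
          Nat.mul_le_mul_left _ (h'.trans h'')
      _ ≤ 2 * (Nat.card (closure (y '' Set.Iio m)) * (m + 3)) :=
          Nat.mul_le_mul_left _ (Nat.mul_le_mul_left _ c3)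
      _ = (m + 3) * (2 * Nat.card (closure (y '' Set.Iio m))) := by ring
      _ ≤ (m + 3) * (m + 2)! := Nat.mul_le_mul_left _ ih'

end Cfsg.Agent.CharactersDeep.SchurAltCount
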