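import Mathlib
import Cfsg.Agent.CharactersDeep.SchurAltCount
import Cfsg.Agent.CharactersDeep.SchurAltPerm

/-!
# Central extensions of the alternating groups, `n = 5` or `n ≥ 8`
-/

set_option autoImplicit false

namespace Cfsg.Agent.CharactersDeep.SchurAltMain

open Equiv Equiv.Perm Subgroup
open Cfsg.Agent.CharactersDeep.SchurAltPerm
open scoped Nat

section general

variable {Γ H : Type*} [Group Γ] [Group H] (π : Γ →* H) (hker : π.ker ≤ center Γ)

include hker

theorem central_of {a b : Γ} (h : π a = π b) : ∃ z ∈ center Γ, a = z * b := by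
  refine ⟨a * b⁻¹, hker ?_, by group⟩
  rw [MonoidHom.mem_ker, map_mul, map_inv, h, mul_inv_cancel]

/-- the cube root of unity by which conjugation changes `T`. -/
theorem conj_eq {T K : Γ} (hT : T ^ 3 = 1) (h : π K * π T = π T * π K) :
    ∃ z ∈ center Γ, K * T * K⁻¹ = z * T ∧ z ^ 3 = 1 := by
  obtain ⟨z, hz, e⟩ := central_of π hker (a := K * T * K⁻¹) (b := T) (by
    rw [map_mul, map_mul, map_inv, h]; group)
  refine ⟨z, hz, e, ?_⟩
  have hc : Commute z T := ((mem_center_iff.mp hz) T).symm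
  have h1 : (K * T * K⁻¹) ^ 3 = 1 := by rw [conj_pow, hT]; group
  rw [e, hc.mul_pow, hT, mul_one] at h1
  exact h1

omit [Group H] hker in
theorem eq_one_of_sq_cube {z : Γ} (h2 : z * z = 1) (h3 : z ^ 3 = 1) : z = 1 := by
  rw [pow_succ, pow_two, h2, one_mul] at h3
  exact h3

theorem commute_of_inverting {T K R : Γ} (hT : T ^ 3 = 1)
    (hRT : π R * π T = π T * π R) (hKT : π K * π T = π T * π K) (hR : π R * π R = 1)
    (hRK : π R * π K * (π R)⁻¹ = (π K)⁻¹) : K * T = T * K := by
  obtain ⟨w, hw, ew, w3⟩ := conj_eq π hker hT hRT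
  obtain ⟨c, hc, ec, c3⟩ := conj_eq π hker hT hKT
  have hR2 : R * R ∈ center Γ := hker (by rw [MonoidHom.mem_ker, map_mul, hR])
  have hwc := mem_center_iff.mp hw
  have hcc := mem_center_iff.mp hc
  -- w = 1
  have w2 : w * w = 1 := by
    have h1 : R * R * T * (R * R)⁻¹ = T := by
      rw [← (mem_center_iff.mp hR2) T]; group
    have h2 : R * R * T * (R * R)⁻¹ = w * w * T := by
      calc R * R * T * (R * R)⁻¹ = R * (R * T * R⁻¹) * R⁻¹ := by group
        _ = R * w * T * R⁻¹ := by rw [ew]; group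
        _ = w * (R * T * R⁻¹) := by rw [hwc R]; group
        _ = w * w * T := by rw [ew, mul_assoc]
    rw [h1] at h2
    exact (mul_eq_right.mp h2.symm)
  have w1 : w = 1 := eq_one_of_sq_cube w2 w3
  rw [w1, one_mul] at ew
  -- the inverting relation
  obtain ⟨z, hz, ez⟩ := central_of π hker (a := R * K * R⁻¹) (b := K⁻¹) (by
    rw [map_mul, map_mul, map_inv, map_inv, hRK])
  have hzc := mem_center_iff.mp hz
  have h1 : R * (K * T * K⁻¹) * R⁻¹ = K⁻¹ * T * K := by
    calc R * (K * T * K⁻¹) * R⁻¹ = (R * K * R⁻¹) * (R * T * R⁻¹) * (R * K * R⁻¹)⁻¹ := by group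
      _ = z * K⁻¹ * T * (K * z⁻¹) := by rw [ez, ew]; group
      _ = K⁻¹ * T * K := by
        rw [← hzc K⁻¹, mul_assoc K⁻¹ z T, ← hzc T]
        have : K * z⁻¹ = z⁻¹ * K := by
          rw [mul_inv_eq_iff_eq_mul, mul_assoc, hzc K]; group
        rw [this]; group
  have h2 : R * (K * T * K⁻¹) * R⁻¹ = c * T := by
    calc R * (K * T * K⁻¹) * R⁻¹ = R * c * T * R⁻¹ := by rw [ec]; group
      _ = c * (R * T * R⁻¹) := by rw [hcc R]; group
      _ = c * T := by rw [ew]
  have h3 : T = c * c * T := by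
    calc T = K * (K⁻¹ * T * K) * K⁻¹ := by group
      _ = K * c * T * K⁻¹ := by rw [← h1, h2]; group
      _ = c * (K * T * K⁻¹) := by rw [hcc K]; group
      _ = c * c * T := by rw [ec, mul_assoc]
  have c2 : c * c = 1 := mul_eq_right.mp h3.symm
  have c1 : c = 1 := eq_one_of_sq_cube c2 c3
  rw [c1, one_mul] at ec
  exact mul_inv_eq_iff_eq_mul.mp ec

end general

section alt

variable {Γ : Type*} [Group Γ] {α : Type*} [Fintype α] [DecidableEq α]
  (π : Γ →* Perm α) (hker : π.ker ≤ center Γ) (hrange : π.range = alternatingGroup α)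
  (hcard : Fintype.card α = 5 ∨ 8 ≤ Fintype.card α)

include hker hrange hcard

/-- a lift of order three of a three-cycle commutes with the full preimage of the centraliser. -/
theorem commute_lift {o l c : α} (hol : o ≠ l) (hoc : o ≠ c) (hlc : l ≠ c) {T : Γ}
    (hT : T ^ 3 = 1) (hπT : π T = x o l c) {K : Γ} (hK : π K * π T = π T * π K) :
    K * T = T * K := by
  -- the image of the centraliser of `T`
  let P : Subgroup (Perm α) := (centralizer {T}).map π
  have hP : ∀ K : Γ, π K ∈ P → K * T = T * K := by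
    rintro K ⟨K', hK', e⟩
    have hK'' : T * K' = K' * T := (mem_centralizer_iff.mp hK') T rfl
    obtain ⟨z, hz, e'⟩ := central_of π hker e.symm
    have hzc := mem_center_iff.mp hz
    rw [e', mul_assoc, ← hK'', ← mul_assoc, ← mul_assoc, hzc T]
  have hmem : ∀ K : Γ, K * T = T * K → π K ∈ P := fun K hK =>
    ⟨K, mem_centralizer_iff.mpr (by rintro _ rfl; exact hK.symm), rfl⟩
  have hTP : x o l c ∈ P := hπT ▸ hmem T rfl
  apply hP
  rw [hπT] at hK
  obtain ⟨j, k', ek, k0, kl, kc⟩ := commute_x hol hoc hlc _ hK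
  rw [ek]
  refine mul_mem (pow_mem hTP j) ?_
  -- `k'` is an even permutation of the complement
  have hk'A : k' ∈ alternatingGroup α := by
    have h1 : k' = (x o l c ^ j)⁻¹ * π K := by rw [ek]; group
    rw [h1]
    refine mul_mem (inv_mem (pow_mem ?_ j)) ?_
    · exact (x_isThreeCycle hol hoc hlc).mem_alternatingGroup
    · rw [← hrange]; exact ⟨K, rfl⟩
  let s : Finset α := {o, l, c}ᶜ
  have hs : s.card + 3 = Fintype.card α := by
    have : ({o, l, c} : Finset α).card = 3 := Finset.card_eq_three.mpr ⟨o, l, c, hol, hoc, hlc, rfl⟩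
    have h2 := Finset.card_add_card_compl ({o, l, c} : Finset α)
    simp only [s]; omega
  have hmem' : ∀ y, y ∈ s ↔ y ≠ o ∧ y ≠ l ∧ y ≠ c := by
    intro y; simp [s]
  have hk's : (⟨k', hk'A⟩ : alternatingGroup α) ∈ (alternatingGroup.ofSubtype s).range := by
    rw [alternatingGroup.mem_range_ofSubtype_iff]
    intro y hy
    rw [hmem']
    have hy' : k' y ≠ y := Perm.mem_support.mp hy
    refine ⟨?_, ?_, ?_⟩ <;> rintro rfl <;> exact hy' (by assumption)
  obtain ⟨k'', hk''⟩ := hk's
  have hk3 : k' = Perm.ofSubtype k''.1 := by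
    have := congrArg Subtype.val hk''
    rw [alternatingGroup.coe_ofSubtype] at this
    exact this.symm
  rw [hk3]
  have hk4 : k''.1 ∈ closure {σ : Perm s | IsThreeCycle σ} := by
    rw [closure_three_cycles_eq_alternating]; exact k''.2
  have hle : closure {σ : Perm s | IsThreeCycle σ} ≤ P.comap Perm.ofSubtype := by
    rw [closure_le]
    intro k hk
    have hk : IsThreeCycle k := hk
    change Perm.ofSubtype k ∈ P
    have hsc : s.card ≥ 3 := by
      have h1 := hk.card_support
      have h2 := Finset.card_le_univ k.support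
      rw [h1] at h2
      simpa using h2
    have h8 : 8 ≤ Fintype.card α := by omega
    -- choose two more letters
    obtain ⟨d, hd⟩ := hk.isCycle.nonempty_support
    have hkeq := hk.eq_swap_mul_swap_iff_mem_support.mpr hd
    have hnd := hk.nodup_iff_mem_support.mpr hd
    have hcompl : 1 < k.supportᶜ.card := by
      rw [Finset.card_compl, hk.card_support]
      have : Fintype.card s = s.card := Fintype.card_coe s
      omega
    obtain ⟨g, h, hg, hh, hgh⟩ := Finset.one_lt_card_iff.mp hcompl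
    have hg' : k g = g := by simpa using hg
    have hh' : k h = h := by simpa using hh
    set e := k d with he
    set f := k e with hf
    have hde : d ≠ e := by grind
    have hdf : d ≠ f := by grind
    have hef : e ≠ f := by grind
    have hkf : k f = d := by
      have h3 : k ^ 3 = 1 := by rw [← hk.orderOf, pow_orderOf_eq_one]
      have := congrArg (fun u : Perm s => u d) h3
      simpa [pow_succ] using this
    have hgd : g ≠ d := by rintro rfl; exact hde (by rw [he, hg'])
    have hge : g ≠ e := by rintro rfl; exact hef (by rw [hf, hg'])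
    have hhd : h ≠ d := by rintro rfl; exact hde (by rw [he, hh'])
    have hhe : h ≠ e := by rintro rfl; exact hef (by rw [hf, hh'])
    -- the involution
    let r : Perm s := swap d e * swap g h
    have hr2 : r * r = 1 := by
      have hc := conj_swap (swap g h) d e
      rw [swap_apply_of_ne_of_ne hgd.symm hhd.symm, swap_apply_of_ne_of_ne hge.symm hhe.symm,
        swap_inv] at hc
      change swap d e * swap g h * (swap d e * swap g h) = 1
      rw [mul_assoc, ← mul_assoc (swap g h), hc, swap_mul_self]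
    have hrA : r ∈ alternatingGroup s := by
      rw [mem_alternatingGroup, map_mul, sign_swap hde, sign_swap hgh]; rfl
    have hrk : r * k * r⁻¹ = k⁻¹ := by
      have hc1 : swap g h * k * (swap g h)⁻¹ = k := by
        have := mul_swap_eq_swap_mul k g h
        rw [hg', hh'] at this
        rw [← this]; group
      calc r * k * r⁻¹ = swap d e * (swap g h * k * (swap g h)⁻¹) * (swap d e)⁻¹ := by
            simp only [r]; group
        _ = swap d e * k * (swap d e)⁻¹ := by rw [hc1]
        _ = k⁻¹ := by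
          rw [hkeq, mul_inv_rev, swap_inv, swap_inv]
          simp
    obtain ⟨R, hR⟩ : ∃ R : Γ, π R = Perm.ofSubtype r := by
      have : Perm.ofSubtype r ∈ π.range := by
        rw [hrange]; exact (alternatingGroup.ofSubtype s ⟨r, hrA⟩).2
      exact this
    obtain ⟨K, hK⟩ : ∃ K : Γ, π K = Perm.ofSubtype k := by
      have : Perm.ofSubtype k ∈ π.range := by
        rw [hrange]; exact (alternatingGroup.ofSubtype s ⟨k, hk.mem_alternatingGroup⟩).2
      exact this
    have hfix : ∀ u : Perm s, (Perm.ofSubtype u) * x o l c = x o l c * (Perm.ofSubtype u) := by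
      intro u
      have e1 := conj_x (Perm.ofSubtype u) o l c
      rw [ofSubtype_apply_of_not_mem, ofSubtype_apply_of_not_mem, ofSubtype_apply_of_not_mem] at e1
      · exact mul_inv_eq_iff_eq_mul.mp e1
      · rw [hmem']; simp
      · rw [hmem']; simp
      · rw [hmem']; simp
    rw [← hK]
    apply hmem
    apply commute_of_inverting π hker (R := R) hT
    · rw [hR, hπT]; exact hfix r
    · rw [hK, hπT]; exact hfix k
    · rw [hR, ← map_mul, hr2, map_one]
    · rw [hR, hK, ← map_inv, ← map_mul, ← map_mul, hrk, map_inv]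
  exact hle hk4


/-- the canonical class of lifts of three-cycles. -/
theorem exists_class : ∃ 𝒯 : Set Γ,
    (∀ T ∈ 𝒯, T ^ 3 = 1) ∧ (∀ T ∈ 𝒯, ∀ G : Γ, G * T * G⁻¹ ∈ 𝒯) ∧
    (∀ T ∈ 𝒯, T⁻¹ ∈ 𝒯) ∧ (∀ T ∈ 𝒯, ∀ T' ∈ 𝒯, π T = π T' → T = T') ∧
    (∀ t : Perm α, IsThreeCycle t → ∃ T ∈ 𝒯, π T = t) := by
  -- five letters
  have h5 : 5 ≤ Fintype.card α := by omega
  obtain ⟨f⟩ : Nonempty (Fin 5 ↪ α) := by
    rw [Function.Embedding.nonempty_iff_card_le]; simpa using h5
  set o := f 0 with ho
  set l := f 1 with hl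
  set c := f 2 with hc
  set d := f 3 with hd
  set e := f 4 with he
  have hol : o ≠ l := by rw [ho, hl, Ne, f.injective.eq_iff]; decide
  have hoc : o ≠ c := by rw [ho, hc, Ne, f.injective.eq_iff]; decide
  have hlc : l ≠ c := by rw [hl, hc, Ne, f.injective.eq_iff]; decide
  have hde : d ≠ e := by rw [hd, he, Ne, f.injective.eq_iff]; decide
  have hod : o ≠ d := by rw [ho, hd, Ne, f.injective.eq_iff]; decide
  have hoe : o ≠ e := by rw [ho, he, Ne, f.injective.eq_iff]; decide
  have hld : l ≠ d := by rw [hl, hd, Ne, f.injective.eq_iff]; decide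
  have hle : l ≠ e := by rw [hl, he, Ne, f.injective.eq_iff]; decide
  have hcd : c ≠ d := by rw [hc, hd, Ne, f.injective.eq_iff]; decide
  have hce : c ≠ e := by rw [hc, he, Ne, f.injective.eq_iff]; decide
  clear_value o l c d e
  -- lifts
  have ht3 := x_isThreeCycle hol hoc hlc
  obtain ⟨T₀, hT₀⟩ : ∃ T : Γ, π T = x o l c := by
    have : x o l c ∈ π.range := by rw [hrange]; exact ht3.mem_alternatingGroup
    exact this
  obtain ⟨S, hS⟩ : ∃ S : Γ, π S = swap o l * swap d e := by
    have : swap o l * swap d e ∈ π.range := by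
      rw [hrange, mem_alternatingGroup, map_mul, sign_swap hol, sign_swap hde]; rfl
    exact this
  -- `s` inverts `t`
  have hst : (swap o l * swap d e) * x o l c * (swap o l * swap d e)⁻¹ = (x o l c)⁻¹ := by
    rw [conj_x]
    have h1 : (swap o l * swap d e) o = l := by
      rw [Perm.mul_apply, swap_apply_of_ne_of_ne hod hoe, swap_apply_left]
    have h2 : (swap o l * swap d e) l = o := by
      rw [Perm.mul_apply, swap_apply_of_ne_of_ne hld hle, swap_apply_right]
    have h3 : (swap o l * swap d e) c = c := by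
      rw [Perm.mul_apply, swap_apply_of_ne_of_ne hcd hce,
        swap_apply_of_ne_of_ne hoc.symm hlc.symm]
    rw [h1, h2, h3, x_inv, x_def]
    -- swap l c * swap l o = swap o l * swap o c
    have h : swap o l * swap o c * swap o l = swap l c := by
      have := conj_swap (swap o l) o c
      rw [swap_inv] at this
      rw [this, swap_apply_left, swap_apply_of_ne_of_ne hoc.symm hlc.symm]
    rw [← h, swap_comm l o]
    simp [mul_assoc]
  -- normalise
  obtain ⟨T, hT3, hTπ, hST⟩ : ∃ T : Γ, T ^ 3 = 1 ∧ π T = x o l c ∧ S * T * S⁻¹ = T⁻¹ := by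
    obtain ⟨f, hf, ef⟩ := central_of π hker (a := S * T₀ * S⁻¹) (b := T₀⁻¹) (by
      rw [map_mul, map_mul, map_inv, map_inv, hS, hT₀, hst])
    have ha : T₀ ^ 3 ∈ π.ker := by
      rw [MonoidHom.mem_ker, map_pow, hT₀, ← ht3.orderOf, pow_orderOf_eq_one]
    have hac := hker ha
    set a := T₀ ^ 3 with haa
    have hfk : f ∈ π.ker := by
      have : f = S * T₀ * S⁻¹ * T₀ := by rw [ef]; group
      rw [this, MonoidHom.mem_ker, map_mul, map_mul, map_mul, map_inv, hS, hT₀, hst]
      group
    have hfc := mem_center_iff.mp hf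
    have haC := mem_center_iff.mp hac
    -- a ^ 2 = f ^ 3
    have h1 : a = f ^ 3 * a⁻¹ := by
      have h2 : (S * T₀ * S⁻¹) ^ 3 = a := by
        rw [conj_pow, ← haa, haC S]; group
      have h3 : (f * T₀⁻¹) ^ 3 = f ^ 3 * a⁻¹ := by
        have : Commute f T₀⁻¹ := (hfc _).symm
        rw [this.mul_pow, inv_pow]
      exact h2.symm.trans ((by rw [ef] : (S * T₀ * S⁻¹) ^ 3 = (f * T₀⁻¹) ^ 3).trans h3)
    have hu : f * a⁻¹ ∈ center Γ := mul_mem hf (inv_mem hac)
    have huC := mem_center_iff.mp hu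
    have hcfa : Commute f a⁻¹ := (hfc _).symm
    refine ⟨T₀ * (f * a⁻¹), ?_, ?_, ?_⟩
    · have : Commute T₀ (f * a⁻¹) := huC _
      rw [this.mul_pow, ← haa, hcfa.mul_pow]
      -- a * (f^3 * a⁻¹ ^ 3) = 1
      calc a * (f ^ 3 * a⁻¹ ^ 3) = a * (f ^ 3 * a⁻¹) * a⁻¹ * a⁻¹ := by group
        _ = a * a * a⁻¹ * a⁻¹ := by rw [← h1]
        _ = 1 := by group
    · have h2 : π (f * a⁻¹) = 1 := by
        rw [← MonoidHom.mem_ker]; exact mul_mem hfk (inv_mem ha)
      rw [map_mul, h2, mul_one, hT₀]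
    · -- S T₀ u S⁻¹ = f T₀⁻¹ u = u⁻¹ T₀⁻¹  since f u^2 = f^3 a^-2 = 1
      have h3 : S * (T₀ * (f * a⁻¹)) * S⁻¹ = (S * T₀ * S⁻¹) * (f * a⁻¹) := by
        have := huC S⁻¹
        calc S * (T₀ * (f * a⁻¹)) * S⁻¹ = S * T₀ * ((f * a⁻¹) * S⁻¹) := by group
          _ = S * T₀ * (S⁻¹ * (f * a⁻¹)) := by rw [this]
          _ = _ := by group
      rw [h3, ef, mul_inv_rev]
      have h4 : f * (f * a⁻¹) * (f * a⁻¹) = 1 := by
        have : f * (f * a⁻¹) * (f * a⁻¹) = f ^ 3 * a⁻¹ * a⁻¹ := by
          rw [mul_assoc f, mul_assoc f a⁻¹, ← mul_assoc a⁻¹ f, ← hcfa.eq, pow_succ f 2, pow_two f]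
          group
        rw [this, ← h1]; group
      have h5 : (f * a⁻¹)⁻¹ = f * (f * a⁻¹) := (eq_inv_of_mul_eq_one_left h4).symm
      rw [h5, mul_assoc f T₀⁻¹, huC, ← mul_assoc f]
  refine ⟨{T' | ∃ G : Γ, T' = G * T * G⁻¹}, ?_, ?_, ?_, ?_, ?_⟩
  · rintro _ ⟨G, rfl⟩
    rw [conj_pow, hT3]; group
  · rintro _ ⟨G, rfl⟩ G'
    exact ⟨G' * G, by group⟩
  · rintro _ ⟨G, rfl⟩
    refine ⟨G * S, ?_⟩
    calc (G * T * G⁻¹)⁻¹ = G * T⁻¹ * G⁻¹ := by group
      _ = G * (S * T * S⁻¹) * G⁻¹ := by rw [hST]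
      _ = _ := by group
  · rintro _ ⟨G, rfl⟩ _ ⟨G', rfl⟩ e
    have h1 : π (G'⁻¹ * G) * π T = π T * π (G'⁻¹ * G) := by
      simp only [map_mul, map_inv] at e ⊢
      have e' : π G * π T = π G' * π T * (π G')⁻¹ * π G := by rw [← e]; group
      calc (π G')⁻¹ * π G * π T = (π G')⁻¹ * (π G * π T) := by group
        _ = (π G')⁻¹ * (π G' * π T * (π G')⁻¹ * π G) := by rw [e']
        _ = _ := by group
    have h2 := commute_lift π hker hrange hcard hol hoc hlc hT3 hTπ h1
    calc G * T * G⁻¹ = G' * ((G'⁻¹ * G) * T) * G⁻¹ := by group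
      _ = G' * (T * (G'⁻¹ * G)) * G⁻¹ := by rw [h2]
      _ = _ := by group
  · intro t ht
    have hconj := alternatingGroup.isThreeCycle_isConj (α := α)
      (by rw [Nat.card_eq_fintype_card]; exact h5)
      (σ := ⟨x o l c, ht3.mem_alternatingGroup⟩) (τ := ⟨t, ht.mem_alternatingGroup⟩) ht3 ht
    obtain ⟨⟨g, hg⟩, hg'⟩ := isConj_iff.mp hconj
    have hg'' : g * x o l c * g⁻¹ = t := congrArg Subtype.val hg'
    rw [← hrange] at hg
    obtain ⟨G, rfl⟩ := hg
    exact ⟨G * T * G⁻¹, ⟨G, rfl⟩, by rw [map_mul, map_mul, map_inv, hTπ, hg'']⟩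

end alt

end Cfsg.Agent.CharactersDeep.SchurAltMain
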