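import Mathlib
import Cfsg.Agent.CharactersDeep.SchurAltMain

/-!
# The Schur multiplier of the alternating group: upper bound
-/

set_option autoImplicit false

namespace Cfsg.Agent.CharactersDeep.SchurAltFinal

open Equiv Equiv.Perm Subgroup
open Cfsg.Agent.CharactersDeep.SchurAltPerm
open Cfsg.Agent.CharactersDeep.SchurAltMain
open Cfsg.Agent.CharactersDeep.SchurAltCount
open scoped Nat commutatorElement

section alt

variable {Γ : Type*} [Group Γ] {α : Type*} [Fintype α] [DecidableEq α]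
  (π : Γ →* Perm α) (hker : π.ker ≤ center Γ) (hrange : π.range = alternatingGroup α)

include hker hrange in
/-- the canonical lifts satisfy the Carmichael relations up to one central involution. -/
theorem exists_lifts (hcard : Fintype.card α = 5 ∨ 8 ≤ Fintype.card α) {o l : α} (hol : o ≠ l) :
    ∃ (X : α → Γ) (z : Γ), z ∈ π.ker ∧ z * z = 1 ∧
      (∀ c, c ≠ o → c ≠ l → π (X c) = x o l c) ∧
      (∀ c, c ≠ o → c ≠ l → X c ^ 3 = 1) ∧
      (∀ c d, c ≠ o → c ≠ l → d ≠ o → d ≠ l → c ≠ d → (X c * X d) ^ 2 = z) := by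
  obtain ⟨𝒯, h3, hconj, hinv, hinj, hex⟩ := exists_class π hker hrange hcard
  have hX : ∀ c : α, ∃ T : Γ, c ≠ o → c ≠ l → T ∈ 𝒯 ∧ π T = x o l c := by
    intro c
    by_cases h1 : c = o
    · exact ⟨1, fun h => absurd h1 h⟩
    by_cases h2 : c = l
    · exact ⟨1, fun _ h => absurd h2 h⟩
    obtain ⟨T, hT, e⟩ := hex _ (x_isThreeCycle hol (Ne.symm h1) (Ne.symm h2))
    exact ⟨T, fun _ _ => ⟨hT, e⟩⟩
  choose X hX using hX
  have hXT : ∀ c, c ≠ o → c ≠ l → X c ∈ 𝒯 := fun c h1 h2 => (hX c h1 h2).1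
  have hXπ : ∀ c, c ≠ o → c ≠ l → π (X c) = x o l c := fun c h1 h2 => (hX c h1 h2).2
  have hlift : ∀ g : Perm α, g ∈ alternatingGroup α → ∃ G : Γ, π G = g := by
    intro g hg; rw [← hrange] at hg; exact hg
  -- `b c d`
  have hbk : ∀ c d, c ≠ o → c ≠ l → d ≠ o → d ≠ l → c ≠ d → (X c * X d) ^ 2 ∈ π.ker := by
    intro c d hco hcl hdo hdl hcd
    rw [MonoidHom.mem_ker, map_pow, map_mul, hXπ c hco hcl, hXπ d hdo hdl,
      x_mul_x_sq hol hcd hcl.symm hdo.symm hdl.symm]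
  have hbC : ∀ c d, c ≠ o → c ≠ l → d ≠ o → d ≠ l → c ≠ d →
      ∀ g : Γ, g * (X c * X d) ^ 2 * g⁻¹ = (X c * X d) ^ 2 := by
    intro c d hco hcl hdo hdl hcd g
    rw [mem_center_iff.mp (hker (hbk c d hco hcl hdo hdl hcd)) g]; group
  have hconj2 : ∀ (g a b : Γ), g * (a * b) ^ 2 * g⁻¹ = ((g * a * g⁻¹) * (g * b * g⁻¹)) ^ 2 := by
    intro g a b
    rw [← conj_pow]
    congr 1; group
  have hsymm : ∀ c d, c ≠ o → c ≠ l → d ≠ o → d ≠ l → c ≠ d →
      (X c * X d) ^ 2 = (X d * X c) ^ 2 := by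
    intro c d hco hcl hdo hdl hcd
    have h := hbC c d hco hcl hdo hdl hcd (X c)⁻¹
    rw [← h, ← conj_pow]
    congr 1; group
  have hsq : ∀ c d, c ≠ o → c ≠ l → d ≠ o → d ≠ l → c ≠ d →
      (X c * X d) ^ 2 * (X c * X d) ^ 2 = 1 := by
    intro c d hco hcl hdo hdl hcd
    obtain ⟨S, hS⟩ := hlift (swap o l * swap c d) (by
      rw [mem_alternatingGroup, map_mul, sign_swap hol, sign_swap hcd]; rfl)
    have e1 : S * X c * S⁻¹ = (X d)⁻¹ := by
      apply hinj _ (hconj _ (hXT c hco hcl) S) _ (hinv _ (hXT d hdo hdl))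
      rw [map_mul, map_mul, map_inv, map_inv, hS, hXπ c hco hcl, hXπ d hdo hdl,
        s_conj_x hco.symm hcl.symm hdo.symm hdl.symm]
    have e2 : S * X d * S⁻¹ = (X c)⁻¹ := by
      apply hinj _ (hconj _ (hXT d hdo hdl) S) _ (hinv _ (hXT c hco hcl))
      rw [map_mul, map_mul, map_inv, map_inv, hS, hXπ c hco hcl, hXπ d hdo hdl, swap_comm c d,
        s_conj_x hdo.symm hdl.symm hco.symm hcl.symm]
    have h := hbC c d hco hcl hdo hdl hcd S
    rw [hconj2, e1, e2, ← mul_inv_rev, inv_pow] at h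
    nth_rewrite 1 [← h]
    exact inv_mul_cancel _
  have hrot : ∀ c d e, c ≠ o → c ≠ l → d ≠ o → d ≠ l → e ≠ o → e ≠ l → c ≠ d → c ≠ e → d ≠ e →
      (X c * X d) ^ 2 = (X d * X e) ^ 2 := by
    intro c d e hco hcl hdo hdl heo hel hcd hce hde
    obtain ⟨G, hG⟩ := hlift (swap c d * swap d e) (by
      rw [mem_alternatingGroup, map_mul, sign_swap hcd, sign_swap hde]; rfl)
    obtain ⟨g1, g2⟩ := g_conj_x (o := o) (l := l) hcd hce hde hco.symm hcl.symm hdo.symm hdl.symm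
      heo.symm hel.symm
    have e1 : G * X c * G⁻¹ = X d := by
      apply hinj _ (hconj _ (hXT c hco hcl) G) _ (hXT d hdo hdl)
      rw [map_mul, map_mul, map_inv, hG, hXπ c hco hcl, hXπ d hdo hdl, g1]
    have e2 : G * X d * G⁻¹ = X e := by
      apply hinj _ (hconj _ (hXT d hdo hdl) G) _ (hXT e heo hel)
      rw [map_mul, map_mul, map_inv, hG, hXπ e heo hel, hXπ d hdo hdl, g2]
    have h := hbC c d hco hcl hdo hdl hcd G
    rw [hconj2, e1, e2] at h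
    exact h.symm
  -- all values are equal
  have hall : ∀ c d c' d', c ≠ o → c ≠ l → d ≠ o → d ≠ l → c' ≠ o → c' ≠ l → d' ≠ o → d' ≠ l →
      c ≠ d → c' ≠ d' → (X c * X d) ^ 2 = (X c' * X d') ^ 2 := by
    -- one common letter
    have h1 : ∀ c d e, c ≠ o → c ≠ l → d ≠ o → d ≠ l → e ≠ o → e ≠ l → c ≠ d → d ≠ e →
        (X c * X d) ^ 2 = (X d * X e) ^ 2 := by
      intro c d e hco hcl hdo hdl heo hel hcd hde
      by_cases hce : c = e
      · subst hce; exact hsymm c d hco hcl hdo hdl hcd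
      · exact hrot c d e hco hcl hdo hdl heo hel hcd hce hde
    intro c d c' d' hco hcl hdo hdl hco' hcl' hdo' hdl' hcd hcd'
    by_cases hdc : d = c'
    · subst hdc
      exact h1 c d d' hco hcl hdo hdl hdo' hdl' hcd hcd'
    · rw [h1 c d c' hco hcl hdo hdl hco' hcl' hcd hdc, h1 d c' d' hdo hdl hco' hcl' hdo' hdl'
        hdc hcd']
  by_cases hne : ∃ c d, c ≠ o ∧ c ≠ l ∧ d ≠ o ∧ d ≠ l ∧ c ≠ d
  · obtain ⟨c, d, hco, hcl, hdo, hdl, hcd⟩ := hne
    refine ⟨X, (X c * X d) ^ 2, hbk c d hco hcl hdo hdl hcd, hsq c d hco hcl hdo hdl hcd, hXπ,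
      fun c h1 h2 => h3 _ (hXT c h1 h2), ?_⟩
    intro c' d' hco' hcl' hdo' hdl' hcd'
    exact hall c' d' c d hco' hcl' hdo' hdl' hco hcl hdo hdl hcd' hcd
  · refine ⟨X, 1, one_mem _, one_mul 1, hXπ, fun c h1 h2 => h3 _ (hXT c h1 h2), ?_⟩
    intro c d h1 h2 h4 h5 h6
    exact absurd ⟨c, d, h1, h2, h4, h5, h6⟩ hne

include hker hrange in
theorem card_ker_le_two [Finite Γ] (hcard : Fintype.card α = 5 ∨ 8 ≤ Fintype.card α)
    (hd : π.ker ≤ commutator Γ) (m : ℕ) (hm : Fintype.card α = m + 2) {o l : α} (hol : o ≠ l)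
    (p : ℕ → α) (hpo : ∀ i < m, p i ≠ o) (hpl : ∀ i < m, p i ≠ l)
    (hpi : ∀ i < m, ∀ j < m, p i = p j → i = j)
    (hps : ∀ c, c ≠ o → c ≠ l → ∃ i < m, p i = c) : Nat.card π.ker ≤ 2 := by
  obtain ⟨X, z, hzk, hz2, hXπ, hX3, hX2⟩ := exists_lifts π hker hrange hcard hol
  have hzc : z ∈ center Γ := hker hzk
  -- the subgroup generated by `z`
  let Z0 : Subgroup Γ := zpowers z
  have hZ0c : Z0 ≤ center Γ := by
    rw [zpowers_le]; exact hzc
  have hZ0n : Z0.Normal := ⟨fun a ha g => by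
    have : g * a * g⁻¹ = a := by rw [mem_center_iff.mp (hZ0c ha) g]; group
    rw [this]; exact ha⟩
  have hZ0card : Nat.card Z0 ≤ 2 := by
    rw [Nat.card_zpowers]
    exact orderOf_le_of_pow_eq_one (by norm_num) (by rw [pow_two, hz2])
  let q : Γ →* Γ ⧸ Z0 := QuotientGroup.mk' Z0
  let y : ℕ → Γ ⧸ Z0 := fun i => q (X (p i))
  have hy3 : ∀ i < m, y i ^ 3 = 1 := by
    intro i hi
    change q (X (p i)) ^ 3 = 1
    rw [← map_pow, hX3 _ (hpo i hi) (hpl i hi), map_one]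
  have hy2 : ∀ i < m, ∀ j < m, i ≠ j → (y i * y j) ^ 2 = 1 := by
    intro i hi j hj hij
    change (q (X (p i)) * q (X (p j))) ^ 2 = 1
    rw [← map_mul, ← map_pow, hX2 _ _ (hpo i hi) (hpl i hi) (hpo j hj) (hpl j hj)
      (fun h => hij (hpi i hi j hj h)), ← MonoidHom.mem_ker, QuotientGroup.ker_mk']
    exact mem_zpowers z
  have hcount := card_closure_le y m hy3 hy2
  -- the preimage is everything
  let K : Subgroup (Γ ⧸ Z0) := closure (y '' Set.Iio m)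
  let H : Subgroup Γ := K.comap q
  have hXH : ∀ c, c ≠ o → c ≠ l → X c ∈ H := by
    intro c h1 h2
    obtain ⟨i, hi, rfl⟩ := hps c h1 h2
    exact subset_closure ⟨i, hi, rfl⟩
  have hHmap : alternatingGroup α ≤ H.map π :=
    alternating_le_closure_x hol _ (fun c h1 h2 => ⟨X c, hXH c h1 h2, hXπ c h1 h2⟩)
  have hHZ : ∀ g : Γ, ∃ h ∈ H, ∃ w ∈ π.ker, g = h * w := by
    intro g
    obtain ⟨h, hh, e⟩ := hHmap (show π g ∈ alternatingGroup α by rw [← hrange]; exact ⟨g, rfl⟩)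
    exact ⟨h, hh, h⁻¹ * g, by rw [MonoidHom.mem_ker, map_mul, map_inv, e, inv_mul_cancel],
      by group⟩
  have hcommH : commutator Γ ≤ H := by
    rw [commutator_def, commutator_le]
    intro g₁ _ g₂ _
    obtain ⟨h₁, hh₁, w₁, hw₁, rfl⟩ := hHZ g₁
    obtain ⟨h₂, hh₂, w₂, hw₂, rfl⟩ := hHZ g₂
    have c1 := mem_center_iff.mp (hker hw₁)
    have c2 := mem_center_iff.mp (hker hw₂)
    have e : ⁅h₁ * w₁, h₂ * w₂⁆ = ⁅h₁, h₂⁆ := by
      simp only [commutatorElement_def, mul_inv_rev]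
      calc h₁ * w₁ * (h₂ * w₂) * (w₁⁻¹ * h₁⁻¹) * (w₂⁻¹ * h₂⁻¹)
          = h₁ * (w₁ * (h₂ * w₂ * w₁⁻¹)) * h₁⁻¹ * w₂⁻¹ * h₂⁻¹ := by group
        _ = h₁ * (h₂ * w₂ * w₁⁻¹ * w₁) * h₁⁻¹ * w₂⁻¹ * h₂⁻¹ := by rw [← c1]
        _ = h₁ * h₂ * (w₂ * h₁⁻¹) * w₂⁻¹ * h₂⁻¹ := by group
        _ = h₁ * h₂ * (h₁⁻¹ * w₂) * w₂⁻¹ * h₂⁻¹ := by rw [← c2]
        _ = h₁ * h₂ * h₁⁻¹ * h₂⁻¹ := by group
    rw [e]
    rw [commutatorElement_def]
    exact mul_mem (mul_mem (mul_mem hh₁ hh₂) (inv_mem hh₁)) (inv_mem hh₂)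
  have hHtop : H = ⊤ := by
    rw [eq_top_iff]
    intro g _
    obtain ⟨h, hh, w, hw, rfl⟩ := hHZ g
    exact mul_mem hh (hcommH (hd hw))
  have hKtop : K = ⊤ := by
    rw [eq_top_iff]
    intro g _
    obtain ⟨g', rfl⟩ := QuotientGroup.mk'_surjective Z0 g
    have : g' ∈ H := by rw [hHtop]; trivial
    exact this
  -- counting
  have hcardQ : Nat.card Γ = Nat.card (Γ ⧸ Z0) * Nat.card Z0 := card_eq_card_quotient_mul_card_subgroup Z0
  have hcardK : 2 * Nat.card (Γ ⧸ Z0) ≤ (m + 2)! := by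
    have : Nat.card K = Nat.card (Γ ⧸ Z0) := by rw [hKtop]; exact Subgroup.card_top
    rw [← this]; exact hcount
  have hcardA : 2 * Nat.card (alternatingGroup α) = (m + 2)! := by
    have : Nontrivial α := ⟨o, l, hol⟩
    rw [two_mul_nat_card_alternatingGroup, Nat.card_perm, Nat.card_eq_fintype_card, hm]
  have hcardΓ : Nat.card Γ = Nat.card (alternatingGroup α) * Nat.card π.ker := by
    rw [← hrange, ← Subgroup.index_ker, mul_comm, Subgroup.card_mul_index]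
  have hpos : 0 < Nat.card (alternatingGroup α) := Nat.card_pos
  have h1 : 2 * Nat.card Γ ≤ 2 * (2 * Nat.card (alternatingGroup α)) := by
    calc 2 * Nat.card Γ = (2 * Nat.card (Γ ⧸ Z0)) * Nat.card Z0 := by rw [hcardQ]; ring
      _ ≤ (m + 2)! * 2 := Nat.mul_le_mul hcardK hZ0card
      _ = 2 * (2 * Nat.card (alternatingGroup α)) := by rw [hcardA]; ring
  have h2 : Nat.card (alternatingGroup α) * Nat.card π.ker ≤ Nat.card (alternatingGroup α) * 2 := by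
    rw [← hcardΓ]; omega
  exact Nat.le_of_mul_le_mul_left h2 hpos

end alt

end Cfsg.Agent.CharactersDeep.SchurAltFinal
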