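import Mathlib
import Cfsg.Agent.CharactersDeep.SchurAltMain

/-!
# Central extensions of the alternating group of degree four
-/

set_option autoImplicit false

namespace Cfsg.Agent.CharactersDeep.SchurAltFour

open Equiv Equiv.Perm Subgroup
open Cfsg.Agent.CharactersDeep.SchurAltPerm
open Cfsg.Agent.CharactersDeep.SchurAltMain
open scoped commutatorElement

variable {Γ : Type*} [Group Γ]

/-- the quaternion-like subgroup -/
theorem quaternion_elements {U V W d : Γ} (hd : U * U = d) (hV : V * V = d) (hW : W * W = d)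
    (hUV : U * V = W) (hWU : W * U = V) (hdc : ∀ g : Γ, g * d = d * g) (hdd : d * d = 1)
    {g : Γ} (hg : g ∈ closure ({U, V} : Set Γ)) :
    ∃ v ∈ ({1, U, V, W} : Set Γ), g = v ∨ g = d * v := by
  have hVU : V * U = d * W := by rw [← hWU, mul_assoc, hd, hdc]
  have hWV : W * V = d * U := by rw [← hWU, ← mul_assoc, hW]
  have stepU : ∀ g, (∃ v ∈ ({1, U, V, W} : Set Γ), g = v ∨ g = d * v) →
      ∃ v ∈ ({1, U, V, W} : Set Γ), g * U = v ∨ g * U = d * v := by
    rintro g ⟨v, hv, hg⟩
    simp only [Set.mem_insert_iff, Set.mem_singleton_iff] at hv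
    have key : ∃ v' ∈ ({1, U, V, W} : Set Γ), v * U = v' ∨ v * U = d * v' := by
      rcases hv with rfl | rfl | rfl | rfl
      · exact ⟨U, by simp, by simp⟩
      · exact ⟨1, by simp, by right; rw [hd, mul_one]⟩
      · exact ⟨W, by simp, by right; exact hVU⟩
      · exact ⟨V, by simp, by left; exact hWU⟩
    obtain ⟨v', hv', e⟩ := key
    refine ⟨v', hv', ?_⟩
    rcases hg with rfl | rfl <;> rcases e with e | e
    · left; exact e
    · right; exact e
    · right; rw [mul_assoc, e]
    · left; rw [mul_assoc, e, ← mul_assoc, hdd, one_mul]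
  have stepV : ∀ g, (∃ v ∈ ({1, U, V, W} : Set Γ), g = v ∨ g = d * v) →
      ∃ v ∈ ({1, U, V, W} : Set Γ), g * V = v ∨ g * V = d * v := by
    rintro g ⟨v, hv, hg⟩
    simp only [Set.mem_insert_iff, Set.mem_singleton_iff] at hv
    have key : ∃ v' ∈ ({1, U, V, W} : Set Γ), v * V = v' ∨ v * V = d * v' := by
      rcases hv with rfl | rfl | rfl | rfl
      · exact ⟨V, by simp, by simp⟩
      · exact ⟨W, by simp, by left; exact hUV⟩
      · exact ⟨1, by simp, by right; rw [hV, mul_one]⟩
      · exact ⟨U, by simp, by right; exact hWV⟩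
    obtain ⟨v', hv', e⟩ := key
    refine ⟨v', hv', ?_⟩
    rcases hg with rfl | rfl <;> rcases e with e | e
    · left; exact e
    · right; exact e
    · right; rw [mul_assoc, e]
    · left; rw [mul_assoc, e, ← mul_assoc, hdd, one_mul]
  have hUi : U⁻¹ = U * U * U := by
    rw [inv_eq_iff_mul_eq_one]
    calc U * (U * U * U) = (U * U) * (U * U) := by group
      _ = 1 := by rw [hd, hdd]
  have hVi : V⁻¹ = V * V * V := by
    rw [inv_eq_iff_mul_eq_one]
    calc V * (V * V * V) = (V * V) * (V * V) := by group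
      _ = 1 := by rw [hV, hdd]
  induction hg using Subgroup.closure_induction_right with
  | one => exact ⟨1, by simp, by simp⟩
  | mul_right x _ z hz ih =>
    simp only [Set.mem_insert_iff, Set.mem_singleton_iff] at hz
    rcases hz with rfl | rfl
    · exact stepU x ih
    · exact stepV x ih
  | mul_inv_cancel x _ z hz ih =>
    simp only [Set.mem_insert_iff, Set.mem_singleton_iff] at hz
    rcases hz with rfl | rfl
    · rw [hUi, ← mul_assoc, ← mul_assoc]
      exact stepU _ (stepU _ (stepU x ih))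
    · rw [hVi, ← mul_assoc, ← mul_assoc]
      exact stepV _ (stepV _ (stepV x ih))

theorem card_ker_le_two [Finite Γ] (π : Γ →* Perm (Fin 4)) (hker : π.ker ≤ center Γ)
    (hrange : π.range = alternatingGroup (Fin 4)) (hd : π.ker ≤ commutator Γ) :
    Nat.card π.ker ≤ 2 := by
  have hlift : ∀ g : Perm (Fin 4), g ∈ alternatingGroup (Fin 4) → ∃ G : Γ, π G = g := by
    intro g hg; rw [← hrange] at hg; exact hg
  obtain ⟨X, hX⟩ := hlift (x 0 1 2) (by rw [mem_alternatingGroup]; decide)
  obtain ⟨U₀, hU₀⟩ := hlift (swap 0 1 * swap 2 3) (by rw [mem_alternatingGroup]; decide)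
  -- normalise the lift of the involution
  obtain ⟨U, hU, hUV⟩ : ∃ U : Γ, π U = swap 0 1 * swap 2 3 ∧
      U * (X⁻¹ * U * X) = X⁻¹ * (X⁻¹ * U * X) * X := by
    obtain ⟨e, he, ee⟩ := central_of π hker (a := U₀ * (X⁻¹ * U₀ * X))
      (b := X⁻¹ * (X⁻¹ * U₀ * X) * X) (by
        simp only [map_mul, map_inv, hX, hU₀]; decide)
    have hek : e ∈ π.ker := by
      have : e = U₀ * (X⁻¹ * U₀ * X) * (X⁻¹ * (X⁻¹ * U₀ * X) * X)⁻¹ := by rw [ee]; group
      rw [this, MonoidHom.mem_ker]
      simp only [map_mul, map_inv, hX, hU₀]; decide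
    have hec := mem_center_iff.mp (inv_mem he)
    refine ⟨e⁻¹ * U₀, ?_, ?_⟩
    · rw [map_mul, (MonoidHom.mem_ker).mp (inv_mem hek), one_mul, hU₀]
    · have h1 : X⁻¹ * (e⁻¹ * U₀) * X = e⁻¹ * (X⁻¹ * U₀ * X) := by
        rw [← mul_assoc, hec X⁻¹]; group
      have h2 : X⁻¹ * (e⁻¹ * (X⁻¹ * U₀ * X)) * X = e⁻¹ * (X⁻¹ * (X⁻¹ * U₀ * X) * X) := by
        rw [← mul_assoc X⁻¹ e⁻¹, hec X⁻¹]; group
      rw [h1, h2]
      calc e⁻¹ * U₀ * (e⁻¹ * (X⁻¹ * U₀ * X)) = e⁻¹ * (U₀ * e⁻¹) * (X⁻¹ * U₀ * X) := by group
        _ = e⁻¹ * (e⁻¹ * U₀) * (X⁻¹ * U₀ * X) := by rw [hec U₀]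
        _ = e⁻¹ * (e⁻¹ * (U₀ * (X⁻¹ * U₀ * X))) := by group
        _ = e⁻¹ * (X⁻¹ * (X⁻¹ * U₀ * X) * X) := by rw [ee]; group
  have hX3 : X * X * X ∈ center Γ := hker (by
    rw [MonoidHom.mem_ker]; simp only [map_mul, hX]; decide)
  have hX3c := mem_center_iff.mp hX3
  set V := X⁻¹ * U * X with hVdef
  set W := X⁻¹ * V * X with hWdef
  have hXW : X⁻¹ * W * X = U := by
    calc X⁻¹ * W * X = (X * X * X)⁻¹ * U * (X * X * X) := by rw [hWdef, hVdef]; group
      _ = U := by rw [mul_assoc, hX3c U]; group
  have hVW : V * W = U := by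
    calc V * W = X⁻¹ * (U * V) * X := by rw [hWdef, hVdef]; group
      _ = U := by rw [hUV, hXW]
  have hWU : W * U = V := by
    calc W * U = W * (X⁻¹ * W * X) := by rw [hXW]
      _ = X⁻¹ * (V * W) * X := by nth_rewrite 1 [hWdef]; group
      _ = V := by rw [hVW]
  have hUUk : U * U ∈ π.ker := by
    rw [MonoidHom.mem_ker]; simp only [map_mul, hU]; decide
  have hdc := mem_center_iff.mp (hker hUUk)
  have hV2 : V * V = U * U := by
    calc V * V = X⁻¹ * (U * U) * X := by rw [hVdef]; group
      _ = U * U := by rw [hdc]; group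
  have hW2 : W * W = U * U := by
    calc W * W = X⁻¹ * (V * V) * X := by rw [hWdef]; group
      _ = U * U := by rw [hV2, hdc]; group
  have hdd : (U * U) * (U * U) = 1 := by
    have h1 : V * U = (U * U) * W := by
      rw [← hWU, mul_assoc, hdc]
    have h2 : V * V * U = (U * U) * (U * U) * (U * (V * V)) := by
      calc V * V * U = V * (V * U) := by group
        _ = V * ((U * U) * (U * V)) := by rw [h1, hUV]
        _ = (V * (U * U)) * (U * V) := by group
        _ = (U * U) * (V * U) * V := by rw [hdc V]; group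
        _ = (U * U) * ((U * U) * (U * V)) * V := by rw [h1, hUV]
        _ = _ := by group
    rw [hV2, ← hdc U] at h2
    exact mul_eq_right.mp h2.symm
  -- the normal subgroup
  let N : Subgroup Γ := closure ({U, V} : Set Γ)
  have hUN : U ∈ N := subset_closure (by simp)
  have hVN : V ∈ N := subset_closure (by simp)
  have hWN : W ∈ N := by rw [← hUV]; exact mul_mem hUN hVN
  -- a subgroup containing `X`, `U` and the kernel is everything
  have htop : ∀ P : Subgroup Γ, X ∈ P → U ∈ P → π.ker ≤ P → P = ⊤ := by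
    intro P hXP hUP hkP
    have h1 : alternatingGroup (Fin 4) ≤ P.map π := by
      apply alternating_le_closure_x (o := 0) (l := 1) (by decide)
      intro c h0 h1
      have hx2 : x 0 1 2 ∈ P.map π := ⟨X, hXP, hX⟩
      have hu : swap 0 1 * swap 2 3 ∈ P.map π := ⟨U, hUP, hU⟩
      have hx3 : (x 0 1 3 : Perm (Fin 4)) ∈ P.map π := by
        have := s_conj_x (o := (0 : Fin 4)) (l := 1) (c := 2) (d := 3) (by decide) (by decide)
          (by decide) (by decide)
        rw [← inv_mem_iff, ← this]
        exact mul_mem (mul_mem hu hx2) (inv_mem hu)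
      fin_cases c
      · exact absurd rfl h0
      · exact absurd rfl h1
      · exact hx2
      · exact hx3
    rw [eq_top_iff]
    intro g _
    obtain ⟨h, hh, e⟩ := h1 (show π g ∈ alternatingGroup (Fin 4) by rw [← hrange]; exact ⟨g, rfl⟩)
    have : g = h * (h⁻¹ * g) := by group
    rw [this]
    exact mul_mem hh (hkP (by rw [MonoidHom.mem_ker, map_mul, map_inv, e, inv_mul_cancel]))
  have hNX : ∀ n ∈ N, X⁻¹ * n * X ∈ N := by
    intro n hn
    have : N ≤ N.comap (MulAut.conj X⁻¹).toMonoidHom := by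
      rw [closure_le]
      rintro g hg
      simp only [Set.mem_insert_iff, Set.mem_singleton_iff] at hg
      change (MulAut.conj X⁻¹) g ∈ N
      rw [MulAut.conj_apply, inv_inv]
      rcases hg with rfl | rfl
      · exact hVN
      · exact hWN
    have h := this hn
    change (MulAut.conj X⁻¹) n ∈ N at h
    rwa [MulAut.conj_apply, inv_inv] at h
  have hNnorm : normalizer (N : Set Γ) = ⊤ := by
    apply htop
    · rw [mem_normalizer_iff]
      intro n
      constructor
      · intro hn
        have : X * n * X⁻¹ = X⁻¹ * (X⁻¹ * n * X) * X := by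
          calc X * n * X⁻¹ = X⁻¹ * X⁻¹ * ((X * X * X) * n) * X⁻¹ := by group
            _ = X⁻¹ * X⁻¹ * (n * (X * X * X)) * X⁻¹ := by rw [hX3c n]
            _ = _ := by group
        rw [this]
        exact hNX _ (hNX _ hn)
      · intro hn
        have : n = X⁻¹ * (X * n * X⁻¹) * X := by group
        rw [this]
        exact hNX _ hn
    · exact le_normalizer hUN
    · exact le_trans hker (center_le_normalizer _)
  have hN : N.Normal := normalizer_eq_top_iff.mp hNnorm
  -- the quotient is commutative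
  have hkerq : ∀ w ∈ π.ker, ∀ b : Γ, QuotientGroup.mk' N b * QuotientGroup.mk' N w =
      QuotientGroup.mk' N w * QuotientGroup.mk' N b := by
    intro w hw b
    rw [← map_mul, ← map_mul, mem_center_iff.mp (hker hw) b]
  have hUq : QuotientGroup.mk' N U = 1 := by
    rw [← MonoidHom.mem_ker, QuotientGroup.ker_mk']; exact hUN
  have hXcentral : ∀ b : Γ, QuotientGroup.mk' N b * QuotientGroup.mk' N X =
      QuotientGroup.mk' N X * QuotientGroup.mk' N b := by
    have h := htop ((centralizer {QuotientGroup.mk' N X}).comap (QuotientGroup.mk' N)) ?_ ?_ ?_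
    · intro b
      have hb : b ∈ (centralizer {QuotientGroup.mk' N X}).comap (QuotientGroup.mk' N) := by
        rw [h]; trivial
      exact ((mem_centralizer_iff.mp hb) _ rfl).symm
    · rw [mem_comap, mem_centralizer_iff]; rintro _ rfl; rfl
    · rw [mem_comap, mem_centralizer_iff]; rintro _ rfl; rw [hUq, one_mul, mul_one]
    · intro w hw
      rw [mem_comap, mem_centralizer_iff]; rintro _ rfl; exact hkerq w hw X
  have hcomm : ∀ a b : Γ, QuotientGroup.mk' N b * QuotientGroup.mk' N a =
      QuotientGroup.mk' N a * QuotientGroup.mk' N b := by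
    have h := htop ((center (Γ ⧸ N)).comap (QuotientGroup.mk' N)) ?_ ?_ ?_
    · intro a b
      have ha : a ∈ (center (Γ ⧸ N)).comap (QuotientGroup.mk' N) := by
        rw [h]; trivial
      exact (mem_center_iff.mp ha) _
    · rw [mem_comap, mem_center_iff]; intro g
      obtain ⟨b, rfl⟩ := QuotientGroup.mk'_surjective N g
      exact hXcentral b
    · rw [mem_comap, mem_center_iff]; intro g; rw [hUq, one_mul, mul_one]
    · intro w hw
      rw [mem_comap, mem_center_iff]; intro g
      obtain ⟨b, rfl⟩ := QuotientGroup.mk'_surjective N g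
      exact hkerq w hw b
  have hcN : commutator Γ ≤ N := by
    rw [commutator_def, commutator_le]
    intro a _ b _
    rw [← QuotientGroup.ker_mk' N, MonoidHom.mem_ker, commutatorElement_def]
    simp only [map_mul, map_inv]
    rw [hcomm b a]; group
  -- conclusion
  have hsub : (π.ker : Set Γ) ⊆ {1, U * U} := by
    intro w hw
    obtain ⟨v, hv, hwv⟩ := quaternion_elements (d := U * U) rfl hV2 hW2 hUV hWU hdc hdd
      (hcN (hd hw))
    have hπv : π v = 1 := by
      have hw' : π w = 1 := hw
      rcases hwv with rfl | rfl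
      · exact hw'
      · rwa [map_mul, (MonoidHom.mem_ker).mp hUUk, one_mul] at hw'
    have hv1 : v = 1 := by
      simp only [Set.mem_insert_iff, Set.mem_singleton_iff] at hv
      rcases hv with h | h | h | h
      · exact h
      · exfalso; rw [h, hU] at hπv; revert hπv; decide
      · exfalso; rw [h, hVdef] at hπv; simp only [map_mul, map_inv, hX, hU] at hπv
        revert hπv; decide
      · exfalso; rw [h, hWdef, hVdef] at hπv; simp only [map_mul, map_inv, hX, hU] at hπv
        revert hπv; decide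
    rw [hv1] at hwv
    simpa using hwv
  calc Nat.card π.ker = (π.ker : Set Γ).ncard := by rw [← Nat.card_coe_set_eq]; rfl
    _ ≤ ({1, U * U} : Set Γ).ncard := Set.ncard_le_ncard hsub (Set.toFinite _)
    _ ≤ 2 := by
      refine (Set.ncard_insert_le _ _).trans ?_
      rw [Set.ncard_singleton]

end Cfsg.Agent.CharactersDeep.SchurAltFour
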